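import Cfsg.Agent.Lib.LocalBalance.GraphHalf

/-!
An involution of a quadratic space up to scalars, self-adjoint for the form, with eigenspaces over an extension:
its centraliser in the isometry group has no odd normal subgroup, and a semilinear similarity commuting up to
scalars with the commutators of the centraliser is linear and lies in the span of the involution.
-/

set_option autoImplicit false
set_option linter.style.haveILetI false

namespace CfsgLib.LocalBalance

open Matrix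
open scoped commutatorElement

namespace HForm

variable {n : ℕ} {F : Type*} [Field F] (H : HForm n F)

/-- For a symmetric form a product of two reflections in vectors of equal norm is a commutator. -/
theorem refl_mul_eq_commutator (hσ : ∀ a, H.σ a = a) {v w : Fin n → F} (hv : H.form v v ≠ 0)
    (hw : H.form w w ≠ 0) (hvw : H.form w w = H.form v v) :
    ∃ u ∈ H.iso, H.refl w hw * H.refl v hv = ⁅u, H.refl v hv⁆ := by
  have hsym : ∀ x y, H.form y x = H.form x y := fun x y => by rw [H.conj_symm x y, hσ]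
  have key : ∀ s : F, s = 1 ∨ s = -1 → H.form (v - s • w) (v - s • w) ≠ 0 →
      ∃ u ∈ H.iso, H.refl w hw * H.refl v hv = ⁅u, H.refl v hv⁆ := by
    intro s hs hu
    refine ⟨H.refl _ hu, H.refl_mem hu, ?_⟩
    have hs2 : s * s = 1 := by rcases hs with rfl | rfl <;> ring
    have hmap : (H.refl _ hu).1 *ᵥ v = s • w := by
      have e : 2 / H.form (v - s • w) (v - s • w) * H.form v (v - s • w) = 1 := by
        have e2 : H.form (v - s • w) (v - s • w) = 2 * H.form v (v - s • w) := by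
          simp only [H.sub_left, H.sub_right, H.smul_left, H.smul_right, hσ, hvw, hsym v w]
          linear_combination H.form v v * hs2
        rw [e2] at hu ⊢
        rw [div_mul_eq_mul_div, div_self hu]
      rw [H.refl_apply, e, one_smul, sub_sub_cancel]
    have hsw : H.form (s • w) (s • w) ≠ 0 := by
      rw [H.smul_left, H.smul_right, hσ, ← mul_assoc, hs2, one_mul]; exact hw
    have e2 : H.refl _ hu * H.refl v hv * (H.refl _ hu)⁻¹ = H.refl w hw := by
      rw [H.conj_refl (H.refl_mem hu) hv, ← H.refl_smul hw hsw]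
      congr 1
    rw [commutatorElement_def, e2, H.refl_inv]
  by_cases h1 : H.form (v - (1 : F) • w) (v - (1 : F) • w) = 0
  · refine key (-1) (Or.inr rfl) fun h2 => ?_
    simp only [H.sub_left, H.sub_right, H.smul_left, H.smul_right, hσ, hvw, hsym v w] at h1 h2
    exact mul_ne_zero (mul_ne_zero H.two H.two) hv (by linear_combination h1 + h2)
  · exact key 1 (Or.inl rfl) h1

end HForm

namespace Graph

variable {ι : Type} [Fintype ι] [DecidableEq ι] {F K : Type*} [Field F] [Field K]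

/-- Equal dimensions from inverse matrices. -/
theorem dim_eq {κ ρ : Type*} [Fintype κ] [DecidableEq κ] [Fintype ρ] [DecidableEq ρ] {A : Matrix κ ρ K}
    {B : Matrix ρ κ K} (h1 : A * B = 1) (h2 : B * A = 1) : Fintype.card κ = Fintype.card ρ := by
  let e : (ρ → K) ≃ₗ[K] (κ → K) := LinearEquiv.ofLinear (Matrix.toLin' A) (Matrix.toLin' B)
    (by rw [← Matrix.toLin'_mul, h1, Matrix.toLin'_one]) (by rw [← Matrix.toLin'_mul, h2, Matrix.toLin'_one])
  have h := e.finrank_eq
  rw [Module.finrank_fintype_fun_eq_card, Module.finrank_fintype_fun_eq_card] at h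
  exact h.symm

/-- The input data. -/
structure Setup (ι : Type) [Fintype ι] [DecidableEq ι] (F K : Type*) [Field F] [Field K] where
  M : Matrix ι ι F
  g : Matrix ι ι F
  c : F
  φ : F →+* K
  r : K
  c_ne : c ≠ 0
  two : (2 : F) ≠ 0
  r_sq : r * r = φ c
  gg : g * g = c • (1 : Matrix ι ι F)
  symm : Mᵀ = M
  hM : IsUnit M.det
  adj : M * g = gᵀ * M

namespace Setup

variable (S : Setup ι F K)

include S in
theorem two' : (2 : K) ≠ 0 := by rw [← map_ofNat S.φ 2]; exact (map_ne_zero S.φ).mpr S.two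

theorem r_ne : S.r ≠ 0 := fun h => (map_ne_zero S.φ).mpr S.c_ne (by rw [← S.r_sq, h, mul_zero])

/-- The form over the extension. -/
def MK : Matrix ι ι K := S.M.map S.φ

theorem MK_symm : S.MKᵀ = S.MK := by rw [MK, ← Matrix.transpose_map, S.symm]

theorem MK_det : IsUnit S.MK.det := by
  rw [MK, ← RingHom.mapMatrix_apply, ← RingHom.map_det]
  exact S.hM.map _

/-- The involution over the extension. -/
def G : Matrix ι ι K := S.r⁻¹ • S.g.map S.φ

theorem G_G : S.G * S.G = 1 := by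
  rw [G, Matrix.smul_mul, Matrix.mul_smul, ← Matrix.map_mul, S.gg, Matrix.map_smul' S.φ S.c _ (map_mul S.φ),
    Matrix.map_one S.φ (map_zero _) (map_one _), smul_smul, smul_smul, ← S.r_sq]
  rw [show S.r⁻¹ * S.r⁻¹ * (S.r * S.r) = 1 by field_simp [S.r_ne], one_smul]

theorem G_adj : S.MK * S.G = S.Gᵀ * S.MK := by
  rw [G, MK, Matrix.mul_smul, Matrix.transpose_smul, Matrix.smul_mul, ← Matrix.map_mul, ← Matrix.transpose_map,
    ← Matrix.map_mul, S.adj]

/-- The projection to the positive eigenspace. -/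
def E : Matrix ι ι K := (2 : K)⁻¹ • (1 + S.G)

/-- The setup for the other root. -/
def neg : Setup ι F K := { S with r := -S.r, r_sq := by rw [neg_mul_neg, S.r_sq] }

theorem neg_G : S.neg.G = -S.G := by
  show (-S.r)⁻¹ • S.g.map S.φ = -(S.r⁻¹ • S.g.map S.φ)
  rw [inv_neg, neg_smul]

theorem neg_E : S.neg.E = 1 - S.E := by
  have h2 := S.two'
  rw [E, E, neg_G]
  match_scalars <;> field_simp <;> ring

theorem G_eq : S.G = S.E - S.neg.E := by
  have h2 := S.two'
  rw [E, E, neg_G]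
  match_scalars <;> field_simp <;> ring

theorem E_E : S.E * S.E = S.E := by
  have h2 := S.two'
  rw [E, Matrix.smul_mul, Matrix.mul_smul, Matrix.add_mul, Matrix.one_mul, Matrix.mul_add, Matrix.mul_one, S.G_G]
  match_scalars <;> field_simp <;> ring

theorem E_adj : S.MK * S.E = S.Eᵀ * S.MK := by
  rw [E, Matrix.mul_smul, Matrix.transpose_smul, Matrix.smul_mul, Matrix.mul_add, Matrix.transpose_add,
    Matrix.add_mul, S.G_adj, Matrix.transpose_one, Matrix.mul_one, Matrix.one_mul]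

theorem comm_E {o : Matrix ι ι F} (ho : o * S.g = S.g * o) : o.map S.φ * S.E = S.E * o.map S.φ := by
  rw [E, G, Matrix.mul_smul, Matrix.smul_mul, Matrix.mul_add, Matrix.add_mul, Matrix.mul_one, Matrix.one_mul,
    Matrix.mul_smul, Matrix.smul_mul, ← Matrix.map_mul, ← Matrix.map_mul, ho]

/-- The isometries commuting with the involution. -/
def cent : Subgroup (GL ι F) where
  carrier := {o | (o : Matrix ι ι F)ᵀ * S.M * (o : Matrix ι ι F) = S.M ∧
    (o : Matrix ι ι F) * S.g = S.g * (o : Matrix ι ι F)}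
  one_mem' := by simp
  mul_mem' := fun {a b} ha hb => by
    refine ⟨?_, ?_⟩
    · calc ((a * b : GL ι F) : Matrix ι ι F)ᵀ * S.M * ((a * b : GL ι F) : Matrix ι ι F)
          = (b : Matrix ι ι F)ᵀ * ((a : Matrix ι ι F)ᵀ * S.M * (a : Matrix ι ι F)) * (b : Matrix ι ι F) := by
            simp only [Units.val_mul, Matrix.transpose_mul, Matrix.mul_assoc]
        _ = S.M := by rw [ha.1, hb.1]
    · rw [Units.val_mul, Matrix.mul_assoc, hb.2, ← Matrix.mul_assoc, ha.2, Matrix.mul_assoc]
  inv_mem' := fun {a} ha => by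
    have hc : Commute a⁻¹.1 S.g := Commute.units_inv_left (u := a) ha.2
    refine ⟨?_, hc⟩
    calc a⁻¹.1ᵀ * S.M * a⁻¹.1 = a⁻¹.1ᵀ * ((a : Matrix ι ι F)ᵀ * S.M * (a : Matrix ι ι F)) * a⁻¹.1 := by rw [ha.1]
      _ = ((a : Matrix ι ι F) * a⁻¹.1)ᵀ * S.M * ((a : Matrix ι ι F) * a⁻¹.1) := by
        simp only [Matrix.transpose_mul, Matrix.mul_assoc]
      _ = S.M := by rw [Units.mul_inv, Matrix.transpose_one, Matrix.one_mul, Matrix.mul_one]

theorem mem_cent {o : GL ι F} : o ∈ S.cent ↔ (o : Matrix ι ι F)ᵀ * S.M * (o : Matrix ι ι F) = S.M ∧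
    (o : Matrix ι ι F) * S.g = S.g * (o : Matrix ι ι F) := Iff.rfl

theorem map_iso {o : Matrix ι ι F} (ho : oᵀ * S.M * o = S.M) : (o.map S.φ)ᵀ * S.MK * o.map S.φ = S.MK := by
  rw [MK, ← Matrix.transpose_map, ← Matrix.map_mul, ← Matrix.map_mul, ho]

/-- Restriction to an eigenspace. -/
def res (h : Half S.E) : ↥S.cent →* GL (Fin h.d) K :=
  MonoidHom.toHomUnits
    { toFun := fun o => h.res ((o.1 : Matrix ι ι F).map S.φ)
      map_one' := by
        show h.res (((1 : GL ι F) : Matrix ι ι F).map S.φ) = 1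
        rw [Units.val_one, Matrix.map_one S.φ (map_zero _) (map_one _), h.res_one]
      map_mul' := fun a b => by
        show h.res (((a.1 * b.1 : GL ι F) : Matrix ι ι F).map S.φ) = _
        rw [Units.val_mul, Matrix.map_mul, h.res_mul (S.comm_E a.2.2)] }

theorem res_coe (h : Half S.E) (o : ↥S.cent) :
    (S.res h o : Matrix (Fin h.d) (Fin h.d) K) = h.res ((o.1 : Matrix ι ι F).map S.φ) := rfl

end Setup

/-- The restricted form on an eigenspace. -/
noncomputable def Setup.form [Fintype K] (S : Setup ι F K) (h : Half S.E) : HForm h.d K :=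
  h.form S.MK S.MK_det S.MK_symm S.E_adj S.two'

/-- Every isometry of the eigenspace comes from the centraliser. -/
def Lifts [Fintype K] (S : Setup ι F K) (h : Half S.E) : Prop :=
  ∀ X ∈ (S.form h).iso, ∃ o : ↥S.cent, S.res h o = X

/-- A semilinear extension mapping the root to the prescribed multiple. -/
def ExtAdj (S : Setup ι F K) : Prop :=
  ∀ (τ : F ≃+* F) (l : F), τ S.c = l * l * S.c →
    ∃ τK : K ≃+* K, (∀ a, τK (S.φ a) = S.φ (τ a)) ∧ τK S.r = S.φ l * S.r

/-- Any semilinear extension, with lifts trivial on the other eigenspace. -/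
def ExtAny [Fintype K] (S : Setup ι F K) (hp : Half S.E) (hm : Half S.neg.E) : Prop :=
  (∀ τ : F ≃+* F, ∃ τK : K ≃+* K, ∀ a, τK (S.φ a) = S.φ (τ a)) ∧
    ∀ X ∈ (S.form hp).iso, ∃ o : ↥S.cent, S.res hp o = X ∧ hm.res ((o.1 : Matrix ι ι F).map S.φ) = 1

/-- The eigenspaces of the involution, with lifts. -/
structure Data [Fintype K] (S : Setup ι F K) where
  hp : Half S.E
  hm : Half S.neg.E
  odd_p : Odd hp.d
  odd_m : Odd hm.d
  dsum : hp.d + hm.d = Fintype.card ι
  liftp : Lifts S hp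
  liftm : Lifts S.neg hm
  ext : ExtAdj S ∨ ExtAny S hp hm

theorem mat_scalar_of_le_one {d : ℕ} (hd : d ≤ 1) (X : Matrix (Fin d) (Fin d) K) :
    ∃ a : K, X = a • (1 : Matrix (Fin d) (Fin d) K) := by
  rcases Nat.le_one_iff_eq_zero_or_eq_one.mp hd with rfl | rfl
  · exact ⟨0, Matrix.ext fun i => i.elim0⟩
  · exact ⟨X 0 0, Matrix.ext fun i j => by simp [Subsingleton.elim i 0, Subsingleton.elim j 0]⟩

variable [Fintype K]

theorem Setup.res_mem (S : Setup ι F K) (h : Half S.E) (o : ↥S.cent) : S.res h o ∈ (S.form h).iso :=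
  (h.mem_form_iso S.MK_det S.MK_symm S.E_adj S.two' _).mpr
    (by rw [S.res_coe]; exact h.res_iso (S.comm_E o.2.2) (S.map_iso o.2.1))

/-- A scalar isometry squares to one. -/
theorem Setup.sq_one_of_scalar (S : Setup ι F K) (h : Half S.E) (hd : 0 < h.d) {X : GL (Fin h.d) K}
    (hX : X ∈ (S.form h).iso) {a : K} (ha : (X : Matrix (Fin h.d) (Fin h.d) K) = a • 1) : a * a = 1 ∧ X * X = 1 := by
  have h1 := (h.mem_form_iso S.MK_det S.MK_symm S.E_adj S.two' X).mp hX
  rw [ha, Matrix.transpose_smul, Matrix.transpose_one, Matrix.smul_mul, Matrix.one_mul, Matrix.mul_smul,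
    Matrix.mul_one, smul_smul] at h1
  haveI : Nonempty (Fin h.d) := ⟨⟨0, hd⟩⟩
  have hne : h.gram S.MK ≠ 0 := fun h0 => h.gram_det_ne S.MK_det S.E_adj (by rw [h0, Matrix.det_zero])
  have haa : a * a = 1 := by
    by_contra hne'
    refine hne ?_
    have h2 : (a * a - 1) • h.gram S.MK = 0 := by rw [sub_smul, one_smul, h1, sub_self]
    exact (smul_eq_zero.mp h2).resolve_left (sub_ne_zero.mpr hne')
  refine ⟨haa, Units.ext ?_⟩
  rw [Units.val_mul, ha, Matrix.smul_mul, Matrix.one_mul, smul_smul, haa, one_smul, Units.val_one]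

/-- A subgroup of odd order normal in the centraliser is trivial on an eigenspace. -/
theorem Setup.res_eq_one (S : Setup ι F K) (h : Half S.E) (hd : Odd h.d) (hl : Lifts S h)
    (N : Subgroup ↥S.cent) [N.Normal] (hN : ∀ o ∈ N, Odd (orderOf o)) :
    ∀ o ∈ N, S.res h o = 1 := by
  have hodd : ∀ X ∈ N.map (S.res h), Odd (orderOf X) := by
    rintro _ ⟨o, ho, rfl⟩
    exact (hN o ho).of_dvd_nat (orderOf_map_dvd _ o)
  have inv : ∀ X ∈ N.map (S.res h), X * X = 1 → X = 1 := fun X hX h2 => by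
    refine orderOf_eq_one_iff.mp ?_
    have h3 : orderOf X ∣ 2 := orderOf_dvd_of_pow_eq_one (by rw [pow_two, h2])
    rcases (Nat.dvd_prime Nat.prime_two).mp h3 with h4 | h4
    · exact h4
    · exact absurd (h4 ▸ hodd X hX) (by decide)
  have hiso : ∀ X ∈ N.map (S.res h), X ∈ (S.form h).iso := by
    rintro _ ⟨o, -, rfl⟩; exact S.res_mem h o
  have hscal : ∀ X ∈ N.map (S.res h), ∃ a : K,
      (X : Matrix (Fin h.d) (Fin h.d) K) = a • (1 : Matrix (Fin h.d) (Fin h.d) K) := by
    by_cases h3 : 3 ≤ h.d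
    · refine (S.form h).mem_scalars h3 _ hiso (fun v hv X hX => ?_) fun X hX => ?_
      · obtain ⟨u, hu⟩ := hl _ ((S.form h).refl_mem hv)
        obtain ⟨o, ho, rfl⟩ := hX
        refine ⟨u * o * u⁻¹, ‹N.Normal›.conj_mem o ho u, ?_⟩
        rw [map_mul, map_mul, map_inv, hu, (S.form h).refl_inv]
      · rintro ⟨a, ha⟩
        have h4 := (S.sq_one_of_scalar h hd.pos (mul_mem (hiso X hX) (hiso X hX))
          (by rw [Units.val_mul]; exact ha)).2
        have h5 : X * X = 1 := inv _ (mul_mem hX hX) h4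
        exact ⟨1, by rw [inv X hX h5, Units.val_one, one_smul]⟩
    · exact fun X _ => mat_scalar_of_le_one (by obtain ⟨k, hk⟩ := hd; omega) _
  intro o ho
  obtain ⟨a, ha⟩ := hscal _ ⟨o, ho, rfl⟩
  exact inv _ ⟨o, ho, rfl⟩ (S.sq_one_of_scalar h hd.pos (S.res_mem h o) ha).2

namespace Data

variable {S : Setup ι F K} (D : Data S)

include D in
/-- The centraliser of the involution in the isometry group has no non-trivial odd normal subgroup. -/
theorem odd_normal_eq_one (N : Subgroup ↥S.cent) [hn : N.Normal] (hN : ∀ o ∈ N, Odd (orderOf o)) {o : ↥S.cent}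
    (ho : o ∈ N) : o = 1 := by
  have h1 := congrArg Units.val (S.res_eq_one D.hp D.odd_p D.liftp N hN o ho)
  have h2 := congrArg Units.val (@Setup.res_eq_one ι _ _ F K _ _ _ S.neg D.hm D.odd_m D.liftm N hn hN o ho)
  simp only [Units.val_one, S.res_coe] at h1
  simp only [Units.val_one] at h2
  set A := (o.1 : Matrix ι ι F).map S.φ with hA
  have e1 : A * S.E = S.E := by rw [← D.hp.P_res_L (S.comm_E o.2.2), ← hA, h1, Matrix.mul_one, D.hp.P_L]
  have h2' : D.hm.res A = 1 := h2
  have e2 : A * S.neg.E = S.neg.E := by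
    have h3 : A * S.neg.E = S.neg.E * A := S.neg.comm_E o.2.2
    rw [← D.hm.P_res_L h3, h2', Matrix.mul_one, D.hm.P_L]
  have e3 : A = 1 := by
    have := congrArg₂ (· + ·) e1 e2
    simp only [← Matrix.mul_add, S.neg_E, add_sub_cancel, Matrix.mul_one] at this
    exact this
  refine Subtype.ext (Units.ext (Matrix.ext fun i j => S.φ.injective ?_))
  have h4 := congrFun (congrFun e3 i) j
  rw [hA, Matrix.map_apply] at h4
  rw [h4, OneMemClass.coe_one, Units.val_one]
  by_cases hij : i = j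
  · subst hij; simp
  · simp [hij]

/-! ### Semilinear maps commuting with the commutators -/

/-- On an eigenspace preserved by the semilinear map it is a scalar, and linear if the dimension is large. -/
theorem aligned_half (T : Setup ι F K) (h : Half T.E) (hd : Odd h.d) (hl : Lifts T h)
    (τK : K ≃+* K) {H Hi : Matrix ι ι K} (hHi : H * Hi = 1)
    (hH : H * T.E.map τK = T.E * H)
    (hs : ∀ o o' : ↥T.cent, ∃ z : K,
      H * (((⁅o, o'⁆ : ↥T.cent).1 : Matrix ι ι F).map T.φ).map τK =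
        z • (((⁅o, o'⁆ : ↥T.cent).1 : Matrix ι ι F).map T.φ * H)) :
    ∃ a : K, a ≠ 0 ∧ h.L * H * h.P.map τK = a • 1 ∧ (3 ≤ h.d → ∀ x, τK x = x) := by
  set Y := h.L * H * h.P.map τK with hY
  have hYi : Y * (h.L.map τK * Hi * h.P) = 1 :=
    calc Y * (h.L.map τK * Hi * h.P) = h.L * (H * (h.P * h.L).map τK) * Hi * h.P := by
          rw [Matrix.map_mul]; simp only [hY, Matrix.mul_assoc]
      _ = 1 := by
          rw [h.P_L, hH, ← Matrix.mul_assoc h.L, h.L_E, Matrix.mul_assoc h.L, hHi, Matrix.mul_one, h.L_P]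
  have hdet : Y.det ≠ 0 := (Matrix.isUnit_det_of_right_inverse hYi).ne_zero
  have key : ∀ o o' : ↥T.cent, ∃ z : K,
      Y * ((T.res h ⁅o, o'⁆ : GL (Fin h.d) K) : Matrix (Fin h.d) (Fin h.d) K).map τK =
        z • (((T.res h ⁅o, o'⁆ : GL (Fin h.d) K) : Matrix (Fin h.d) (Fin h.d) K) * Y) := by
    intro o o'
    obtain ⟨z, hz⟩ := hs o o'
    set A := ((⁅o, o'⁆ : ↥T.cent).1 : Matrix ι ι F).map T.φ with hA
    have hAE : A * T.E = T.E * A := T.comm_E (⁅o, o'⁆ : ↥T.cent).2.2
    refine ⟨z, ?_⟩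
    rw [T.res_coe, ← hA]
    calc Y * (h.res A).map τK = h.L * H * (h.P * h.res A).map τK := by
          rw [Matrix.map_mul]; simp only [hY, Matrix.mul_assoc]
      _ = h.L * (H * A.map τK) * h.P.map τK := by
          rw [h.P_res hAE, Matrix.map_mul]; simp only [Matrix.mul_assoc]
      _ = z • ((h.L * A) * H * h.P.map τK) := by
          rw [hz, Matrix.mul_smul, Matrix.smul_mul]; simp only [Matrix.mul_assoc]
      _ = z • (h.res A * Y) := by rw [← h.res_L hAE]; simp only [hY, Matrix.mul_assoc]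
  by_cases h3 : 3 ≤ h.d
  · obtain ⟨a, ha, hτ⟩ := (T.form h).semilinear_scalar_eq (RingHom.id K) h3 τK Y hdet (by
      intro v w hv hw hvw
      obtain ⟨u, hu, he⟩ := (T.form h).refl_mul_eq_commutator (fun _ => rfl) hv hw hvw
      obtain ⟨o, ho⟩ := hl u hu
      obtain ⟨o', ho'⟩ := hl _ ((T.form h).refl_mem hv)
      obtain ⟨z, hz⟩ := key o o'
      rw [map_commutatorElement, ho, ho', ← he] at hz
      exact ⟨z, hz⟩)
    refine ⟨a, ?_, ha, fun _ => hτ⟩
    rintro rfl
    haveI : Nonempty (Fin h.d) := ⟨⟨0, hd.pos⟩⟩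
    exact hdet (by rw [ha, zero_smul, Matrix.det_zero])
  · obtain ⟨a, ha⟩ := mat_scalar_of_le_one (by obtain ⟨k, hk⟩ := hd; omega) Y
    refine ⟨a, ?_, ha, fun h' => absurd h' h3⟩
    rintro rfl
    haveI : Nonempty (Fin h.d) := ⟨⟨0, hd.pos⟩⟩
    exact hdet (by rw [ha, zero_smul, Matrix.det_zero])

include D in
/-- A similarity in the aligned case is linear and a combination of the identity and the involution. -/
theorem scalar_of_aligned (hN : 6 ≤ Fintype.card ι) (τ : F ≃+* F) (τK : K ≃+* K)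
    (hext : ∀ a, τK (S.φ a) = S.φ (τ a)) (h : GL ι F) (ν : F)
    (hsim : (h : Matrix ι ι F)ᵀ * S.M * (h : Matrix ι ι F) = ν • S.M.map τ)
    (hs : ∀ o o' : ↥S.cent, ∃ z : F, (h : Matrix ι ι F) * (((⁅o, o'⁆ : ↥S.cent).1 : Matrix ι ι F)).map τ =
      z • (((⁅o, o'⁆ : ↥S.cent).1 : Matrix ι ι F) * (h : Matrix ι ι F)))
    (hE : (h : Matrix ι ι F).map S.φ * S.E.map τK = S.E * (h : Matrix ι ι F).map S.φ) :
    τ = 1 ∧ ∃ k : F, (h : Matrix ι ι F) = k • (1 : Matrix ι ι F) ∨ (h : Matrix ι ι F) = k • S.g := by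
  set H := (h : Matrix ι ι F).map S.φ with hH
  have hHi : H * (h⁻¹.1).map S.φ = 1 := by
    rw [hH, ← Matrix.map_mul, Units.mul_inv, Matrix.map_one S.φ (map_zero _) (map_one _)]
  have hmm : ∀ X : Matrix ι ι F, (X.map S.φ).map τK = (X.map τ).map S.φ := fun X => by
    ext i j; exact hext _
  have hsK : ∀ o o' : ↥S.cent, ∃ z : K,
      H * (((⁅o, o'⁆ : ↥S.cent).1 : Matrix ι ι F).map S.φ).map τK =
        z • (((⁅o, o'⁆ : ↥S.cent).1 : Matrix ι ι F).map S.φ * H) := fun o o' => by
    obtain ⟨z, hz⟩ := hs o o'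
    refine ⟨S.φ z, ?_⟩
    rw [hmm, hH, ← Matrix.map_mul, hz, Matrix.map_smul' S.φ z _ (map_mul S.φ), Matrix.map_mul]
  have hE' : H * S.neg.E.map τK = S.neg.E * H := by
    rw [S.neg_E, Matrix.map_sub τK (map_sub τK), Matrix.map_one τK (map_zero _) (map_one _), Matrix.mul_sub,
      hE, Matrix.mul_one, Matrix.sub_mul, Matrix.one_mul]
  obtain ⟨α, hα0, hα, hτp⟩ := aligned_half S D.hp D.odd_p D.liftp τK hHi hE hsK
  obtain ⟨β, hβ0, hβ, hτm⟩ := aligned_half S.neg D.hm D.odd_m D.liftm τK hHi hE' hsK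
  have hτ : ∀ x, τK x = x := by
    have := D.dsum
    rcases le_or_gt 3 D.hp.d with h3 | h3
    · exact hτp h3
    · exact hτm (by omega)
  have hτ1 : τ = 1 := RingEquiv.ext fun a => S.φ.injective (by rw [← hext, hτ]; rfl)
  refine ⟨hτ1, ?_⟩
  have hid : ∀ {κ κ' : Type} (X : Matrix κ κ' K), X.map τK = X := fun X => Matrix.ext fun i j => hτ _
  rw [hid] at hE hE' hα hβ
  have hHp : H * S.E = α • S.E := by
    rw [← D.hp.P_res_L hE, show D.hp.res H = _ from hα, Matrix.mul_smul, Matrix.mul_one, Matrix.smul_mul, D.hp.P_L]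
  have hHm : H * S.neg.E = β • S.neg.E := by
    rw [← D.hm.P_res_L hE', show D.hm.res H = _ from hβ, Matrix.mul_smul, Matrix.mul_one, Matrix.smul_mul, D.hm.P_L]
  have hdec : H = α • S.E + β • S.neg.E := by
    rw [← hHp, ← hHm, S.neg_E, ← Matrix.mul_add, add_sub_cancel, Matrix.mul_one]
  have hsimK : Hᵀ * S.MK * H = S.φ ν • S.MK := by
    rw [hH, Setup.MK, ← Matrix.transpose_map, ← Matrix.map_mul, ← Matrix.map_mul, hsim,
      Matrix.map_smul' S.φ ν _ (map_mul S.φ), hτ1]
    rfl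
  have hsq : ∀ (T : Setup ι F K) (e : Half T.E) (a : K), 0 < e.d → H * T.E = T.E * H →
      e.res H = a • 1 → T.MK = S.MK → a * a = S.φ ν := by
    intro T e a hd hc ha hM
    have h1 : (e.res H)ᵀ * e.gram T.MK * e.res H = S.φ ν • e.gram T.MK :=
      calc (e.res H)ᵀ * (e.Pᵀ * T.MK * e.P) * e.res H = (e.P * e.res H)ᵀ * T.MK * (e.P * e.res H) := by
            simp only [Matrix.transpose_mul, Matrix.mul_assoc]
        _ = e.Pᵀ * (Hᵀ * S.MK * H) * e.P := by
            rw [e.P_res hc, hM]; simp only [Matrix.transpose_mul, Matrix.mul_assoc]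
        _ = _ := by rw [hsimK, hM, Half.gram, Matrix.mul_smul, Matrix.smul_mul]
    rw [ha, Matrix.transpose_smul, Matrix.transpose_one, Matrix.smul_mul, Matrix.one_mul, Matrix.mul_smul,
      Matrix.mul_one, smul_smul] at h1
    haveI : Nonempty (Fin e.d) := ⟨⟨0, hd⟩⟩
    have hne : e.gram T.MK ≠ 0 := fun h0 => e.gram_det_ne T.MK_det T.E_adj (by rw [h0, Matrix.det_zero])
    by_contra hne'
    have h2 : (a * a - S.φ ν) • e.gram T.MK = 0 := by rw [sub_smul, h1, sub_self]
    exact hne ((smul_eq_zero.mp h2).resolve_left (sub_ne_zero.mpr hne'))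
  have hαβ : α * α = β * β := (hsq S D.hp α D.odd_p.pos hE hα rfl).trans
    (hsq S.neg D.hm β D.odd_m.pos hE' hβ rfl).symm
  obtain ⟨i₀⟩ : Nonempty ι := Fintype.card_pos_iff.mp (by omega)
  have descend : ∀ (X : Matrix ι ι F) (w : K), X ≠ 0 → H = w • X.map S.φ →
      ∃ k : F, (h : Matrix ι ι F) = k • X := by
    intro X w hX hw
    obtain ⟨i, j, hij⟩ : ∃ i j, X i j ≠ 0 := by
      by_contra! hc
      exact hX (Matrix.ext hc)
    refine ⟨(h : Matrix ι ι F) i j / X i j, Matrix.ext fun a b => S.φ.injective ?_⟩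
    have h1 := congrFun (congrFun hw a) b
    have h2 := congrFun (congrFun hw i) j
    simp only [hH, Matrix.map_apply, Matrix.smul_apply, smul_eq_mul] at h1 h2
    rw [Matrix.smul_apply, smul_eq_mul, map_mul, map_div₀, h1, h2, mul_div_assoc,
      div_self ((map_ne_zero S.φ).mpr hij), mul_one]
  rcases mul_self_eq_mul_self_iff.mp hαβ with hab | hab
  · obtain ⟨k, hk⟩ := descend (1 : Matrix ι ι F) β (fun h0 => by simpa using congrFun (congrFun h0 i₀) i₀)
      (by rw [hdec, hab, S.neg_E, ← smul_add, add_sub_cancel, Matrix.map_one S.φ (map_zero _) (map_one _)])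
    exact ⟨k, Or.inl hk⟩
  · obtain ⟨k, hk⟩ := descend S.g (α * S.r⁻¹) (fun h0 => by
        have := S.gg
        rw [h0, Matrix.mul_zero] at this
        exact S.c_ne (by simpa using (congrFun (congrFun this i₀) i₀).symm))
      (by
        rw [mul_smul, ← Setup.G, S.G_eq, hdec, show β = -α by rw [hab, neg_neg], neg_smul, smul_sub, sub_eq_add_neg])
    exact ⟨k, Or.inr hk⟩

include D in
/-- A semilinear similarity commuting up to scalars with the involution and with the commutators of its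
centraliser is linear and a multiple of the identity or of the involution. -/
theorem semi_scalar (hN : 6 ≤ Fintype.card ι) (τ : F ≃+* F) (h : GL ι F) (l ν : F)
    (hcomm : (h : Matrix ι ι F) * S.g.map τ = l • (S.g * (h : Matrix ι ι F)))
    (hsim : (h : Matrix ι ι F)ᵀ * S.M * (h : Matrix ι ι F) = ν • S.M.map τ)
    (hs : ∀ o o' : ↥S.cent, ∃ z : F, (h : Matrix ι ι F) * (((⁅o, o'⁆ : ↥S.cent).1 : Matrix ι ι F)).map τ =
      z • (((⁅o, o'⁆ : ↥S.cent).1 : Matrix ι ι F) * (h : Matrix ι ι F))) :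
    τ = 1 ∧ ∃ k : F, (h : Matrix ι ι F) = k • (1 : Matrix ι ι F) ∨ (h : Matrix ι ι F) = k • S.g := by
  obtain ⟨i₀⟩ : Nonempty ι := Fintype.card_pos_iff.mp (by omega)
  have hl : τ S.c = l * l * S.c := by
    have h1 : (h : Matrix ι ι F) * S.g.map τ * S.g.map τ = (τ S.c) • (h : Matrix ι ι F) := by
      rw [Matrix.mul_assoc, ← Matrix.map_mul, S.gg, Matrix.map_smul' τ S.c _ (map_mul τ),
        Matrix.map_one τ (map_zero _) (map_one _), Matrix.mul_smul, Matrix.mul_one]
    rw [hcomm, Matrix.smul_mul, Matrix.mul_assoc, hcomm, Matrix.mul_smul, smul_smul, ← Matrix.mul_assoc, S.gg,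
      Matrix.smul_mul, Matrix.one_mul, smul_smul] at h1
    have hne : (h : Matrix ι ι F) ≠ 0 := fun h0 => by
      have := h.mul_inv
      rw [h0, Matrix.zero_mul] at this
      exact (zero_ne_one : (0 : F) ≠ 1) (by simpa using congrFun (congrFun this i₀) i₀)
    by_contra hne'
    have h2 : (τ S.c - l * l * S.c) • (h : Matrix ι ι F) = 0 := by rw [sub_smul, h1, sub_self]
    exact hne ((smul_eq_zero.mp h2).resolve_left (sub_ne_zero.mpr hne'))
  have hl0 : l ≠ 0 := fun h0 => by
    rw [h0, zero_mul, zero_mul] at hl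
    exact S.c_ne ((map_eq_zero τ).mp hl)
  set H := (h : Matrix ι ι F).map S.φ with hH
  have hGτ : ∀ (τK : K ≃+* K), (∀ a, τK (S.φ a) = S.φ (τ a)) →
      H * S.G.map τK = (S.φ l * S.r / τK S.r) • (S.G * H) := by
    intro τK hext
    have hmm : (S.g.map S.φ).map τK = (S.g.map τ).map S.φ := by ext i j; exact hext _
    rw [Setup.G, Matrix.map_smul' τK _ _ (map_mul τK), hmm, Matrix.mul_smul, hH, ← Matrix.map_mul, hcomm,
      Matrix.map_smul' S.φ l _ (map_mul S.φ), Matrix.map_mul, Matrix.smul_mul, smul_smul, smul_smul, map_inv₀]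
    congr 1
    field_simp [S.r_ne]
  have hEτ : ∀ (τK : K ≃+* K), S.E.map τK = (2 : K)⁻¹ • (1 + S.G.map τK) := fun τK => by
    rw [Setup.E, Matrix.map_smul' τK _ _ (map_mul τK), Matrix.map_add τK (map_add τK),
      Matrix.map_one τK (map_zero _) (map_one _), map_inv₀, map_ofNat]
  have hpos : ∀ (τK : K ≃+* K), (∀ a, τK (S.φ a) = S.φ (τ a)) → τK S.r = S.φ l * S.r →
      τ = 1 ∧ ∃ k : F, (h : Matrix ι ι F) = k • (1 : Matrix ι ι F) ∨ (h : Matrix ι ι F) = k • S.g := by
    intro τK hext hr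
    refine D.scalar_of_aligned hN τ τK hext h ν hsim hs ?_
    rw [hEτ, Matrix.mul_smul, Matrix.mul_add, hGτ τK hext, hr, div_self (mul_ne_zero
      ((map_ne_zero S.φ).mpr hl0) S.r_ne), one_smul, Matrix.mul_one, Setup.E, Matrix.smul_mul, Matrix.add_mul,
      Matrix.one_mul]
  rcases D.ext with hadj | ⟨hany, hone⟩
  · obtain ⟨τK, hext, hr⟩ := hadj τ l hl
    exact hpos τK hext hr
  obtain ⟨τK, hext⟩ := hany τ
  have hr2 : τK S.r * τK S.r = (S.φ l * S.r) * (S.φ l * S.r) := by
    rw [← map_mul, S.r_sq, hext, hl, map_mul, map_mul, mul_mul_mul_comm, S.r_sq]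
  rcases mul_self_eq_mul_self_iff.mp hr2 with hr | hr
  · exact hpos τK hext hr
  -- the eigenspaces cannot be interchanged
  exfalso
  have hanti : H * S.E.map τK = S.neg.E * H := by
    rw [hEτ, Matrix.mul_smul, Matrix.mul_add, hGτ τK hext, hr, div_neg, div_self (mul_ne_zero
      ((map_ne_zero S.φ).mpr hl0) S.r_ne), neg_one_smul, Matrix.mul_one, Setup.E, Matrix.smul_mul, Matrix.add_mul,
      Matrix.one_mul, S.neg_G, Matrix.neg_mul]
  have hanti' : H * S.neg.E.map τK = S.E * H := by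
    rw [S.neg_E, Matrix.map_sub τK (map_sub τK), Matrix.map_one τK (map_zero _) (map_one _), Matrix.mul_sub,
      hanti, Matrix.mul_one, S.neg_E, Matrix.sub_mul, Matrix.one_mul, sub_sub_cancel]
  set Hi := (h⁻¹.1).map S.φ with hHidef
  have hHi : H * Hi = 1 := by
    rw [hH, hHidef, ← Matrix.map_mul, Units.mul_inv, Matrix.map_one S.φ (map_zero _) (map_one _)]
  have hHi' : Hi * H = 1 := by
    rw [hH, hHidef, ← Matrix.map_mul, Units.inv_mul, Matrix.map_one S.φ (map_zero _) (map_one _)]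
  set Y := D.hp.L * H * D.hm.P.map τK with hY
  set Y' := D.hm.L.map τK * Hi * D.hp.P with hY'
  have e1 : Y * Y' = 1 :=
    calc Y * Y' = D.hp.L * (H * (D.hm.P * D.hm.L).map τK) * Hi * D.hp.P := by
          rw [Matrix.map_mul]; simp only [hY, hY', Matrix.mul_assoc]
      _ = 1 := by
          rw [D.hm.P_L, hanti', ← Matrix.mul_assoc D.hp.L, D.hp.L_E, Matrix.mul_assoc D.hp.L, hHi, Matrix.mul_one,
            D.hp.L_P]
  have e2 : Y' * Y = 1 :=
    calc Y' * Y = D.hm.L.map τK * (Hi * ((D.hp.P * D.hp.L) * H)) * D.hm.P.map τK := by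
          simp only [hY, hY', Matrix.mul_assoc]
      _ = (D.hm.L * S.neg.E * D.hm.P).map τK := by
          rw [D.hp.P_L, ← hanti', ← Matrix.mul_assoc Hi, hHi', Matrix.one_mul, Matrix.map_mul, Matrix.map_mul]
      _ = 1 := by rw [D.hm.L_E, D.hm.L_P, Matrix.map_one τK (map_zero _) (map_one _)]
  have hdd := dim_eq e1 e2
  rw [Fintype.card_fin, Fintype.card_fin] at hdd
  have h3 : 3 ≤ D.hp.d := by
    have := D.dsum
    omega
  have hscal : ∀ X₁ ∈ (S.form D.hp).iso, ∀ X₂ ∈ (S.form D.hp).iso,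
      ∃ z : K, ((⁅X₁, X₂⁆ : GL (Fin D.hp.d) K) : Matrix (Fin D.hp.d) (Fin D.hp.d) K) = z • 1 := by
    intro X₁ h₁ X₂ h₂
    obtain ⟨o₁, ho₁, ho₁'⟩ := hone X₁ h₁
    obtain ⟨o₂, ho₂, ho₂'⟩ := hone X₂ h₂
    obtain ⟨z, hz⟩ := hs o₁ o₂
    set o := (⁅o₁, o₂⁆ : ↥S.cent) with ho
    have hR : (S.res D.hp o : GL (Fin D.hp.d) K) = ⁅X₁, X₂⁆ := by rw [ho, map_commutatorElement, ho₁, ho₂]
    have hRm : D.hm.res ((o.1 : Matrix ι ι F).map S.φ) = 1 := by
      let ρ : ↥S.cent →* GL (Fin D.hm.d) K := S.neg.res D.hm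
      have e : ρ o = 1 := by
        rw [ho, map_commutatorElement, show ρ o₁ = 1 from Units.ext ho₁', commutatorElement_one_left]
      exact congrArg Units.val e
    set A := (o.1 : Matrix ι ι F).map S.φ with hA
    have hz' : H * A.map τK = S.φ z • (A * H) := by
      rw [hA, show ((o.1 : Matrix ι ι F).map S.φ).map τK = ((o.1 : Matrix ι ι F).map τ).map S.φ from
        Matrix.ext fun i j => hext _, hH, ← Matrix.map_mul, hz, Matrix.map_smul' S.φ z _ (map_mul S.φ),
        Matrix.map_mul]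
    have k1 : Y = S.φ z • (D.hp.res A * Y) := by
      calc Y = D.hp.L * H * (D.hm.P * D.hm.res A).map τK := by rw [hRm, Matrix.mul_one]
        _ = D.hp.L * (H * A.map τK) * D.hm.P.map τK := by
            rw [D.hm.P_res (show A * S.neg.E = S.neg.E * A from S.neg.comm_E o.2.2), Matrix.map_mul]
            simp only [Matrix.mul_assoc]
        _ = S.φ z • (D.hp.L * A * H * D.hm.P.map τK) := by
            rw [hz', Matrix.mul_smul, Matrix.smul_mul]
            simp only [Matrix.mul_assoc]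
        _ = _ := by
            rw [← D.hp.res_L (show A * S.E = S.E * A from S.comm_E o.2.2)]
            simp only [hY, Matrix.mul_assoc]
    have k2 : S.φ z • D.hp.res A = 1 := by
      have := congrArg (· * Y') k1
      simp only [e1, Matrix.smul_mul, Matrix.mul_assoc, Matrix.mul_one] at this
      exact this.symm
    refine ⟨(S.φ z)⁻¹, ?_⟩
    have hz0 : S.φ z ≠ 0 := fun h0 => by
      rw [h0, zero_smul] at k2
      haveI : Nonempty (Fin D.hp.d) := ⟨⟨0, by omega⟩⟩
      exact zero_ne_one k2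
    rw [← hR, S.res_coe, ← hA, ← k2, inv_smul_smul₀ hz0]
  -- then every matrix would be scalar
  let i1 : Fin D.hp.d := ⟨0, by omega⟩
  let i2 : Fin D.hp.d := ⟨1, by omega⟩
  have hne : i1 ≠ i2 := by simp [i1, i2]
  obtain ⟨a, ha, -⟩ := (S.form D.hp).semilinear_scalar_eq (RingHom.id K) h3 (RingEquiv.refl K)
    (Matrix.transvection i1 i2 (1 : K)) (by rw [Matrix.det_transvection_of_ne _ _ hne]; exact one_ne_zero) (by
      intro v w hv hw hvw
      obtain ⟨u, hu, he⟩ := (S.form D.hp).refl_mul_eq_commutator (fun _ => rfl) hv hw hvw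
      obtain ⟨z, hz⟩ := hscal u hu _ ((S.form D.hp).refl_mem hv)
      refine ⟨1, ?_⟩
      show _ * ((((S.form D.hp).refl w hw * (S.form D.hp).refl v hv).1.map (RingHom.id K)).map (RingEquiv.refl K)) = _
      rw [he, hz, one_smul]
      simp [Matrix.map_smul', Matrix.map_one])
  have := congrFun (congrFun ha i1) i2
  simp [Matrix.transvection, hne] at this

end Data

end Graph

end CfsgLib.LocalBalance
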