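import Cfsg.Agent.Lib.LocalBalance.GraphData

/-!
Construction of the eigenspace data of an improper involution up to scalars.
-/

set_option autoImplicit false
set_option linter.style.haveILetI false

namespace CfsgLib.LocalBalance.Graph

open Matrix Polynomial

universe u

variable {ι : Type} [Fintype ι] [DecidableEq ι] {F K : Type*} [Field F] [Field K]

namespace Setup

variable (S : Setup ι F K)

theorem dsum (hp : Half S.E) (hm : Half S.neg.E) : hp.d + hm.d = Fintype.card ι := by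
  have hEE' : S.E * S.neg.E = 0 := by rw [S.neg_E, Matrix.mul_sub, Matrix.mul_one, S.E_E, sub_self]
  have hE'E : S.neg.E * S.E = 0 := by rw [S.neg_E, Matrix.sub_mul, Matrix.one_mul, S.E_E, sub_self]
  have z1 : hp.L * hm.P = 0 := by
    rw [← hp.L_E, ← hm.E_P, Matrix.mul_assoc, ← Matrix.mul_assoc S.E, hEE', Matrix.zero_mul, Matrix.mul_zero]
  have z2 : hm.L * hp.P = 0 := by
    rw [← hm.L_E, ← hp.E_P, Matrix.mul_assoc, ← Matrix.mul_assoc S.neg.E, hE'E, Matrix.zero_mul, Matrix.mul_zero]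
  have h := dim_eq (A := Matrix.fromCols hp.P hm.P) (B := Matrix.fromRows hp.L hm.L)
    (by rw [Matrix.fromCols_mul_fromRows, hp.P_L, hm.P_L, S.neg_E, add_sub_cancel])
    (by rw [Matrix.fromRows_mul_fromCols, hp.L_P, hm.L_P, z1, z2, Matrix.fromBlocks_one])
  rw [Fintype.card_sum, Fintype.card_fin, Fintype.card_fin] at h
  exact h.symm

theorem odd_of_det {n : ℕ} (hcard : Fintype.card ι = 2 * n) (hdet : S.g.det = -(S.c ^ n))
    (hm : Half S.neg.E) : Odd hm.d := by
  have h2 := S.two'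
  have hG : S.G = 1 + ((-2 : K) • hm.P) * hm.L := by
    rw [Matrix.smul_mul, hm.P_L, S.G_eq, S.neg_E]
    module
  have hd1 : S.G.det = -1 := by
    rw [G, Matrix.det_smul, hcard, pow_mul, ← RingHom.mapMatrix_apply, ← RingHom.map_det, hdet, map_neg, map_pow,
      ← S.r_sq, inv_pow, pow_two, mul_neg, ← mul_pow, inv_mul_cancel₀ (mul_ne_zero S.r_ne S.r_ne), one_pow]
  rw [hG, Matrix.det_one_add_mul_comm, Matrix.mul_smul, hm.L_P,
    show (1 : Matrix (Fin hm.d) (Fin hm.d) K) + (-2 : K) • 1 = (-1 : K) • 1 by module, Matrix.det_smul,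
    Matrix.det_one, mul_one, Fintype.card_fin] at hd1
  by_contra hne
  rw [(Nat.not_odd_iff_even.mp hne).neg_one_pow] at hd1
  exact h2 (by linear_combination hd1)

variable [Fintype K]

/-- Lifts over a splitting field inside the base. -/
theorem lifts_split (hφ : Function.Surjective S.φ) (h : Half S.E) :
    ∀ X ∈ (S.form h).iso, ∃ o : ↥S.cent, S.res h o = X ∧
      ∀ h' : Half S.neg.E, h'.res ((o.1 : Matrix ι ι F).map S.φ) = 1 := by
  intro X hX
  choose ψ hψ using hφ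
  have back : ∀ A : Matrix ι ι K, (A.map ψ).map S.φ = A := fun A => Matrix.ext fun i j => hψ _
  have inj : Function.Injective fun A : Matrix ι ι F => A.map S.φ := Matrix.map_injective S.φ.injective
  have h1 : h.ext 1 = 1 := by rw [Half.ext, Matrix.mul_one, h.P_L, add_sub_cancel]
  let u : GL ι F := ⟨(h.ext X.1).map ψ, (h.ext X⁻¹.1).map ψ,
    inj (by simp only [Matrix.map_mul, back, h.ext_mul S.E_E, Units.mul_inv, h1, Matrix.map_one S.φ (map_zero _) (map_one _)]),
    inj (by simp only [Matrix.map_mul, back, h.ext_mul S.E_E, Units.inv_mul, h1, Matrix.map_one S.φ (map_zero _) (map_one _)])⟩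
  have hu : (u : Matrix ι ι F).map S.φ = h.ext X.1 := back _
  have hXi := (h.mem_form_iso S.MK_det S.MK_symm S.E_adj S.two' X).mp hX
  have hmem : u ∈ S.cent := by
    refine ⟨inj ?_, inj ?_⟩
    · show ((u : Matrix ι ι F)ᵀ * S.M * (u : Matrix ι ι F)).map S.φ = S.MK
      rw [Matrix.map_mul, Matrix.map_mul, Matrix.transpose_map, hu]
      exact h.ext_iso S.E_E S.E_adj hXi
    · show ((u : Matrix ι ι F) * S.g).map S.φ = (S.g * (u : Matrix ι ι F)).map S.φ
      have hE : h.ext X.1 * S.E = S.E * h.ext X.1 := by rw [h.ext_E S.E_E, h.E_ext S.E_E]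
      have hG : h.ext X.1 * S.G = S.G * h.ext X.1 := by
        rw [S.G_eq, S.neg_E, Matrix.mul_sub, Matrix.mul_sub, Matrix.sub_mul, Matrix.sub_mul, Matrix.mul_one,
          Matrix.one_mul, hE]
      rw [Matrix.map_mul, Matrix.map_mul, hu]
      rw [G, Matrix.mul_smul, Matrix.smul_mul] at hG
      exact (inv_smul_smul₀ (inv_ne_zero S.r_ne) _).symm.trans
        ((congrArg (S.r⁻¹⁻¹ • ·) hG).trans (inv_smul_smul₀ (inv_ne_zero S.r_ne) _))
  refine ⟨⟨u, hmem⟩, Units.ext ?_, fun h' => ?_⟩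
  · rw [S.res_coe, hu, h.res_ext S.E_E]
  · show h'.res ((u : Matrix ι ι F).map S.φ) = 1
    have hE'E : S.neg.E * S.E = 0 := by rw [S.neg_E, Matrix.sub_mul, Matrix.one_mul, S.E_E, sub_self]
    have z : h'.L * h.P = 0 := by
      rw [← h'.L_E, ← h.E_P, Matrix.mul_assoc, ← Matrix.mul_assoc S.neg.E, hE'E, Matrix.zero_mul, Matrix.mul_zero]
    rw [hu, Half.res, Half.ext, Matrix.mul_add, ← Matrix.mul_assoc, ← Matrix.mul_assoc, z, Matrix.zero_mul,
      Matrix.zero_mul, zero_add, ← S.neg_E, h'.L_E, h'.L_P]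

/-- Lifts over a quadratic extension. -/
theorem lifts_twist (ν : K ≃+* K) (hfix : ∀ a, ν (S.φ a) = S.φ a) (hran : ∀ x, ν x = x → ∃ a, S.φ a = x)
    (hinv : ∀ x, ν (ν x) = x) (hr : ν S.r = -S.r) (h : Half S.E) : Lifts S h := by
  intro X hX
  have hmap : ∀ A : Matrix ι ι F, (A.map S.φ).map ν = A.map S.φ := fun A => Matrix.ext fun i j => hfix _
  have hE : S.E.map ν = S.neg.E := by
    rw [E, E, S.neg_G, G, Matrix.map_smul' ν _ _ (map_mul ν), Matrix.map_add ν (map_add ν),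
      Matrix.map_one ν (map_zero _) (map_one _), Matrix.map_smul' ν _ _ (map_mul ν), hmap, map_inv₀, map_inv₀, hr,
      map_ofNat, inv_neg, neg_smul]
  have hEE' : S.E * S.neg.E = 0 := by rw [S.neg_E, Matrix.mul_sub, Matrix.mul_one, S.E_E, sub_self]
  have hE'E : S.neg.E * S.E = 0 := by rw [S.neg_E, Matrix.sub_mul, Matrix.one_mul, S.E_E, sub_self]
  let A : Matrix (Fin h.d) (Fin h.d) K → Matrix ι ι K := fun Y => h.P * Y * h.L
  have AE : ∀ Y, A Y * S.E = A Y := fun Y => by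
    show h.P * Y * h.L * S.E = _; rw [Matrix.mul_assoc, h.L_E]
  have EA : ∀ Y, S.E * A Y = A Y := fun Y => by
    show S.E * (h.P * Y * h.L) = _; rw [← Matrix.mul_assoc, ← Matrix.mul_assoc, h.E_P]
  have BE : ∀ Y, (A Y).map ν * S.neg.E = (A Y).map ν := fun Y => by rw [← hE, ← Matrix.map_mul, AE]
  have EB : ∀ Y, S.neg.E * (A Y).map ν = (A Y).map ν := fun Y => by rw [← hE, ← Matrix.map_mul, EA]
  have AB : ∀ Y Y', A Y * (A Y').map ν = 0 := fun Y Y' => by
    rw [← AE Y, ← EB Y', Matrix.mul_assoc, ← Matrix.mul_assoc S.E, hEE', Matrix.zero_mul, Matrix.mul_zero]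
  have BA : ∀ Y Y', (A Y).map ν * A Y' = 0 := fun Y Y' => by
    rw [← BE Y, ← EA Y', Matrix.mul_assoc, ← Matrix.mul_assoc S.neg.E, hE'E, Matrix.zero_mul, Matrix.mul_zero]
  let Z : Matrix (Fin h.d) (Fin h.d) K → Matrix ι ι K := fun Y => A Y + (A Y).map ν
  have Z_mul : ∀ Y Y', Z Y * Z Y' = Z (Y * Y') := fun Y Y' => by
    have e : A Y * A Y' = A (Y * Y') :=
      calc h.P * Y * h.L * (h.P * Y' * h.L) = h.P * Y * (h.L * h.P) * Y' * h.L := by simp only [Matrix.mul_assoc]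
        _ = _ := by rw [h.L_P]; simp only [A, Matrix.mul_assoc, Matrix.one_mul]
    simp only [Z, Matrix.add_mul, Matrix.mul_add, AB, BA, ← Matrix.map_mul, e, add_zero, zero_add]
  have Z_one : Z 1 = 1 := by
    simp only [Z, A, Matrix.mul_one, h.P_L, hE, S.neg_E, add_sub_cancel]
  have Z_fix : ∀ Y i j, ν (Z Y i j) = Z Y i j := fun Y i j => by
    simp only [Z, Matrix.add_apply, Matrix.map_apply, map_add, hinv]
    rw [add_comm]
  choose ψ hψ using fun (Y : Matrix (Fin h.d) (Fin h.d) K) (i j : ι) => hran _ (Z_fix Y i j)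
  have back : ∀ Y, (Matrix.of (ψ Y)).map S.φ = Z Y := fun Y => Matrix.ext fun i j => hψ Y i j
  have inj : Function.Injective fun A : Matrix ι ι F => A.map S.φ := Matrix.map_injective S.φ.injective
  let u : GL ι F := ⟨Matrix.of (ψ X.1), Matrix.of (ψ X⁻¹.1),
    inj (by simp only [Matrix.map_mul, back, Z_mul, Units.mul_inv, Z_one, Matrix.map_one S.φ (map_zero _) (map_one _)]),
    inj (by simp only [Matrix.map_mul, back, Z_mul, Units.inv_mul, Z_one, Matrix.map_one S.φ (map_zero _) (map_one _)])⟩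
  have hu : (u : Matrix ι ι F).map S.φ = Z X.1 := back _
  have hXi := (h.mem_form_iso S.MK_det S.MK_symm S.E_adj S.two' X).mp hX
  have hprod : Z X.1 = h.ext X.1 * (h.ext X.1).map ν := by
    rw [Half.ext, Matrix.map_add ν (map_add ν), Matrix.map_sub ν (map_sub ν),
      Matrix.map_one ν (map_zero _) (map_one _), hE, ← S.neg_E]
    have e1 : (1 : Matrix ι ι K) - S.neg.E = S.E := by rw [S.neg_E, sub_sub_cancel]
    rw [e1]
    show A X.1 + (A X.1).map ν = (A X.1 + S.neg.E) * ((A X.1).map ν + S.E)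
    rw [Matrix.add_mul, Matrix.mul_add, Matrix.mul_add, AB, AE, EB, hE'E, zero_add, add_zero]
  have hisoν : ((h.ext X.1).map ν)ᵀ * S.MK * (h.ext X.1).map ν = S.MK := by
    have hMK : S.MK.map ν = S.MK := hmap _
    rw [← hMK, ← Matrix.transpose_map, ← Matrix.map_mul, ← Matrix.map_mul, h.ext_iso S.E_E S.E_adj hXi]
  have hmem : u ∈ S.cent := by
    refine ⟨inj ?_, inj ?_⟩
    · show ((u : Matrix ι ι F)ᵀ * S.M * (u : Matrix ι ι F)).map S.φ = S.MK
      rw [Matrix.map_mul, Matrix.map_mul, Matrix.transpose_map, hu, hprod, Matrix.transpose_mul]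
      calc ((h.ext X.1).map ν)ᵀ * (h.ext X.1)ᵀ * S.M.map S.φ * (h.ext X.1 * (h.ext X.1).map ν)
          = ((h.ext X.1).map ν)ᵀ * ((h.ext X.1)ᵀ * S.MK * h.ext X.1) * (h.ext X.1).map ν := by
            simp only [MK, Matrix.mul_assoc]
        _ = _ := by rw [h.ext_iso S.E_E S.E_adj hXi, hisoν]
    · show ((u : Matrix ι ι F) * S.g).map S.φ = (S.g * (u : Matrix ι ι F)).map S.φ
      have e3 : A X.1 * S.neg.E = 0 ∧ S.neg.E * A X.1 = 0 := by
        refine ⟨?_, ?_⟩
        · rw [← AE, Matrix.mul_assoc, hEE', Matrix.mul_zero]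
        · rw [← EA, ← Matrix.mul_assoc, hE'E, Matrix.zero_mul]
      have e4 : (A X.1).map ν * S.E = 0 ∧ S.E * (A X.1).map ν = 0 := by
        refine ⟨?_, ?_⟩
        · rw [← BE, Matrix.mul_assoc, hE'E, Matrix.mul_zero]
        · rw [← EB, ← Matrix.mul_assoc, hEE', Matrix.zero_mul]
      have hG : Z X.1 * S.G = S.G * Z X.1 := by
        simp only [Z, S.G_eq, Matrix.mul_sub, Matrix.sub_mul, Matrix.add_mul, Matrix.mul_add, AE, EA, BE, EB,
          e3.1, e3.2, e4.1, e4.2]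
        abel
      rw [Matrix.map_mul, Matrix.map_mul, hu]
      rw [G, Matrix.mul_smul, Matrix.smul_mul] at hG
      exact (inv_smul_smul₀ (inv_ne_zero S.r_ne) _).symm.trans
        ((congrArg (S.r⁻¹⁻¹ • ·) hG).trans (inv_smul_smul₀ (inv_ne_zero S.r_ne) _))
  refine ⟨⟨u, hmem⟩, Units.ext ?_⟩
  rw [S.res_coe, hu]
  show h.L * Z X.1 * h.P = X.1
  have hL : h.L * (A X.1).map ν = 0 := by
    rw [← EB, ← Matrix.mul_assoc, ← h.L_E, Matrix.mul_assoc h.L, hEE', Matrix.mul_zero, Matrix.zero_mul]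
  simp only [Z, A, Matrix.mul_add, Matrix.add_mul]
  rw [show h.L * (h.P * X.1 * h.L).map ν = 0 from hL, Matrix.zero_mul, add_zero]
  calc h.L * (h.P * X.1 * h.L) * h.P = (h.L * h.P) * X.1 * (h.L * h.P) := by simp only [Matrix.mul_assoc]
    _ = X.1 := by rw [h.L_P, Matrix.one_mul, Matrix.mul_one]

end Setup

theorem exists_quadratic {F : Type u} [Field F] [Fintype F] (h2 : (2 : F) ≠ 0) {c : F} (hc : ¬ IsSquare c) :
    ∃ (K : Type u) (_ : Field K) (_ : Fintype K) (φ : F →+* K) (r : K) (ν : K ≃+* K),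
      r * r = φ c ∧ (∀ a, ν (φ a) = φ a) ∧ (∀ x, ν x = x → ∃ a, φ a = x) ∧ (∀ x, ν (ν x) = x) ∧ ν r = -r ∧
      ∀ (τ : F ≃+* F) (l : F), τ c = l * l * c →
        ∃ τK : K ≃+* K, (∀ a, τK (φ a) = φ (τ a)) ∧ τK r = φ l * r := by
  set f : F[X] := X ^ 2 - C c with hf
  have hmon : f.Monic := monic_X_pow_sub_C _ two_ne_zero
  have hdeg : f.natDegree = 2 := by rw [hf, natDegree_X_pow_sub_C]
  have hirr : Irreducible f := by
    refine irreducible_of_degree_le_three_of_not_isRoot (by rw [hdeg]; simp) fun x hx => hc ⟨x, ?_⟩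
    rw [hf, IsRoot, eval_sub, eval_pow, eval_X, eval_C, sub_eq_zero] at hx
    rw [← hx, _root_.sq]
  haveI : Fact (Irreducible f) := ⟨hirr⟩
  haveI : Module.Finite F (AdjoinRoot f) := (AdjoinRoot.powerBasis hirr.ne_zero).finite
  haveI : Finite (AdjoinRoot f) := Module.finite_of_finite F
  letI : Fintype (AdjoinRoot f) := Fintype.ofFinite _
  set φ := AdjoinRoot.of f with hφ
  set r := AdjoinRoot.root f with hrdef
  have hr : r * r = φ c := by
    have h := AdjoinRoot.eval₂_root f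
    rw [hf, eval₂_sub, eval₂_X_pow, eval₂_C, sub_eq_zero] at h
    rw [← _root_.sq]; exact h
  have hr0 : r ≠ 0 := fun h0 => hc (by
    have : φ c = 0 := by rw [← hr, h0, mul_zero]
    rw [(map_eq_zero φ).mp this]
    exact IsSquare.zero)
  have key : ∀ (θ : F ≃+* F) (w : AdjoinRoot f), w * w = φ (θ c) →
      ∃ e : AdjoinRoot f ≃+* AdjoinRoot f, (∀ a, e (φ a) = φ (θ a)) ∧ e r = w := by
    intro θ w hw
    have h0 : f.eval₂ (φ.comp θ.toRingHom) w = 0 := by
      show (X ^ 2 - C c : F[X]).eval₂ (φ.comp θ.toRingHom) w = 0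
      rw [eval₂_sub, eval₂_X_pow, eval₂_C, sub_eq_zero, _root_.sq]
      exact hw
    refine ⟨RingEquiv.ofBijective (AdjoinRoot.lift (φ.comp θ.toRingHom) w h0)
      (Finite.injective_iff_bijective.mp (RingHom.injective _)), fun a => ?_, ?_⟩
    · exact AdjoinRoot.lift_of h0
    · exact AdjoinRoot.lift_root h0
  obtain ⟨ν, hνφ, hνr⟩ := key (RingEquiv.refl F) (-r) (by rw [neg_mul_neg, hr]; rfl)
  have hνφ' : ∀ a, ν (φ a) = φ a := hνφ
  have hexp : ∀ x : AdjoinRoot f, ∃ a b, x = φ a + φ b * r := by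
    intro x
    obtain ⟨p, rfl⟩ := AdjoinRoot.mk_surjective x
    refine ⟨(p %ₘ f).coeff 0, (p %ₘ f).coeff 1, ?_⟩
    have h1 : AdjoinRoot.mk f p = AdjoinRoot.mk f (p %ₘ f) := by
      rw [AdjoinRoot.mk_eq_mk]
      exact ⟨p /ₘ f, by linear_combination (modByMonic_add_div p f).symm⟩
    have h2' : p %ₘ f = C ((p %ₘ f).coeff 1) * X + C ((p %ₘ f).coeff 0) := by
      refine eq_X_add_C_of_natDegree_le_one ?_
      have := natDegree_modByMonic_lt p hmon (fun h => by rw [h, natDegree_one] at hdeg; omega)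
      omega
    rw [h1]
    conv_lhs => rw [h2']
    rw [map_add, map_mul, AdjoinRoot.mk_X, AdjoinRoot.mk_C, AdjoinRoot.mk_C, add_comm]
  refine ⟨AdjoinRoot f, inferInstance, inferInstance, φ, r, ν, hr, hνφ', fun x hx => ?_, fun x => ?_, hνr,
    fun τ l hl => key τ (φ l * r) (by rw [mul_mul_mul_comm, hr, ← map_mul, ← map_mul, hl])⟩
  · obtain ⟨a, b, rfl⟩ := hexp x
    rw [map_add, map_mul, hνφ', hνφ', hνr] at hx
    have hb : φ b = 0 := by
      have h3 : (2 : AdjoinRoot f) * φ b * r = 0 := by linear_combination -hx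
      rcases mul_eq_zero.mp h3 with h4 | h4
      · exact (mul_eq_zero.mp h4).resolve_left (by rw [← map_ofNat φ]; exact (map_ne_zero φ).mpr h2)
      · exact absurd h4 hr0
    exact ⟨a, by rw [hb, zero_mul, add_zero]⟩
  · obtain ⟨a, b, rfl⟩ := hexp x
    simp only [map_add, map_mul, hνφ', hνr, map_neg, neg_neg]

/-- The eigenspace data of an improper similarity with scalar square. -/
theorem exists_data {F : Type u} [Field F] [Fintype F] (M g : Matrix ι ι F) (c : F) (hc : c ≠ 0)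
    (h2 : (2 : F) ≠ 0) (hgg : g * g = c • 1) (hsym : Mᵀ = M) (hM : IsUnit M.det) (hadj : M * g = gᵀ * M) {n : ℕ}
    (hcard : Fintype.card ι = 2 * n) (hdet : g.det = -(c ^ n)) :
    ∃ (K : Type u) (_ : Field K) (_ : Fintype K) (S : Setup ι F K),
      S.M = M ∧ S.g = g ∧ S.c = c ∧ Nonempty (Data S) := by
  by_cases hsq : IsSquare c
  · obtain ⟨s, hs⟩ := hsq
    let S : Setup ι F F := ⟨M, g, c, RingHom.id F, s, hc, h2, hs.symm, hgg, hsym, hM, hadj⟩
    obtain ⟨hp⟩ := exists_half S.E S.E_E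
    obtain ⟨hm⟩ := exists_half S.neg.E S.neg.E_E
    have hsurj : Function.Surjective S.φ := fun a => ⟨a, rfl⟩
    have hm_odd := S.odd_of_det hcard hdet hm
    have hsum := S.dsum hp hm
    refine ⟨F, inferInstance, inferInstance, S, rfl, rfl, rfl,
      ⟨⟨hp, hm, ?_, hm_odd, hsum, fun X hX => ?_, fun X hX => ?_,
        Or.inr ⟨fun τ => ⟨τ, fun _ => rfl⟩, fun X hX => ?_⟩⟩⟩⟩
    · obtain ⟨k, hk⟩ := hm_odd
      exact Nat.odd_iff.mpr (by omega)
    · obtain ⟨o, ho, -⟩ := S.lifts_split hsurj hp X hX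
      exact ⟨o, ho⟩
    · obtain ⟨o, ho, -⟩ := S.neg.lifts_split hsurj hm X hX
      exact ⟨o, ho⟩
    · obtain ⟨o, ho, ho'⟩ := S.lifts_split hsurj hp X hX
      exact ⟨o, ho, ho' hm⟩
  · obtain ⟨K, i1, i2, φ, r, ν, hr, hfix, hran, hinv, hνr, hext⟩ := exists_quadratic h2 hsq
    let S : Setup ι F K := ⟨M, g, c, φ, r, hc, h2, hr, hgg, hsym, hM, hadj⟩
    obtain ⟨hp⟩ := exists_half S.E S.E_E
    obtain ⟨hm⟩ := exists_half S.neg.E S.neg.E_E
    have hm_odd := S.odd_of_det hcard hdet hm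
    have hsum := S.dsum hp hm
    refine ⟨K, i1, i2, S, rfl, rfl, rfl,
      ⟨⟨hp, hm, ?_, hm_odd, hsum, S.lifts_twist ν hfix hran hinv hνr hp,
        S.neg.lifts_twist ν hfix hran hinv (by show ν (-r) = -(-r); rw [map_neg, hνr]) hm, Or.inl hext⟩⟩⟩
    obtain ⟨k, hk⟩ := hm_odd
    exact Nat.odd_iff.mpr (by omega)

end CfsgLib.LocalBalance.Graph
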