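import Cfsg.Agent.Lib.LocalBalance.Reflection
import Cfsg.Agent.Lib.Orth.Spinor

/-!
Idempotent matrices self-adjoint for a symmetric form: restriction of the form and of the commuting isometries
to the image, in matrix language.
-/

set_option autoImplicit false

namespace CfsgLib.LocalBalance.Graph

open Matrix

variable {ι : Type} [Fintype ι] [DecidableEq ι] {K : Type*} [Field K]

/-- A factorisation of an idempotent matrix through its image. -/
structure Half (E : Matrix ι ι K) where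
  d : ℕ
  P : Matrix ι (Fin d) K
  L : Matrix (Fin d) ι K
  L_P : L * P = 1
  P_L : P * L = E

theorem exists_half (E : Matrix ι ι K) (hE : E * E = E) : Nonempty (Half E) := by
  set f := Matrix.toLin' E with hf
  set W := LinearMap.range f
  let b := Module.finBasis K ↥W
  let p : (Fin (Module.finrank K ↥W) → K) →ₗ[K] (ι → K) :=
    W.subtype ∘ₗ b.equivFun.symm.toLinearMap
  let l : (ι → K) →ₗ[K] (Fin (Module.finrank K ↥W) → K) :=
    b.equivFun.toLinearMap ∘ₗ f.rangeRestrict
  have h1 : l ∘ₗ p = LinearMap.id := by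
    refine LinearMap.ext fun y => ?_
    obtain ⟨x, hx⟩ := (b.equivFun.symm y).2
    have hfix : f.rangeRestrict (b.equivFun.symm y : ι → K) = b.equivFun.symm y := Subtype.ext (by
      show f (b.equivFun.symm y : ι → K) = (b.equivFun.symm y : ι → K)
      rw [← hx, hf, Matrix.toLin'_apply, Matrix.toLin'_apply, Matrix.mulVec_mulVec, hE])
    show b.equivFun (f.rangeRestrict (b.equivFun.symm y : ι → K)) = y
    rw [hfix, LinearEquiv.apply_symm_apply]
  have h2 : p ∘ₗ l = f := by
    refine LinearMap.ext fun y => ?_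
    show ((b.equivFun.symm (b.equivFun (f.rangeRestrict y)) : ↥W) : ι → K) = f y
    rw [LinearEquiv.symm_apply_apply]
    rfl
  refine ⟨⟨_, LinearMap.toMatrix' p, LinearMap.toMatrix' l, ?_, ?_⟩⟩
  · rw [← LinearMap.toMatrix'_comp, h1, LinearMap.toMatrix'_id]
  · rw [← LinearMap.toMatrix'_comp, h2, hf, LinearMap.toMatrix'_toLin']

namespace Half

variable {E : Matrix ι ι K} (h : Half E)

theorem E_P : E * h.P = h.P :=
  calc E * h.P = h.P * h.L * h.P := by rw [h.P_L]
    _ = h.P := by rw [Matrix.mul_assoc, h.L_P, Matrix.mul_one]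

theorem L_E : h.L * E = h.L :=
  calc h.L * E = h.L * (h.P * h.L) := by rw [h.P_L]
    _ = h.L := by rw [← Matrix.mul_assoc, h.L_P, Matrix.one_mul]

/-- The factorisation carried along an automorphism of the field. -/
def map {K' : Type*} [Field K'] (σ : K →+* K') : Half (E.map σ) where
  d := h.d
  P := h.P.map σ
  L := h.L.map σ
  L_P := by rw [← Matrix.map_mul, h.L_P, Matrix.map_one _ (map_zero σ) (map_one σ)]
  P_L := by rw [← Matrix.map_mul, h.P_L]

/-- Restriction to the image. -/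
def res (o : Matrix ι ι K) : Matrix (Fin h.d) (Fin h.d) K := h.L * o * h.P

theorem res_one : h.res 1 = 1 := by rw [res, Matrix.mul_one, h.L_P]

theorem res_smul (a : K) (o : Matrix ι ι K) : h.res (a • o) = a • h.res o := by
  rw [res, res, Matrix.mul_smul, Matrix.smul_mul]

theorem P_res {o : Matrix ι ι K} (ho : o * E = E * o) : h.P * h.res o = o * h.P :=
  calc h.P * (h.L * o * h.P) = (h.P * h.L) * o * h.P := by simp only [Matrix.mul_assoc]
    _ = o * E * h.P := by rw [h.P_L, ho]
    _ = o * h.P := by rw [Matrix.mul_assoc, h.E_P]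

theorem res_L {o : Matrix ι ι K} (ho : o * E = E * o) : h.res o * h.L = h.L * o :=
  calc h.L * o * h.P * h.L = h.L * (o * E) := by simp only [Matrix.mul_assoc, h.P_L]
    _ = h.L * o := by rw [ho, ← Matrix.mul_assoc, h.L_E]

theorem res_mul {o o' : Matrix ι ι K} (ho : o * E = E * o) : h.res (o * o') = h.res o * h.res o' :=
  calc h.L * (o * o') * h.P = (h.L * o) * o' * h.P := by simp only [Matrix.mul_assoc]
    _ = h.res o * h.res o' := by
      rw [← h.res_L ho]
      simp only [res, Matrix.mul_assoc]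

/-- The block of `o` on the image. -/
theorem P_res_L {o : Matrix ι ι K} (ho : o * E = E * o) : h.P * h.res o * h.L = o * E := by
  rw [h.P_res ho, Matrix.mul_assoc, h.P_L]

/-- The restricted matrix of a form. -/
def gram (M : Matrix ι ι K) : Matrix (Fin h.d) (Fin h.d) K := h.Pᵀ * M * h.P

theorem gram_transpose {M : Matrix ι ι K} (hM : Mᵀ = M) : (h.gram M)ᵀ = h.gram M := by
  rw [gram, Matrix.transpose_mul, Matrix.transpose_mul, Matrix.transpose_transpose, hM, Matrix.mul_assoc]

theorem gram_det_ne {M : Matrix ι ι K} (hM : IsUnit M.det) (hadj : M * E = Eᵀ * M) :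
    (h.gram M).det ≠ 0 := by
  have h1 : h.gram M * (h.L * M⁻¹ * h.Lᵀ) = 1 :=
    calc h.Pᵀ * M * h.P * (h.L * M⁻¹ * h.Lᵀ) = h.Pᵀ * (M * (h.P * h.L)) * M⁻¹ * h.Lᵀ := by
          simp only [Matrix.mul_assoc]
      _ = (h.L * (E * h.P))ᵀ := by
          rw [h.P_L, hadj, ← Matrix.mul_assoc h.Pᵀ, Matrix.mul_assoc (h.Pᵀ * Eᵀ), Matrix.mul_nonsing_inv _ hM,
            Matrix.mul_one]
          simp only [Matrix.transpose_mul]
      _ = 1 := by rw [h.E_P, h.L_P, Matrix.transpose_one]
  exact (Matrix.isUnit_det_of_right_inverse h1).ne_zero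

/-- The restriction of an isometry is an isometry. -/
theorem res_iso {M o : Matrix ι ι K} (ho : o * E = E * o) (hiso : oᵀ * M * o = M) :
    (h.res o)ᵀ * h.gram M * h.res o = h.gram M :=
  calc (h.res o)ᵀ * (h.Pᵀ * M * h.P) * h.res o = (h.P * h.res o)ᵀ * M * (h.P * h.res o) := by
        simp only [Matrix.transpose_mul, Matrix.mul_assoc]
    _ = h.Pᵀ * (oᵀ * M * o) * h.P := by
        rw [h.P_res ho]
        simp only [Matrix.transpose_mul, Matrix.mul_assoc]
    _ = h.Pᵀ * M * h.P := by rw [hiso]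

/-- The extension by the identity of a matrix on the image. -/
def ext (X : Matrix (Fin h.d) (Fin h.d) K) : Matrix ι ι K := h.P * X * h.L + (1 - E)

theorem ext_E (hE : E * E = E) (X : Matrix (Fin h.d) (Fin h.d) K) : h.ext X * E = h.P * X * h.L := by
  rw [ext, Matrix.add_mul, Matrix.mul_assoc, h.L_E, Matrix.sub_mul, Matrix.one_mul, hE, sub_self, add_zero]

theorem E_ext (hE : E * E = E) (X : Matrix (Fin h.d) (Fin h.d) K) : E * h.ext X = h.P * X * h.L := by
  rw [ext, Matrix.mul_add, ← Matrix.mul_assoc, ← Matrix.mul_assoc, h.E_P, Matrix.mul_sub, Matrix.mul_one, hE,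
    sub_self, add_zero]

theorem res_ext (hE : E * E = E) (X : Matrix (Fin h.d) (Fin h.d) K) : h.res (h.ext X) = X :=
  calc h.L * h.ext X * h.P = h.L * (h.ext X * E) * h.P := by
        rw [← Matrix.mul_assoc, Matrix.mul_assoc _ E h.P, h.E_P]
    _ = (h.L * h.P) * X * (h.L * h.P) := by rw [h.ext_E hE]; simp only [Matrix.mul_assoc]
    _ = X := by rw [h.L_P, Matrix.one_mul, Matrix.mul_one]

theorem ext_mul (hE : E * E = E) (X Y : Matrix (Fin h.d) (Fin h.d) K) : h.ext X * h.ext Y = h.ext (X * Y) := by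
  have e1 : h.P * X * h.L * (1 - E) = 0 := by
    rw [Matrix.mul_sub, Matrix.mul_one, Matrix.mul_assoc _ h.L E, h.L_E, sub_self]
  have e2 : (1 - E) * (h.P * Y * h.L) = 0 := by
    rw [Matrix.sub_mul, Matrix.one_mul, ← Matrix.mul_assoc, ← Matrix.mul_assoc, h.E_P, sub_self]
  have e3 : (1 - E) * (1 - E) = 1 - E := by
    rw [Matrix.sub_mul, Matrix.one_mul, Matrix.mul_sub, Matrix.mul_one, hE, sub_self, sub_zero]
  have e4 : h.P * X * h.L * (h.P * Y * h.L) = h.P * (X * Y) * h.L :=
    calc h.P * X * h.L * (h.P * Y * h.L) = h.P * X * (h.L * h.P) * Y * h.L := by simp only [Matrix.mul_assoc]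
      _ = _ := by rw [h.L_P]; simp only [Matrix.mul_assoc, Matrix.one_mul]
  simp only [ext, Matrix.add_mul, Matrix.mul_add, e1, e2, e3, e4, add_zero, zero_add]

theorem ext_iso {M : Matrix ι ι K} (hE : E * E = E) (hadj : M * E = Eᵀ * M) {X : Matrix (Fin h.d) (Fin h.d) K}
    (hX : Xᵀ * h.gram M * X = h.gram M) : (h.ext X)ᵀ * M * h.ext X = M := by
  set A := h.P * X * h.L with hA
  have hAE : E * A = A := by rw [hA, ← Matrix.mul_assoc, ← Matrix.mul_assoc, h.E_P]
  have c1 : Aᵀ * M * (1 - E) = 0 := by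
    have : Aᵀ = Aᵀ * Eᵀ := by rw [← Matrix.transpose_mul, hAE]
    rw [this, Matrix.mul_assoc Aᵀ, ← hadj, Matrix.mul_assoc, Matrix.mul_assoc, Matrix.mul_sub, Matrix.mul_one, hE,
      sub_self, Matrix.mul_zero, Matrix.mul_zero]
  have c2 : (1 - E)ᵀ * M * A = 0 := by
    rw [Matrix.transpose_sub, Matrix.transpose_one, Matrix.sub_mul, Matrix.one_mul, ← hadj, Matrix.sub_mul,
      Matrix.mul_assoc M E, hAE, sub_self]
  have c3 : Aᵀ * M * A = Eᵀ * M * E :=
    calc (h.P * X * h.L)ᵀ * M * (h.P * X * h.L) = h.Lᵀ * (Xᵀ * h.gram M * X) * h.L := by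
          simp only [gram, Matrix.transpose_mul, Matrix.mul_assoc]
      _ = (h.P * h.L)ᵀ * M * (h.P * h.L) := by
          rw [hX]; simp only [gram, Matrix.transpose_mul, Matrix.mul_assoc]
      _ = _ := by rw [h.P_L]
  rw [ext, Matrix.transpose_add, Matrix.add_mul, Matrix.add_mul, Matrix.mul_add, Matrix.mul_add, c1, c2, c3,
    add_zero, zero_add, Matrix.transpose_sub, Matrix.transpose_one, Matrix.sub_mul, Matrix.one_mul, ← hadj,
    Matrix.mul_assoc M E E, hE, Matrix.sub_mul, Matrix.mul_sub, Matrix.mul_one, Matrix.mul_sub, Matrix.mul_one,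
    Matrix.mul_assoc M E E, hE]
  abel

/-- The restricted form. -/
noncomputable def form [Fintype K] (M : Matrix ι ι K) (hM : IsUnit M.det) (hsym : Mᵀ = M)
    (hadj : M * E = Eᵀ * M) (h2 : (2 : K) ≠ 0) : HForm h.d K where
  σ := RingEquiv.refl K
  invol := fun _ => rfl
  M := h.gram M
  herm := by rw [h.gram_transpose hsym]; ext i j; rfl
  det_ne := h.gram_det_ne hM hadj
  two := h2
  rep := fun _ c d e _ _ _ hc hd _ => by
    obtain ⟨s, t, hst⟩ := CfsgLib.OrthSpinor.binary_universal (F := K) (h2 := h2) (ha := hc) (hb := hd) e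
    exact ⟨s, t, by simp only [RingEquiv.refl_apply]; linear_combination hst, rfl⟩

theorem mem_form_iso [Fintype K] {M : Matrix ι ι K} (hM : IsUnit M.det) (hsym : Mᵀ = M)
    (hadj : M * E = Eᵀ * M) (h2 : (2 : K) ≠ 0) (X : GL (Fin h.d) K) :
    X ∈ (h.form M hM hsym hadj h2).iso ↔
      (X : Matrix (Fin h.d) (Fin h.d) K)ᵀ * h.gram M * X = h.gram M := by
  have hf : ∀ x y, (h.form M hM hsym hadj h2).form x y = x ⬝ᵥ (h.gram M *ᵥ y) := fun _ _ => rfl
  have key : ∀ x y : Fin h.d → K, ((X : Matrix (Fin h.d) (Fin h.d) K) *ᵥ x) ⬝ᵥ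
      (h.gram M *ᵥ ((X : Matrix (Fin h.d) (Fin h.d) K) *ᵥ y)) =
      x ⬝ᵥ (((X : Matrix (Fin h.d) (Fin h.d) K)ᵀ * h.gram M * (X : Matrix (Fin h.d) (Fin h.d) K)) *ᵥ y) := by
    intro x y
    rw [Matrix.mulVec_mulVec, ← Matrix.vecMul_transpose, ← Matrix.dotProduct_mulVec, Matrix.mulVec_mulVec,
      ← Matrix.mul_assoc]
  rw [HForm.mem_iso]
  simp only [hf, key]
  constructor
  · intro hh
    refine Matrix.ext fun i j => ?_
    have := hh (Pi.single i 1) (Pi.single j 1)
    simpa using this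
  · intro hh x y
    rw [hh]

end Half

end CfsgLib.LocalBalance.Graph
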