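import Cfsg.Agent.Lib.LocalBalance.Basic
import Cfsg.Agent.Lib.LocalBalance.GraphExists
import Cfsg.Agent.Lib.PGOQuot.GraphInvol
import Cfsg.Agent.Lib.Descent.POmegaField

/-!
The centraliser of a graph involution of `PΩ(Q)` has trivial odd core.
-/

set_option autoImplicit false
set_option linter.style.haveILetI false
set_option maxHeartbeats 400000

namespace CfsgLib.LocalBalance

open Matrix Cfsg QuadraticMap
open CfsgLib.PGOQuot (simG simAut conjOmega scal scal_mulVec scal_mem_simG isoToSim Ctx)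
open CfsgLib.Classical.Quad (NDPolar)
open CfsgLib.Descent (mapGL mapGL_coe map_mulVec_apply)
open scoped commutatorElement

variable {ι : Type} [Fintype ι] [DecidableEq ι] {F : Type*} [Field F] {Q : QuadraticForm F (ι → F)}

theorem scal_val (c : Fˣ) : ((scal c : GL ι F) : Matrix ι ι F) = (c : F) • (1 : Matrix ι ι F) := by
  simp [CfsgLib.PGOQuot.scal, Matrix.smul_one_eq_diagonal]

variable (Q) in
/-- The matrix of the polar form. -/
noncomputable def polM : Matrix ι ι F := LinearMap.toMatrix₂' F (polarBilin Q)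

theorem polar_eq (x y : ι → F) : polar Q x y = x ⬝ᵥ (polM Q *ᵥ y) := by
  rw [polM, ← Matrix.toLinearMap₂'_apply', Matrix.toLinearMap₂'_toMatrix', polarBilin_apply_apply]

theorem polM_symm : (polM Q)ᵀ = polM Q := by
  refine Matrix.ext fun i j => ?_
  simp only [polM, Matrix.transpose_apply, LinearMap.toMatrix₂'_apply, polarBilin_apply_apply]
  exact polar_comm Q _ _

theorem polM_det (hnd : NDPolar Q) : IsUnit (polM Q).det := by
  refine isUnit_iff_ne_zero.mpr fun h0 => ?_
  obtain ⟨v, hv, hMv⟩ := Matrix.exists_mulVec_eq_zero_iff.mpr h0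
  exact hv (hnd v fun x => by rw [polar_comm, polar_eq, hMv, dotProduct_zero])

theorem ext_bilin {A B : Matrix ι ι F} (h : ∀ x y : ι → F, x ⬝ᵥ (A *ᵥ y) = x ⬝ᵥ (B *ᵥ y)) : A = B := by
  refine Matrix.ext fun i j => ?_
  have := h (Pi.single i 1) (Pi.single j 1)
  simpa using this

theorem dot_congr (A M : Matrix ι ι F) (x y : ι → F) :
    (A *ᵥ x) ⬝ᵥ (M *ᵥ (A *ᵥ y)) = x ⬝ᵥ ((Aᵀ * M * A) *ᵥ y) := by
  rw [Matrix.mulVec_mulVec, ← Matrix.vecMul_transpose, ← Matrix.dotProduct_mulVec, Matrix.mulVec_mulVec,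
    ← Matrix.mul_assoc]

/-- Similarities in matrix language. -/
theorem sim_iff (h2 : (2 : F) ≠ 0) (A : Matrix ι ι F) (c : F) :
    Aᵀ * polM Q * A = c • polM Q ↔ ∀ v, Q (A *ᵥ v) = c * Q v := by
  have key : ∀ x y, x ⬝ᵥ ((c • polM Q) *ᵥ y) = c * polar Q x y := fun x y => by
    rw [Matrix.smul_mulVec, dotProduct_smul, polar_eq, smul_eq_mul]
  constructor
  · intro h v
    have h1 := dot_congr A (polM Q) v v
    rw [h, key, ← polar_eq, CfsgLib.Classical.Quad.polar_self', CfsgLib.Classical.Quad.polar_self'] at h1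
    exact mul_left_cancel₀ h2 (by linear_combination h1)
  · intro h
    refine ext_bilin fun x y => ?_
    rw [← dot_congr, key, ← polar_eq]
    simp only [polar, ← Matrix.mulVec_add, h]
    ring

theorem mem_iso_iff (h2 : (2 : F) ≠ 0) (o : GL ι F) :
    o ∈ isometryGroup F ⇑Q ↔ (o : Matrix ι ι F)ᵀ * polM Q * (o : Matrix ι ι F) = polM Q := by
  have h := sim_iff (Q := Q) h2 (o : Matrix ι ι F) 1
  simp only [one_smul, one_mul] at h
  rw [h]
  exact ⟨fun ho v => ho v v, fun ho u _ => ho u⟩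

theorem semi_matrix {g : GL ι F} {τ : F ≃+* F} {ν : Fˣ}
    (hν : ∀ v : ι → F, Q ((g : Matrix ι ι F) *ᵥ fun i => τ (v i)) = (ν : F) * τ (Q v)) :
    (g : Matrix ι ι F)ᵀ * polM Q * (g : Matrix ι ι F) = (ν : F) • (polM Q).map τ := by
  refine Matrix.ext fun i j => ?_
  have hs : ∀ k, (fun l => τ ((Pi.single k (1 : F) : ι → F) l)) = Pi.single k 1 := fun k => funext fun l => by
    by_cases hlk : l = k
    · subst hlk; simp
    · simp [hlk]
  have h1 : ((g : Matrix ι ι F)ᵀ * polM Q * (g : Matrix ι ι F)) i j =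
      polar Q ((g : Matrix ι ι F) *ᵥ Pi.single i 1) ((g : Matrix ι ι F) *ᵥ Pi.single j 1) := by
    rw [polar_eq, dot_congr]
    simp
  rw [h1]
  have hadd : (fun l => τ ((Pi.single i (1 : F) + Pi.single j 1 : ι → F) l)) =
      (Pi.single i 1 + Pi.single j 1 : ι → F) := by
    rw [show (fun l => τ ((Pi.single i (1 : F) + Pi.single j 1 : ι → F) l)) =
      (fun l => τ ((Pi.single i (1 : F) : ι → F) l)) + fun l => τ ((Pi.single j (1 : F) : ι → F) l) from
      funext fun l => map_add τ _ _, hs, hs]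
  have e1 := hν (Pi.single i 1 + Pi.single j 1)
  have e2 := hν (Pi.single i 1)
  have e3 := hν (Pi.single j 1)
  rw [hadd] at e1
  rw [hs] at e2 e3
  simp only [polar, ← Matrix.mulVec_add, e1, e2, e3, Matrix.smul_apply, Matrix.map_apply, smul_eq_mul, polM,
    LinearMap.toMatrix₂'_apply, polarBilin_apply_apply, map_sub]
  ring

theorem semi_iso_mem {g : GL ι F} {τ : F ≃+* F} (hg : IsSemisimilarityPair (⇑Q) g τ)
    (s : ↥(isometryGroup F ⇑Q)) : g * mapGL τ (s : GL ι F) * g⁻¹ ∈ isometryGroup F ⇑Q := by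
  obtain ⟨ν, hν⟩ := hg
  intro u _
  obtain ⟨w, hw⟩ : ∃ w : ι → F, (fun i => τ (w i)) = g⁻¹.1 *ᵥ u :=
    ⟨fun i => τ.symm ((g⁻¹.1 *ᵥ u) i), funext fun i => RingEquiv.apply_symm_apply _ _⟩
  show Q (((g * mapGL τ (s : GL ι F) * g⁻¹ : GL ι F) : Matrix ι ι F) *ᵥ u) = Q u
  conv_rhs => rw [show u = (g : Matrix ι ι F) *ᵥ (fun i => τ (w i)) by
    rw [hw, Matrix.mulVec_mulVec, Units.mul_inv, Matrix.one_mulVec]]
  rw [Units.val_mul, Units.val_mul, ← Matrix.mulVec_mulVec, ← Matrix.mulVec_mulVec, ← hw, mapGL_coe,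
    ← map_mulVec_apply, hν, hν, show Q (((s : GL ι F) : Matrix ι ι F) *ᵥ w) = Q w from s.2 w w]

/-- The action of a semisimilarity on the isometries. -/
def semiHom {g : GL ι F} {τ : F ≃+* F} (hg : IsSemisimilarityPair (⇑Q) g τ) :
    ↥(isometryGroup F ⇑Q) →* ↥(isometryGroup F ⇑Q) :=
  ((MulAut.conj g).toMonoidHom.comp ((mapGL τ).comp (isometryGroup F ⇑Q).subtype)).codRestrict _ fun s =>
    semi_iso_mem hg s

/-- The action on a class of an automorphism induced by a semisimilarity. -/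
theorem induced_apply {g : GL ι F} {τ : F ≃+* F} {β : MulAut (POmega F ⇑Q)}
    (hg : IsSemisimilarityPair (⇑Q) g τ) (hβ : IsInducedBySemilinearPOmega (⇑Q) g τ β) (s : ↥(Omega F ⇑Q)) :
    ∃ s' : ↥(Omega F ⇑Q), ((s' : ↥(isometryGroup F ⇑Q)) : GL ι F) =
        g * mapGL τ ((s : ↥(isometryGroup F ⇑Q)) : GL ι F) * g⁻¹ ∧
      β (QuotientGroup.mk s) = QuotientGroup.mk s' := by
  have hmem : semiHom hg s.1 ∈ Omega F ⇑Q := by
    have h : (Omega F ⇑Q).map (semiHom hg) ≤ Omega F ⇑Q := by
      rw [Omega, commutator_def, Subgroup.map_commutator]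
      exact Subgroup.commutator_mono le_top le_top
    exact h (Subgroup.mem_map_of_mem _ s.2)
  refine ⟨⟨_, hmem⟩, rfl, hβ s ⟨_, hmem⟩ ?_⟩
  show (((g * mapGL τ ((s : ↥(isometryGroup F ⇑Q)) : GL ι F) * g⁻¹ : GL ι F)) : Matrix ι ι F) = _
  rw [Units.val_mul, Units.val_mul, mapGL_coe]

/-- A normal subgroup without involutions of a normal subgroup of the centraliser is trivial. -/
theorem Graph.Data.normal_normal_eq_one {K : Type*} [Field K] [Fintype K] [Finite F] {S : Graph.Setup ι F K}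
    (D : Graph.Data S) (C : Subgroup ↥S.cent) [C.Normal] (M : Subgroup ↥C) [M.Normal]
    (hM : ∀ o ∈ M, Odd (orderOf o)) {o : ↥C} (ho : o ∈ M) : o = 1 := by
  have hcop : (Nat.card ↥M).Coprime 2 := by
    rw [Nat.coprime_two_right]
    by_contra h
    obtain ⟨z, hz⟩ := exists_prime_orderOf_dvd_card' (G := ↥M) 2 (even_iff_two_dvd.mp (Nat.not_odd_iff_even.mp h))
    have := hM z.1 z.2
    rw [Subgroup.orderOf_coe, hz] at this
    exact absurd this (by decide)
  have hle := CfsgLib.Solvable.le_pPrimeCore (p := 2) ‹M.Normal› hcop ho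
  haveI := CfsgLib.Solvable.pPrimeCore_characteristic 2 ↥C
  have hcard := CfsgLib.Solvable.pPrimeCore_card_coprime 2 ↥C
  refine Subtype.ext (@Graph.Data.odd_normal_eq_one _ _ _ _ _ _ _ _ _ D ((Cfsg.pPrimeCore 2 ↥C).map C.subtype)
    inferInstance (fun z hz => ?_) _ ⟨o, hle, rfl⟩)
  obtain ⟨w, hw, rfl⟩ := hz
  rw [orderOf_injective _ C.subtype_injective]
  exact ((Nat.coprime_two_right.mp hcard)).of_dvd_nat (Subgroup.orderOf_dvd_natCard _ hw)

theorem det_sq_of_iso {d : ℕ} {K : Type*} [Field K] {X N : Matrix (Fin d) (Fin d) K} (hN : N.det ≠ 0)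
    (h : Xᵀ * N * X = N) : X.det * X.det = 1 := by
  have h1 := congrArg Matrix.det h
  rw [Matrix.det_mul, Matrix.det_mul, Matrix.det_transpose] at h1
  exact mul_right_cancel₀ hN (by linear_combination h1)

variable [Fintype F]

/-- **Graph involutions.** The centraliser of an involution induced by an improper similarity has trivial odd
core. -/
theorem graph_core_eq_bot (C : Ctx Q) (hpair : ∀ β : MulAut (POmega F ⇑Q), ∃ (g : GL ι F) (τ : F ≃+* F),
      IsSemisimilarityPair (⇑Q) g τ ∧ IsInducedBySemilinearPOmega (⇑Q) g τ β)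
    (hZ : Subgroup.center (POmega F ⇑Q) = ⊥) {A : Subgroup (MulAut (POmega F ⇑Q))}
    (hinn : ∀ k, MulAut.conj k ∈ A) (g : ↥(simG Q)) (heps : C.eps g = -1)
    (hord : orderOf (simAut g : MulAut (POmega F ⇑Q)) = 2) :
    Cfsg.pPrimeCore 2 ↥(A ⊓ Subgroup.centralizer {(simAut g : MulAut (POmega F ⇑Q))}) = ⊥ := by
  classical
  have hn5 := C.five_le_card
  haveI : Fact (Nat.Prime 2) := ⟨Nat.prime_two⟩
  haveI : Finite (POmega F ⇑Q) := Quotient.finite _
  -- the square of `g` is scalar, equal to the multiplier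
  have hsq : simAut (g * g) = 1 := by
    rw [map_mul, ← pow_two, ← hord, pow_orderOf_eq_one]
  obtain ⟨cu, hcu⟩ := CfsgLib.PGOQuot.exists_scal_of_simAut_eq_one C.h2 C.hnd hn5 hsq
  set G : Matrix ι ι F := ((g : GL ι F) : Matrix ι ι F) with hG
  set c : F := (cu : F) with hc
  have hgg : G * G = c • 1 := by
    rw [hG, ← Units.val_mul, ← Subgroup.coe_mul, hcu, scal_val]
  have hGsim : Gᵀ * polM Q * G = (C.mu g : F) • polM Q := (sim_iff C.h2 _ _).mpr (C.mu_spec g)
  have hpolG : ∀ x y, polar Q (G *ᵥ x) y = x ⬝ᵥ ((Gᵀ * polM Q) *ᵥ y) := fun x y => by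
    rw [polar_eq, ← Matrix.mulVec_mulVec, Matrix.dotProduct_mulVec x, Matrix.vecMul_transpose]
  have hmG : (C.mu g : F) • (polM Q * G) = c • (Gᵀ * polM Q) := by
    rw [← Matrix.smul_mul, ← hGsim, Matrix.mul_assoc, hgg, Matrix.mul_smul, Matrix.mul_one]
  have hmu : (C.mu g : F) = c := by
    have h : (C.mu g : F) * C.mu g = c * c := by
      have h := congrArg C.mu (show g * g = Ctx.scalSim cu from Subtype.ext hcu)
      rw [map_mul, C.mu_scalSim] at h
      exact congrArg Units.val h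
    rcases mul_self_eq_mul_self_iff.mp h with h' | h'
    · exact h'
    exfalso
    have hskew : Gᵀ * polM Q = -(polM Q * G) := by
      have h2 := hmG
      rw [h', neg_smul, ← smul_neg] at h2
      exact (smul_right_injective _ (Units.ne_zero cu) h2.symm)
    have h1 := C.eps_eq_one_of_skew (g : GL ι F) (fun x y => by
      rw [hpolG, hskew, Matrix.neg_mulVec, dotProduct_neg, ← Matrix.mulVec_mulVec, ← polar_eq]) g fun x => rfl
    rw [heps] at h1
    have := congrArg Units.val h1
    simp at this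
    exact C.h2 (by linear_combination -this)
  have hadj : polM Q * G = Gᵀ * polM Q := smul_right_injective _ (Units.ne_zero cu) (by
    have := hmG; rw [hmu] at this; exact this)
  have hdet : G.det = -(c ^ C.n) := by
    have h := congrArg Units.val heps
    rw [C.eps_apply, Units.val_mul, Units.val_inv_eq_inv_val, Units.val_pow_eq_pow_val, hmu, Units.val_neg,
      Units.val_one, ← div_eq_mul_inv, div_eq_iff (pow_ne_zero _ (Units.ne_zero cu)), neg_one_mul] at h
    exact h
  obtain ⟨K, i1, i2, S, hSM, hSg, hSc, ⟨D⟩⟩ := Graph.exists_data (polM Q) G c (Units.ne_zero cu) C.h2 hgg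
    polM_symm (polM_det C.hnd) hadj C.hι hdet
  -- the centraliser inside `Ω`
  have hcent : ∀ o : GL ι F, o ∈ S.cent ↔ o ∈ isometryGroup F ⇑Q ∧ o * (g : GL ι F) = (g : GL ι F) * o := by
    intro o
    rw [Graph.Setup.mem_cent, mem_iso_iff C.h2, hSM, hSg]
    exact and_congr_right fun _ => ⟨fun h => Units.ext h, fun h => congrArg Units.val h⟩
  set incl : ↥S.cent →* ↥(isometryGroup F ⇑Q) := Subgroup.inclusion (fun o ho => ((hcent o).mp ho).1)
  set CC : Subgroup ↥S.cent := (Omega F ⇑Q).comap incl with hCC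
  haveI : CC.Normal := (show (Omega F ⇑Q).Normal from Subgroup.commutator_normal _ _).comap incl
  let toP : ↥CC →* POmega F ⇑Q := (QuotientGroup.mk' _).comp
    ((incl.comp CC.subtype).codRestrict (Omega F ⇑Q) fun o => o.2)
  have hfix : ∀ o, toP o ∈ fixPts (simAut g : MulAut (POmega F ⇑Q)) := fun o => by
    rw [mem_fixPts]
    show simAut g (QuotientGroup.mk _) = QuotientGroup.mk _
    rw [CfsgLib.PGOQuot.simAut_mk]
    refine congrArg _ (Subtype.ext (Subtype.ext ?_))
    rw [CfsgLib.PGOQuot.conjOmega_coe]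
    show (g : GL ι F) * o.1.1 * (g : GL ι F)⁻¹ = o.1.1
    rw [← ((hcent _).mp o.1.2).2, mul_inv_cancel_right]
  have hcen : ∀ s : ↥(Omega F ⇑Q), (QuotientGroup.mk s : POmega F ⇑Q) = 1 →
      ∃ z : F, (z = 1 ∨ z = -1) ∧ (((s : ↥(isometryGroup F ⇑Q)) : GL ι F) : Matrix ι ι F) = z • 1 := by
    intro s hs
    obtain ⟨z, hz, hzx⟩ := CfsgLib.PGOQuot.act_central C.h2 C.hnd hn5 ((QuotientGroup.eq_one_iff s).mp hs)
    refine ⟨z, hz, Matrix.toLin'.injective (LinearMap.ext fun x => ?_)⟩
    rw [Matrix.toLin'_apply, Matrix.toLin'_apply, Matrix.smul_mulVec, Matrix.one_mulVec]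
    exact hzx x
  have w : Witness 2 (simAut g : MulAut (POmega F ⇑Q)) toP.range := by
    refine ⟨?_, ?_, fun M hM hcop => ?_, fun y hy hfy => ?_⟩
    · rintro _ ⟨o, rfl⟩; exact hfix o
    · rintro k hk _ ⟨o, rfl⟩
      obtain ⟨w, rfl⟩ := QuotientGroup.mk_surjective k
      rw [mem_fixPts, CfsgLib.PGOQuot.simAut_mk] at hk
      set z := w⁻¹ * conjOmega g w with hzdef
      have hz : z ∈ Subgroup.center ↥(Omega F ⇑Q) := QuotientGroup.eq.mp hk.symm
      let s : ↥(Omega F ⇑Q) := ⟨incl o.1, o.2⟩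
      have hs : conjOmega g s = s := Subtype.ext (Subtype.ext (by
        rw [CfsgLib.PGOQuot.conjOmega_coe]
        show (g : GL ι F) * o.1.1 * (g : GL ι F)⁻¹ = o.1.1
        rw [← ((hcent _).mp o.1.2).2, mul_inv_cancel_right]))
      have hconj : conjOmega g (w * s * w⁻¹) = w * s * w⁻¹ := by
        rw [map_mul, map_mul, map_inv, hs, show conjOmega g w = w * z by rw [hzdef, mul_inv_cancel_left],
          mul_assoc w z s, (Subgroup.mem_center_iff.mp hz s).symm]
        group
      set o' := w * s * w⁻¹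
      have ho' : ((o' : ↥(isometryGroup F ⇑Q)) : GL ι F) ∈ S.cent := by
        refine (hcent _).mpr ⟨o'.1.2, ?_⟩
        have h := congrArg (fun u : ↥(Omega F ⇑Q) => ((u : ↥(isometryGroup F ⇑Q)) : GL ι F)) hconj
        simp only [CfsgLib.PGOQuot.conjOmega_coe, mul_inv_eq_iff_eq_mul] at h
        exact h.symm
      exact ⟨⟨⟨_, ho'⟩, o'.2⟩, rfl⟩
    · -- odd normal subgroups
      set M₀ := M.comap toP.rangeRestrict with hM₀
      haveI : M₀.Normal := hM.comap _
      let δ : ↥CC →* Kˣ := (Matrix.GeneralLinearGroup.det.comp (S.res D.hp)).comp CC.subtype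
      haveI : (M₀ ⊓ δ.ker).Normal := inferInstance
      have hodd : ∀ o ∈ M₀ ⊓ δ.ker, Odd (orderOf o) := by
        rintro o ⟨ho, hd⟩
        obtain ⟨k, hk⟩ : ∃ k, Nat.card ↥M = k := ⟨_, rfl⟩
        have hk2 : Odd k := hk ▸ Nat.coprime_two_right.mp hcop
        have h1 : toP.rangeRestrict o ^ k = 1 := by
          rw [← hk]
          exact congrArg Subtype.val (pow_card_eq_one' (x := (⟨_, ho⟩ : ↥M)))
        rw [← map_pow] at h1
        obtain ⟨z, hz, hzv⟩ := hcen _ (congrArg Subtype.val h1)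
        have hval : ((o ^ k).1.1 : Matrix ι ι F) = z • 1 := hzv
        have hd' : δ (o ^ k) = 1 := by rw [map_pow, MonoidHom.mem_ker.mp hd, one_pow]
        have hz1 : z = 1 := by
          rcases hz with rfl | rfl
          · rfl
          exfalso
          have h3 : Matrix.det ((S.res D.hp (o ^ k).1 : GL (Fin D.hp.d) K) : Matrix (Fin D.hp.d) (Fin D.hp.d) K) = 1 :=
            congrArg Units.val hd'
          rw [S.res_coe, hval, Matrix.map_smul' S.φ _ _ (map_mul S.φ), Matrix.map_one S.φ (map_zero _) (map_one _),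
            D.hp.res_smul, D.hp.res_one, map_neg, map_one, Matrix.det_smul, Matrix.det_one, mul_one,
            Fintype.card_fin, D.odd_p.neg_one_pow] at h3
          exact S.two' (by linear_combination -h3)
        have hok : o ^ k = 1 := Subtype.ext (Subtype.ext (Units.ext (by
          show ((o ^ k).1.1 : Matrix ι ι F) = 1
          rw [hval, hz1, one_smul])))
        exact hk2.of_dvd_nat (orderOf_dvd_of_pow_eq_one hok)
      refine (Subgroup.eq_bot_iff_forall _).mpr fun mm hmm => ?_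
      obtain ⟨o, rfl⟩ := toP.rangeRestrict_surjective mm
      have hd2 : δ (o * o) = 1 := by
        rw [map_mul]
        refine Units.ext ?_
        rw [Units.val_mul, Units.val_one]
        exact det_sq_of_iso (D.hp.gram_det_ne S.MK_det S.E_adj) (D.hp.res_iso (S.comm_E o.1.2.2) (S.map_iso o.1.2.1))
      have h2 := D.normal_normal_eq_one CC (M₀ ⊓ δ.ker) hodd (o := o * o)
        ⟨by show toP.rangeRestrict (o * o) ∈ M; rw [map_mul]; exact mul_mem hmm hmm, MonoidHom.mem_ker.mpr hd2⟩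
      have h3 : toP.rangeRestrict o ^ 2 = 1 := by rw [pow_two, ← map_mul, h2, map_one]
      have h4 : orderOf (toP.rangeRestrict o) ∣ Nat.card ↥M := Subgroup.orderOf_dvd_natCard M hmm
      exact orderOf_eq_one_iff.mp (Nat.eq_one_of_dvd_coprimes hcop h4 (orderOf_dvd_of_pow_eq_one h3))
    · -- the centraliser
      obtain ⟨h, τ, hh, hyi⟩ := hpair y
      obtain ⟨ν, hν⟩ := hh
      have hh' : IsSemisimilarityPair (⇑Q) h τ := ⟨ν, hν⟩
      have hsimM := semi_matrix hν
      -- the twisted image of `g`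
      set k' : GL ι F := h * mapGL τ (g : GL ι F) * h⁻¹ with hk'
      have hk'mem : k' ∈ simG Q := by
        refine ⟨Units.map τ.toRingHom.toMonoidHom (C.mu g), fun u => ?_⟩
        obtain ⟨w, hw⟩ : ∃ w : ι → F, (fun i => τ (w i)) = h⁻¹.1 *ᵥ u :=
          ⟨fun i => τ.symm ((h⁻¹.1 *ᵥ u) i), funext fun i => RingEquiv.apply_symm_apply _ _⟩
        conv_rhs => rw [show u = (h : Matrix ι ι F) *ᵥ (fun i => τ (w i)) by
          rw [hw, Matrix.mulVec_mulVec, Units.mul_inv, Matrix.one_mulVec]]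
        rw [hk', Units.val_mul, Units.val_mul, ← Matrix.mulVec_mulVec, ← Matrix.mulVec_mulVec, ← hw, mapGL_coe,
          ← map_mulVec_apply, hν, hν, C.mu_spec, map_mul, ← mul_assoc, mul_comm (ν : F)]
        exact (mul_assoc _ _ _)
      have hk'x : simAut ⟨k', hk'mem⟩ = (simAut g : MulAut (POmega F ⇑Q)) := by
        refine MulEquiv.ext fun u => ?_
        obtain ⟨v, rfl⟩ := y.surjective u
        obtain ⟨s, rfl⟩ := QuotientGroup.mk_surjective v
        obtain ⟨s₁, hs₁, hys⟩ := induced_apply hh' hyi s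
        obtain ⟨s₂, hs₂, hys₂⟩ := induced_apply hh' hyi (conjOmega g s)
        have h1 := DFunLike.congr_fun hy (QuotientGroup.mk s)
        rw [MulAut.mul_apply, MulAut.mul_apply, CfsgLib.PGOQuot.simAut_mk, hys₂] at h1
        rw [← h1, hys, CfsgLib.PGOQuot.simAut_mk]
        refine congrArg _ (Subtype.ext (Subtype.ext ?_))
        rw [CfsgLib.PGOQuot.conjOmega_coe, hs₁, hs₂, CfsgLib.PGOQuot.conjOmega_coe, map_mul, map_mul, map_inv]
        show k' * _ * k'⁻¹ = _
        rw [hk']
        group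
      obtain ⟨l, hl⟩ := CfsgLib.PGOQuot.exists_scal_of_simAut_eq_one C.h2 C.hnd hn5
        (g := g⁻¹ * ⟨k', hk'mem⟩) (by rw [map_mul, map_inv, hk'x, inv_mul_cancel])
      have hcomm : (h : Matrix ι ι F) * S.g.map τ = (l : F) • (S.g * (h : Matrix ι ι F)) := by
        have h1 : h * mapGL τ (g : GL ι F) = (g : GL ι F) * scal l * h := by
          rw [Subgroup.coe_mul, Subgroup.coe_inv, inv_mul_eq_iff_eq_mul] at hl
          rw [← hl]
          show h * mapGL τ (g : GL ι F) = k' * h
          rw [hk']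
          group
        have h2 := congrArg Units.val h1
        rw [Units.val_mul, Units.val_mul, Units.val_mul, mapGL_coe, scal_val, Matrix.mul_smul, Matrix.mul_one,
          Matrix.smul_mul] at h2
        rw [hSg, hG]
        exact h2
      obtain ⟨hτ, k, hk⟩ := D.semi_scalar (by rw [C.hι]; have := C.hn; omega) τ h (l : F) (ν : F) hcomm
        (by rw [hSM]; exact hsimM) fun o o' => by
          have hmem : (⁅o, o'⁆ : ↥S.cent) ∈ CC := by
            show incl ⁅o, o'⁆ ∈ Omega F ⇑Q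
            rw [map_commutatorElement]
            exact Subgroup.commutator_mem_commutator (Subgroup.mem_top _) (Subgroup.mem_top _)
          obtain ⟨s', hs', hys⟩ := induced_apply hh' hyi ⟨incl ⁅o, o'⁆, hmem⟩
          rw [show y (QuotientGroup.mk ⟨incl ⁅o, o'⁆, hmem⟩) = QuotientGroup.mk ⟨incl ⁅o, o'⁆, hmem⟩ from
            hfy _ ⟨⟨_, hmem⟩, rfl⟩] at hys
          obtain ⟨z, hz, hzv⟩ := hcen (⟨incl ⁅o, o'⁆, hmem⟩⁻¹ * s') (by
            rw [QuotientGroup.mk_mul, QuotientGroup.mk_inv, ← hys, inv_mul_cancel])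
          refine ⟨z, ?_⟩
          set O : GL ι F := (⁅o, o'⁆ : ↥S.cent).1 with hO
          have e : ((O⁻¹ * (h * mapGL τ O * h⁻¹) : GL ι F) : Matrix ι ι F) = z • 1 := by
            rw [← hzv, Subgroup.coe_mul, Subgroup.coe_mul, hs']
            rfl
          calc (h : Matrix ι ι F) * (O : Matrix ι ι F).map τ
              = (O : Matrix ι ι F) * ((O⁻¹ * (h * mapGL τ O * h⁻¹) : GL ι F) : Matrix ι ι F) * (h : Matrix ι ι F) := by
                rw [← mapGL_coe, ← Units.val_mul, ← Units.val_mul, ← Units.val_mul]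
                congr 1
                group
            _ = _ := by rw [e, Matrix.mul_smul, Matrix.mul_one, Matrix.smul_mul]
      -- so `y` is trivial or `x`
      have hker : ∀ f : ↥(simG Q), (h : Matrix ι ι F) = k • ((f : GL ι F) : Matrix ι ι F) → y = simAut f := by
        intro f hf
        have hk0 : k ≠ 0 := fun h0 => by
          have := h.mul_inv
          rw [hf, h0, zero_smul, Matrix.zero_mul] at this
          obtain ⟨i₀⟩ : Nonempty ι := Fintype.card_pos_iff.mp (by omega)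
          exact (zero_ne_one : (0 : F) ≠ 1) (by simpa using congrFun (congrFun this i₀) i₀)
        have hh2 : h = scal (Units.mk0 k hk0) * (f : GL ι F) := Units.ext (by
          rw [Units.val_mul, scal_val, Matrix.smul_mul, Matrix.one_mul, hf, Units.val_mk0])
        refine MulEquiv.ext fun v => ?_
        obtain ⟨s, rfl⟩ := QuotientGroup.mk_surjective v
        obtain ⟨s', hs', hys⟩ := induced_apply hh' hyi s
        rw [hys, CfsgLib.PGOQuot.simAut_mk]
        refine congrArg _ (Subtype.ext (Subtype.ext ?_))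
        rw [hs', CfsgLib.PGOQuot.conjOmega_coe, hh2, hτ, _root_.mul_inv_rev,
          show mapGL (1 : F ≃+* F) ((s : ↥(isometryGroup F ⇑Q)) : GL ι F) = ((s : ↥(isometryGroup F ⇑Q)) : GL ι F) from
            Units.ext (Matrix.ext fun _ _ => rfl)]
        set a : GL ι F := scal (Units.mk0 k hk0) with ha
        calc a * (f : GL ι F) * ((s : ↥(isometryGroup F ⇑Q)) : GL ι F) * ((f : GL ι F)⁻¹ * a⁻¹)
            = a * ((f : GL ι F) * ((s : ↥(isometryGroup F ⇑Q)) : GL ι F) * (f : GL ι F)⁻¹) * a⁻¹ := by group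
          _ = _ := by rw [CfsgLib.PGOQuot.scal_comm, mul_inv_cancel_right]
      rcases hk with hk | hk
      · rw [hker 1 (by rw [hk, OneMemClass.coe_one, Units.val_one]), map_one]
        exact one_mem _
      · rw [hker g (by rw [hk, hSg, hG])]
        exact Subgroup.mem_zpowers _
  exact w.pPrimeCore_eq_bot hZ hinn hord

end CfsgLib.LocalBalance
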