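import Cfsg.Agent.Lib.MinusField.Centralizer

/-!
Semilinear maps commuting with `Ω⁻` over a subfield.
-/

set_option autoImplicit false
set_option linter.style.haveILetI false
set_option linter.unusedSectionVars false
set_option maxHeartbeats 800000

namespace CfsgLib.LocalBalance.MinusBase

open Matrix Cfsg QuadraticMap
open CfsgLib.Classical.Quad (NDPolar)
open CfsgLib.OrthCrit (minusForm)
open CfsgLib.OrthSpinor (act)
open CfsgLib.PGOQuot.Minus (Idx Aniso)
open CfsgLib.Descent (liftVec)

variable {m : ℕ} {K : Type*} [Field K] [Fintype K] {a₀ b₀ : K}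

/-- The Siegel transformations are in `Ω`. -/
theorem exists_siegel (hm : 3 ≤ m) (hab : Aniso a₀ b₀) (u w : Idx m → K) (hu : minusForm m K a₀ b₀ u = 0)
    (hw : polar (⇑(minusForm m K a₀ b₀)) u w = 0) :
    ∃ s : ↥(Omega K ⇑(minusForm m K a₀ b₀)), ∀ x, act (minusForm m K a₀ b₀) s.1 x =
      x + polar (⇑(minusForm m K a₀ b₀)) x u • w +
        (-(polar (⇑(minusForm m K a₀ b₀)) x w) - minusForm m K a₀ b₀ w * polar (⇑(minusForm m K a₀ b₀)) x u) • u := by
  set Q := minusForm m K a₀ b₀
  let e := CfsgLib.Classical.Quad.minusEquiv m K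
  let R := CfsgLib.Classical.Quad.hypForm m (CfsgLib.Classical.Quad.binForm a₀ b₀)
  have he : ∀ v, R (e v) = Q v := fun v => CfsgLib.Classical.Quad.minusEquiv_spec m a₀ b₀ v
  have hpol : ∀ x y, polar R (e x) (e y) = polar (⇑Q) x y := fun x y => by
    simp only [polar, ← map_add e, he]
  have hnd : NDPolar R := CfsgLib.Classical.Quad.ndPolar_hypForm (CfsgLib.Classical.Quad.ndPolar_binForm hab) m
  let P : CfsgLib.Classical.Quad.Frame R := CfsgLib.AutPOmega.frame (CfsgLib.Classical.Quad.binForm a₀ b₀) hm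
  let T := CfsgLib.Classical.Quad.siegel R (e u) (e w) (by rw [he, hu]) (by rw [hpol, hw])
  let iso := CfsgLib.Classical.Quad.isometryEquivModel (Qf := ⇑Q) e he
  have hT : T ∈ commutator (CfsgLib.Classical.Quad.Orth R) := by
    rw [CfsgLib.Classical.Quad.commutator_orth_eq hnd P]
    exact Subgroup.subset_closure ⟨e u, e w, _, _, rfl⟩
  have hmem : iso.symm T ∈ Omega K ⇑Q := by
    have h : (commutator (CfsgLib.Classical.Quad.Orth R)).map iso.symm.toMonoidHom ≤ Omega K ⇑Q := by
      rw [Omega, commutator_def, Subgroup.map_commutator]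
      exact Subgroup.commutator_mono le_top le_top
    exact h ⟨T, hT, rfl⟩
  refine ⟨⟨_, hmem⟩, fun x => e.injective ?_⟩
  show e (((iso.symm T : ↥(isometryGroup K ⇑Q)) : GL (Idx m) K).1 *ᵥ x) = _
  rw [← CfsgLib.AutPOmega.isometryEquivModel_apply (Qf := ⇑Q) e he, show
    CfsgLib.Classical.Quad.isometryEquivModel (Qf := ⇑Q) e he (iso.symm T) = T from iso.apply_symm_apply T,
    CfsgLib.Classical.Quad.siegel_apply, hpol, hpol, he, map_add, map_add, map_smul, map_smul]

theorem omega_perfect (hm : 3 ≤ m) (hab : Aniso a₀ b₀) :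
    commutator ↥(Omega K ⇑(minusForm m K a₀ b₀)) = ⊤ := by
  set Q := minusForm m K a₀ b₀
  let e := CfsgLib.Classical.Quad.minusEquiv m K
  have he : ∀ v, CfsgLib.Classical.Quad.hypForm m (CfsgLib.Classical.Quad.binForm a₀ b₀) (e v) = Q v :=
    fun v => CfsgLib.Classical.Quad.minusEquiv_spec m a₀ b₀ v
  have hnd := CfsgLib.Classical.Quad.ndPolar_hypForm (CfsgLib.Classical.Quad.ndPolar_binForm hab) m
  let P := CfsgLib.AutPOmega.frame (CfsgLib.Classical.Quad.binForm a₀ b₀) hm
  let ε : ↥(Omega K ⇑Q) ≃* ↥(CfsgLib.Classical.Quad.siegelGroup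
      (CfsgLib.Classical.Quad.hypForm m (CfsgLib.Classical.Quad.binForm a₀ b₀))) :=
    (CfsgLib.Classical.Quad.commutatorEquiv (CfsgLib.Classical.Quad.isometryEquivModel e he)).trans
      (MulEquiv.subgroupCongr (CfsgLib.Classical.Quad.commutator_orth_eq hnd P))
  apply Subgroup.map_injective (f := ε.toMonoidHom) ε.injective
  rw [commutator_def, Subgroup.map_commutator, Subgroup.map_top_of_surjective _ ε.surjective, ← commutator_def,
    CfsgLib.Classical.Quad.siegelGroup_perfect hnd P]

variable {F : Type*} [Field F] {a b : F} (f : K →+* F)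

/-- **A semilinear map commuting with `Ω⁻` over a subfield is a scalar and fixes the subfield.** -/
theorem semi_base_scalar (hm : 3 ≤ m) (hab : Aniso a₀ b₀) (τ : F ≃+* F) (h : GL (Idx m) F)
    (hs : ∀ s : ↥(Omega K ⇑(minusForm m K a₀ b₀)),
      (h : Matrix (Idx m) (Idx m) F) * ((s.1.1 : Matrix (Idx m) (Idx m) K).map f).map τ =
        (s.1.1 : Matrix (Idx m) (Idx m) K).map f * (h : Matrix (Idx m) (Idx m) F)) :
    (∀ c, τ (f c) = f c) ∧ ∃ l : F, (h : Matrix (Idx m) (Idx m) F) = l • 1 := by
  classical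
  set Q := minusForm m K a₀ b₀ with hQ
  set H := (h : Matrix (Idx m) (Idx m) F) with hH
  let st : Idx m → Idx m → K := fun i => Pi.single i 1
  let E : Idx m → Idx m → F := fun i => Pi.single i 1
  have hlift : ∀ i, liftVec f (st i) = E i := fun i => funext fun j => by
    by_cases hij : j = i
    · subst hij; simp [liftVec, st, E]
    · simp [liftVec, st, E, hij]
  let τv : (Idx m → F) → (Idx m → F) := fun v i => τ (v i)
  have τE : ∀ i, τv (E i) = E i := fun i => funext fun j => by
    by_cases hij : j = i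
    · subst hij; simp [τv, E]
    · simp [τv, E, hij]
  -- a Siegel transformation moves a standard vector
  have key : ∀ (s : ↥(Omega K ⇑Q)) (i : Idx m) (y : Idx m → K), act Q s.1 (st i) = y →
      H *ᵥ τv (liftVec f y) = (s.1.1 : Matrix (Idx m) (Idx m) K).map f *ᵥ (H *ᵥ E i) := by
    intro s i y hy
    have h1 := congrArg (fun A : Matrix (Idx m) (Idx m) F => A *ᵥ E i) (hs s)
    simp only [← Matrix.mulVec_mulVec] at h1
    rw [← h1]
    congr 1
    rw [← hy]
    funext k
    show τ (f ((( s.1.1 : Matrix (Idx m) (Idx m) K) *ᵥ st i) k)) = _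
    rw [RingHom.map_mulVec, show (f ∘ st i) = E i from hlift i]
    exact (RingHom.map_mulVec τ.toRingHom _ (E i) k).trans (by rw [show (τ.toRingHom ∘ E i) = E i from τE i]; rfl)
  -- the image of `s - 1`
  have rng : ∀ (u w : Idx m → K) (s : ↥(Omega K ⇑Q)),
      (∀ x, act Q s.1 x = x + polar Q x u • w + (-(polar Q x w) - Q w * polar Q x u) • u) →
      ∀ Y : Idx m → F, ∃ p q : F, (s.1.1 : Matrix (Idx m) (Idx m) K).map f *ᵥ Y - Y =
        p • liftVec f w + q • liftVec f u := by
    intro u w s hsx Y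
    refine ⟨∑ k, Y k * f (polar Q (st k) u), ∑ k, Y k * f (-(polar Q (st k) w) - Q w * polar Q (st k) u),
      funext fun i => ?_⟩
    have hcol : ∀ k, (s.1.1 : Matrix (Idx m) (Idx m) K) i k =
        (st k i) + polar Q (st k) u * w i + (-(polar Q (st k) w) - Q w * polar Q (st k) u) * u i := fun k => by
      have h1 := congrFun (hsx (st k)) i
      simp only [act, Pi.add_apply, Pi.smul_apply, smul_eq_mul] at h1
      rw [← h1]
      simp [st]
    have hY : Y i = ∑ k, f (st k i) * Y k := by
      rw [Finset.sum_eq_single i (fun k _ hk => by simp [st, Ne.symm hk]) (by simp)]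
      simp [st]
    simp only [Pi.sub_apply, Pi.add_apply, Pi.smul_apply, smul_eq_mul, liftVec, Finset.sum_mul, Matrix.mulVec,
      dotProduct]
    rw [sub_eq_iff_eq_add, hY, ← Finset.sum_add_distrib, ← Finset.sum_add_distrib]
    refine Finset.sum_congr rfl fun k _ => ?_
    rw [Matrix.map_apply, hcol, map_add, map_add, map_mul, map_mul]
    ring
  -- the standard vectors
  let e : Fin m → Idx m := fun i => Sum.inl (Sum.inl i)
  let g : Fin m → Idx m := fun i => Sum.inl (Sum.inr i)
  have Qe : ∀ i, Q (st (e i)) = 0 := fun i => by simp [hQ, st, e, Cfsg.quadFormMinus, Pi.single_apply]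
  have Qg : ∀ i, Q (st (g i)) = 0 := fun i => by simp [hQ, st, g, Cfsg.quadFormMinus, Pi.single_apply]
  have pee : ∀ i j, polar Q (st (e i)) (st (e j)) = 0 := fun i j => by
    simp [hQ, st, e, CfsgLib.OrthCrit.polar_minusForm, CfsgLib.OrthCrit.polar_plusForm, Pi.single_apply]
  have pgg : ∀ i j, polar Q (st (g i)) (st (g j)) = 0 := fun i j => by
    simp [hQ, st, g, CfsgLib.OrthCrit.polar_minusForm, CfsgLib.OrthCrit.polar_plusForm, Pi.single_apply]
  have peg : ∀ i j, polar Q (st (e i)) (st (g j)) = if i = j then 1 else 0 := fun i j => by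
    simp [hQ, st, e, g, CfsgLib.OrthCrit.polar_minusForm, CfsgLib.OrthCrit.polar_plusForm, Pi.single_apply, eq_comm]
  have pge : ∀ i j, polar Q (st (g i)) (st (e j)) = if i = j then 1 else 0 := fun i j => by
    rw [polar_comm, peg]; simp [eq_comm]
  have pwg : ∀ k i, polar Q (st (Sum.inr k)) (st (g i)) = 0 := fun k i => by
    simp [hQ, st, g, CfsgLib.OrthCrit.polar_minusForm, CfsgLib.OrthCrit.polar_plusForm, Pi.single_apply]
  have pew : ∀ k i, polar Q (st (e i)) (st (Sum.inr k)) = 0 := fun k i => by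
    simp [hQ, st, e, CfsgLib.OrthCrit.polar_minusForm, CfsgLib.OrthCrit.polar_plusForm, Pi.single_apply]
  -- the image of `e j` is proportional to it
  have line : ∀ i j : Fin m, i ≠ j → ∃ p q : F, H *ᵥ E (e j) = p • E (e j) + q • E (e i) := by
    intro i j hij
    obtain ⟨s, hsx⟩ := exists_siegel hm hab (st (e i)) (st (e j)) (Qe i) (pee i j)
    have hy : act Q s.1 (st (g i)) = st (g i) + st (e j) := by
      rw [hsx, pge, pge, if_pos rfl, if_neg hij, Qe]
      simp
    have h1 := key s (g i) _ hy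
    have h2 : τv (liftVec f (st (g i) + st (e j))) = E (g i) + E (e j) := by
      funext k
      show τ (f (st (g i) k + st (e j) k)) = _
      rw [map_add, map_add]
      exact congrArg₂ (· + ·) ((congrArg τ (congrFun (hlift _) k)).trans (congrFun (τE _) k))
        ((congrArg τ (congrFun (hlift _) k)).trans (congrFun (τE _) k))
    obtain ⟨p, q, hpq⟩ := rng _ _ s hsx (H *ᵥ E (g i))
    rw [hlift, hlift] at hpq
    refine ⟨p, q, ?_⟩
    rw [← hpq, ← h1, h2, Matrix.mulVec_add, add_sub_cancel_left]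
  obtain ⟨i0, i1, i2, h01, h21, h02⟩ : ∃ i0 i1 i2 : Fin m, i0 ≠ i1 ∧ i2 ≠ i1 ∧ i0 ≠ i2 :=
    ⟨⟨0, by omega⟩, ⟨1, by omega⟩, ⟨2, by omega⟩, by simp, by simp, by simp⟩
  obtain ⟨l, hl⟩ : ∃ l : F, H *ᵥ E (e i1) = l • E (e i1) := by
    obtain ⟨p, q, h1⟩ := line i0 i1 h01
    obtain ⟨p', q', h2⟩ := line i2 i1 h21
    refine ⟨p, ?_⟩
    have h3 := congrFun (h1.symm.trans h2) (e i0)
    simp [E, e, h01, h02] at h3
    rw [h1, h3, zero_smul, add_zero]
  -- propagation along Siegel transformations
  have move : ∀ (u w : Idx m → K) (i : Idx m), Q u = 0 → polar Q u w = 0 → H *ᵥ E i = l • E i →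
      polar Q (st i) u = 1 → H *ᵥ τv (liftVec f (st i + w + (-(polar Q (st i) w) - Q w) • u)) =
        l • liftVec f (st i + w + (-(polar Q (st i) w) - Q w) • u) := by
    intro u w i hu huw hi hiu
    obtain ⟨s, hsx⟩ := exists_siegel hm hab u w hu huw
    have hy : act Q s.1 (st i) = st i + w + (-(polar Q (st i) w) - Q w) • u := by
      rw [hsx, hiu, one_smul, mul_one]
    rw [key s i _ hy, hi, Matrix.mulVec_smul, ← hlift i, CfsgLib.Descent.mulVec_liftVec, ← hy]
    rfl
  have addE : ∀ v w : Idx m → K, liftVec f (v + w) = liftVec f v + liftVec f w := fun v w =>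
    funext fun k => map_add f _ _
  have τadd : ∀ v w : Idx m → F, τv (v + w) = τv v + τv w := fun v w => funext fun k => map_add τ _ _
  have simple : ∀ (u : Idx m → K) (i j : Idx m), Q u = 0 → polar Q u (st j) = 0 → Q (st j) = 0 →
      polar Q (st i) (st j) = 0 → H *ᵥ E i = l • E i → polar Q (st i) u = 1 → H *ᵥ E j = l • E j := by
    intro u i j hu huj hj hij hi hiu
    have h1 := move u (st j) i hu huj hi hiu
    rw [hij, hj, neg_zero, sub_zero, zero_smul, add_zero, addE, hlift, hlift, τadd, τE, τE, Matrix.mulVec_add, hi,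
      smul_add] at h1
    exact add_left_cancel h1
  have he1 : ∀ j, j ≠ i1 → H *ᵥ E (e j) = l • E (e j) ∧ H *ᵥ E (g j) = l • E (g j) := fun j hj =>
    ⟨simple (st (g i1)) (e i1) (e j) (Qg _) (by rw [pge, if_neg (Ne.symm hj)]) (Qe j) (pee _ _) hl
        (by rw [peg, if_pos rfl]),
      simple (st (g i1)) (e i1) (g j) (Qg _) (pgg _ _) (Qg j) (by rw [peg, if_neg (Ne.symm hj)]) hl
        (by rw [peg, if_pos rfl])⟩
  have hg1 : H *ᵥ E (g i1) = l • E (g i1) :=
    simple (st (g i0)) (e i0) (g i1) (Qg _) (pgg _ _) (Qg _) (by rw [peg, if_neg h01]) (he1 i0 h01).1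
      (by rw [peg, if_pos rfl])
  have hl0 : l ≠ 0 := by
    intro h0
    rw [h0, zero_smul] at hl
    have h1 := congrArg (fun v => h⁻¹.1 *ᵥ v) hl
    simp only [hH, Matrix.mulVec_mulVec, Units.inv_mul, Matrix.one_mulVec, Matrix.mulVec_zero] at h1
    simpa [E] using congrFun h1 (e i1)
  -- the field automorphism fixes the subfield
  have hτ : ∀ c, τ (f c) = f c := by
    intro c
    have hzero : polar Q (st (g i1)) (c • st (e i0)) = 0 := by rw [polar_smul_right, pge, if_neg (Ne.symm h01), smul_zero]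
    have h1 := move (st (g i1)) (c • st (e i0)) (e i1) (Qg _) hzero hl (by rw [peg, if_pos rfl])
    have hQc : Q (c • st (e i0)) = 0 := by rw [QuadraticMap.map_smul, Qe, smul_zero]
    have hp : polar Q (st (e i1)) (c • st (e i0)) = 0 := by rw [polar_smul_right, pee, smul_zero]
    have hsm : ∀ j, liftVec f (c • st j) = f c • E j := fun j => by
      rw [← hlift j]; exact funext fun k => map_mul f _ _
    have τsm : ∀ j, τv (f c • E j) = τ (f c) • E j := fun j => by
      conv_rhs => rw [← τE j]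
      exact funext fun k => map_mul τ _ _
    rw [hp, hQc, neg_zero, sub_zero, zero_smul, add_zero, addE, hlift, hsm, τadd, τE, τsm, Matrix.mulVec_add,
      Matrix.mulVec_smul, hl, (he1 i0 h01).1, smul_add, add_right_inj, smul_smul, smul_smul] at h1
    have h2 := congrFun h1 (e i0)
    simp [E] at h2
    exact mul_right_cancel₀ hl0 (h2.trans (mul_comm _ _))
  refine ⟨hτ, l, Matrix.ext_iff_mulVec.mpr fun v => ?_⟩
  have hall : ∀ j, H *ᵥ E j = l • E j := by
    rintro ((j | j) | k)
    · by_cases hj : j = i1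
      · subst hj; exact hl
      · exact (he1 j hj).1
    · by_cases hj : j = i1
      · subst hj; exact hg1
      · exact (he1 j hj).2
    · have h1 := move (st (g i1)) (st (Sum.inr k)) (e i1) (Qg _) (by rw [polar_comm]; exact pwg k i1) hl
        (by rw [peg, if_pos rfl])
      set z := st (e i1) + st (Sum.inr k) +
        (-(polar Q (st (e i1)) (st (Sum.inr k))) - Q (st (Sum.inr k))) • st (g i1) with hz
      have hfix : τv (liftVec f z) = liftVec f z := funext fun i => hτ _
      rw [hfix, hz, addE, addE, hlift, hlift, show liftVec f ((-(polar Q (st (e i1)) (st (Sum.inr k))) -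
        Q (st (Sum.inr k))) • st (g i1)) = f (-(polar Q (st (e i1)) (st (Sum.inr k))) - Q (st (Sum.inr k))) • E (g i1)
          from by rw [← hlift]; exact funext fun i => map_mul f _ _,
        Matrix.mulVec_add, Matrix.mulVec_add, Matrix.mulVec_smul, hl, hg1] at h1
      show H *ᵥ E (Sum.inr k) = _
      linear_combination (norm := module) h1
  rw [Matrix.smul_mulVec, Matrix.one_mulVec, pi_eq_sum_univ' v, Matrix.mulVec_sum, Finset.smul_sum]
  refine Finset.sum_congr rfl fun j _ => ?_
  rw [Matrix.mulVec_smul, smul_comm]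
  exact congrArg _ (hall j)

end CfsgLib.LocalBalance.MinusBase
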