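import Cfsg.Agent.Lib.LocalBalance.MinusPairs
import Cfsg.Agent.Lib.LocalBalance.MinusBase
import Cfsg.Agent.Lib.FieldAutPlus.Coset
import Cfsg.Agent.Lib.MinusField.Split

/-!
Failure of local balance for automorphisms of `PΩ⁻` that are not inner-diagonal.
-/

set_option autoImplicit false
set_option linter.style.haveILetI false
set_option linter.unusedSectionVars false
set_option maxHeartbeats 800000

universe u

namespace CfsgLib.LocalBalance.Minus

open Matrix Cfsg QuadraticMap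
open CfsgLib.Classical.Quad (NDPolar)
open CfsgLib.OrthCrit (minusForm)
open CfsgLib.PGOQuot (simG simAut scal isoToSim conjOmega scal_mulVec)
open CfsgLib.PGOQuot.Minus (Idx Aniso ctx)
open CfsgLib.MinusField (properSub innd mem_proper_odd ndMinus baseSim toInv)
open CfsgLib.Descent (mapGL mapGL_coe iterGL map_mulVec_apply invAut fieldAut liftVec)
open CfsgLib.AutPSL (fixedField mem_fixedField)
open scoped commutatorElement

variable {m : ℕ} {F : Type u} [Field F] [Fintype F] {a b : F}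

theorem center_eq_bot (hm : 3 ≤ m) (hab : Aniso a b)
    (hK : IsSimpleGroup (POmega F ⇑(minusForm m F a b))) :
    Subgroup.center (POmega F ⇑(minusForm m F a b)) = ⊥ := by
  haveI := hK
  refine (IsSimpleGroup.eq_bot_or_eq_top_of_normal _ inferInstance).resolve_right fun ht => ?_
  have hperf := MinusBase.omega_perfect (K := F) hm hab
  set Ω := Omega F ⇑(minusForm m F a b)
  have h1 : commutator ↥Ω ≤ Subgroup.center ↥Ω := by
    rw [commutator_def, Subgroup.commutator_le]
    intro s _ t _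
    rw [← QuotientGroup.eq_one_iff]
    show (QuotientGroup.mk' (Subgroup.center ↥Ω)) ⁅s, t⁆ = 1
    rw [map_commutatorElement, commutatorElement_eq_one_iff_mul_comm]
    exact Subgroup.mem_center_iff.mp (ht ▸ Subgroup.mem_top _) _
  rw [hperf, top_le_iff] at h1
  obtain ⟨x, hx⟩ := exists_ne (1 : POmega F ⇑(minusForm m F a b))
  obtain ⟨s, rfl⟩ := QuotientGroup.mk_surjective x
  exact hx ((QuotientGroup.eq_one_iff s).mpr (h1 ▸ Subgroup.mem_top s))

/-- A homomorphism of a perfect group differing from another by central elements equals it. -/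
theorem eq_of_central_twist {G H : Type*} [Group G] [Group H] (hperf : commutator G = ⊤) (ι : G →* H) (s' : G → H)
    (hmul : ∀ s t, s' (s * t) = s' s * s' t) (hz : ∀ s, (ι s)⁻¹ * s' s ∈ Subgroup.center H) (s : G) :
    s' s = ι s := by
  let φ : G →* H := MonoidHom.mk' (fun s => (ι s)⁻¹ * s' s) fun x y => by
    have h1 := Subgroup.mem_center_iff.mp (hz x) (ι y)⁻¹
    show (ι (x * y))⁻¹ * s' (x * y) = (ι x)⁻¹ * s' x * ((ι y)⁻¹ * s' y)
    rw [hmul, map_mul]
    calc (ι x * ι y)⁻¹ * (s' x * s' y) = (ι y)⁻¹ * ((ι x)⁻¹ * s' x) * s' y := by group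
      _ = _ := by rw [h1]; group
  have hle : commutator G ≤ φ.ker := by
    rw [commutator_def, Subgroup.commutator_le]
    intro u _ v _
    rw [MonoidHom.mem_ker, map_commutatorElement, commutatorElement_eq_one_iff_mul_comm]
    exact (Subgroup.mem_center_iff.mp (hz u) _).symm
  rw [hperf] at hle
  exact (inv_mul_eq_one.mp (hle (Subgroup.mem_top s))).symm

/-! ### Field involutions do not occur -/

theorem isSquare_of_fixed (h2 : (2 : F) ≠ 0) {σ : F ≃+* F} (hσ : orderOf σ = 2) {c : F} (hc : σ c = c) :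
    IsSquare c := by
  rcases eq_or_ne c 0 with rfl | hc0
  · exact IsSquare.zero
  letI : Fintype ↥(fixedField σ) := Fintype.ofFinite _
  have hcard : Fintype.card ↥(fixedField σ) ^ 2 = Fintype.card F := by
    rw [← CfsgLib.AutPSL.card_fixedField_pow σ, hσ, Nat.card_eq_fintype_card]
  have hch : ringChar F ≠ 2 := fun h => h2 (by
    haveI : CharP F 2 := ringChar.of_eq h
    exact CharTwo.two_eq_zero)
  obtain ⟨k, hk⟩ : Odd (Fintype.card ↥(fixedField σ)) := by
    have h := FiniteField.odd_card_of_char_ne_two hch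
    rw [← Nat.odd_iff, ← hcard, Nat.odd_pow_iff two_ne_zero] at h
    exact h
  have h1 : (⟨c, (mem_fixedField σ).mpr hc⟩ : ↥(fixedField σ)) ^ (2 * k) = 1 := by
    have := FiniteField.pow_card_sub_one_eq_one (⟨c, (mem_fixedField σ).mpr hc⟩ : ↥(fixedField σ))
      (fun h0 => hc0 (congrArg Subtype.val h0))
    rwa [hk, Nat.add_sub_cancel] at this
  refine (FiniteField.isSquare_iff hch hc0).mpr ?_
  rw [← hcard, hk, show (2 * k + 1) ^ 2 / 2 = 2 * k * (k + 1) by
    rw [show (2 * k + 1) ^ 2 = 2 * (2 * k * (k + 1)) + 1 by ring]; omega, pow_mul,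
    show c ^ (2 * k) = 1 from congrArg Subtype.val h1, one_pow]

theorem det_minus (m : ℕ) (a b : F) :
    ∃ e : F, (e = 1 ∨ e = -1) ∧ (polM (minusForm m F a b)).det = e * (4 * b - a ^ 2) := by
  set J : Matrix (Fin m ⊕ Fin m) (Fin m ⊕ Fin m) F := Matrix.fromBlocks 0 1 1 0 with hJ
  have hM : polM (minusForm m F a b) = Matrix.fromBlocks J 0 0 !![2, a; a, 2 * b] := by
    refine Matrix.ext fun i j => ?_
    simp only [polM, LinearMap.toMatrix₂'_apply, polarBilin_apply_apply]
    rcases i with (i | i) | i <;> rcases j with (j | j) | j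
    all_goals try fin_cases i
    all_goals try fin_cases j
    all_goals simp [hJ, CfsgLib.OrthCrit.polar_minusForm, CfsgLib.OrthCrit.polar_plusForm, Pi.single_apply,
      Matrix.one_apply, Cfsg.quadFormMinus, eq_comm]
  refine ⟨J.det, mul_self_eq_one_iff.mp ?_, ?_⟩
  · rw [← Matrix.det_mul, hJ, Matrix.fromBlocks_multiply]
    simp
  · rw [hM, Matrix.det_fromBlocks_zero₂₁, Matrix.det_fin_two_of]
    ring

theorem no_involution (hodd : Odd (Fintype.card F)) (hm : 3 ≤ m) (hab : Aniso a b) {g : GL (Idx m) F}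
    {σ : F ≃+* F} {x : MulAut (POmega F ⇑(minusForm m F a b))} (h : Induces g σ x) (hx : x ^ 2 = 1)
    (hσ : orderOf σ = 2) : False := by
  have h2 : (2 : F) ≠ 0 := CfsgLib.PGOQuot.Minus.two_ne_zero' hodd
  have hσ2 : σ ^ 2 = 1 := by rw [← hσ]; exact pow_orderOf_eq_one _
  obtain ⟨μ, hμ⟩ := h.1
  have hp := h.pow 2
  rw [hx, hσ2] at hp
  obtain ⟨G, hG⟩ := exists_simAut hp
  obtain ⟨μ2, hμ2⟩ := hp.1
  obtain ⟨l, hl⟩ := CfsgLib.MinusField.ker_simAut hm hab
    ⟨iterGL g σ 2, μ2, fun v => hμ2 v⟩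
    ((((CfsgLib.PGOQuot.induced_iff (Q := minusForm m F a b) ⟨iterGL g σ 2, μ2, fun v => hμ2 v⟩ 1).mp hp.2)).symm)
  have hgg : g * mapGL σ g = scal l := by
    rw [← hl]
    show g * mapGL σ g = g * mapGL σ (g * mapGL σ 1)
    rw [map_one, mul_one]
  set M := polM (minusForm m F a b)
  have hdet : (g : Matrix (Idx m) (Idx m) F).det ^ 2 * M.det = (μ : F) ^ (2 * (m + 1)) * σ M.det := by
    have h1 := congrArg Matrix.det (semi_matrix hμ)
    rw [Matrix.det_mul, Matrix.det_mul, Matrix.det_transpose, Matrix.det_smul, CfsgLib.MinusField.card_idx] at h1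
    rw [show σ M.det = (M.map σ).det from RingHom.map_det σ.toRingHom M, ← h1]
    ring
  have hdl : (g : Matrix (Idx m) (Idx m) F).det * σ (g : Matrix (Idx m) (Idx m) F).det = (l : F) ^ (2 * (m + 1)) := by
    have h1 := congrArg (fun u : GL (Idx m) F => (u : Matrix (Idx m) (Idx m) F).det) hgg
    simp only [Units.val_mul, mapGL_coe, Matrix.det_mul, scal_val, Matrix.det_smul, Matrix.det_one, mul_one,
      CfsgLib.MinusField.card_idx] at h1
    rw [← h1]
    congr 1
    exact RingHom.map_det σ.toRingHom _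
  have hmul : (μ : F) * σ μ = (l : F) * l := by
    obtain ⟨v, hv⟩ := CfsgLib.OrthCrit.exists_Q_ne_zero (ndMinus (m := m) hab)
    have e1 : ∀ w : Idx m → F, minusForm m F a b ((scal l : GL (Idx m) F).1 *ᵥ fun i => σ (σ (w i))) =
        ((μ : F) * σ μ) * σ (σ (minusForm m F a b w)) := fun w => by
      rw [← hgg, Units.val_mul, ← Matrix.mulVec_mulVec, mapGL_coe, ← map_mulVec_apply, hμ, hμ, map_mul, mul_assoc]
    have hσσ : ∀ c : F, σ (σ c) = c := fun c => by
      have h3 := DFunLike.congr_fun hσ2 c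
      rwa [pow_two, RingAut.mul_apply, RingAut.one_apply] at h3
    have h3 := e1 v
    simp only [hσσ, scal_mulVec, QuadraticMap.map_smul, smul_eq_mul] at h3
    exact (mul_right_cancel₀ hv h3).symm
  set e := (g : Matrix (Idx m) (Idx m) F).det / (μ : F) ^ (m + 1) with he
  have hμ0 : (μ : F) ^ (m + 1) ≠ 0 := pow_ne_zero _ μ.ne_zero
  have he2 : σ M.det = e ^ 2 * M.det := by
    rw [he, div_pow, div_mul_eq_mul_div, hdet, ← pow_mul, mul_comm (m + 1) 2, mul_comm ((μ : F) ^ _),
      mul_div_assoc, div_self (pow_ne_zero _ μ.ne_zero), mul_one]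
  have hee : e * σ e = 1 := by
    rw [he, map_div₀, map_pow, div_mul_div_comm, hdl, ← mul_pow, hmul, ← pow_two, ← pow_mul, div_self]
    exact pow_ne_zero _ l.ne_zero
  have hsq : IsSquare M.det := by
    by_cases hw : 1 + e = 0
    · refine isSquare_of_fixed h2 hσ ?_
      rw [he2, show e = -1 by linear_combination hw]
      ring
    · have hσw : σ (1 + e) * e = 1 + e := by rw [map_add, map_one]; linear_combination hee
      have hfix : σ (M.det * (1 + e) ^ 2) = M.det * (1 + e) ^ 2 := by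
        rw [map_mul, map_pow, he2]
        linear_combination M.det * (σ (1 + e) * e + (1 + e)) * hσw
      obtain ⟨r, hr⟩ := isSquare_of_fixed h2 hσ hfix
      exact ⟨r / (1 + e), by field_simp; linear_combination hr⟩
  have hneg : IsSquare (-1 : F) := isSquare_of_fixed h2 hσ (by rw [map_neg, map_one])
  obtain ⟨e', he', hdetM⟩ := det_minus m a b
  have hd : IsSquare (a ^ 2 - 4 * b) := by
    have h3 : IsSquare (e' * M.det) := by
      rcases he' with rfl | rfl
      · rwa [one_mul]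
      · exact hneg.mul hsq
    rw [show e' * M.det = 4 * b - a ^ 2 by rcases he' with rfl | rfl <;> rw [hdetM] <;> ring] at h3
    rw [show a ^ 2 - 4 * b = -1 * (4 * b - a ^ 2) by ring]
    exact hneg.mul h3
  obtain ⟨s, hs⟩ := hd
  exact one_ne_zero (hab ((-a + s) / 2) 1 (by field_simp; linear_combination -hs)).2

/-! ### Transport to coordinates fixed by the field automorphism -/

theorem exists_field_coords (hm : 3 ≤ m) (hab : Aniso a b) {g : GL (Idx m) F} {σ : F ≃+* F}
    {x : MulAut (POmega F ⇑(minusForm m F a b))} (h : Induces g σ x) {p : ℕ} (hodd : Odd p)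
    (hσ : orderOf σ = p) (hx : x ^ p = 1) :
    ∃ (a' b' : F) (_ : Aniso a' b') (ha : σ a' = a') (hb : σ b' = b')
      (ψ : POmega F ⇑(minusForm m F a b) ≃* POmega F ⇑(minusForm m F a' b')),
      MulAut.congr ψ x = fieldAut (toInv m σ ha hb) := by
  letI : Fintype ↥(fixedField σ) := Fintype.ofFinite _
  obtain ⟨a₁, b₁, hab₁⟩ := CfsgLib.RootCount.exists_aniso (F := ↥(fixedField σ))
  have hab' : Aniso (a₁ : F) (b₁ : F) := CfsgLib.FieldAutPlus.aniso_of_odd (hσ ▸ hodd) hab₁
  have ha : σ (a₁ : F) = a₁ := (mem_fixedField σ).mp a₁.2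
  have hb : σ (b₁ : F) = b₁ := (mem_fixedField σ).mp b₁.2
  obtain ⟨e, he⟩ := CfsgLib.RootCount.binary_equiv hab hab'
  let M : Matrix (Idx m) (Idx m) F := Matrix.fromBlocks 1 0 0 (LinearMap.toMatrix' e.toLinearMap)
  have hM : IsUnit M.det := by
    rw [Matrix.det_fromBlocks_zero₂₁, Matrix.det_one, one_mul, LinearMap.det_toMatrix']
    exact LinearEquiv.isUnit_det' e
  set P : GL (Idx m) F := M.nonsingInvUnit hM with hPdef
  have hP : ∀ v, minusForm m F (a₁ : F) (b₁ : F) ((P : Matrix (Idx m) (Idx m) F) *ᵥ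
      fun i => (RingEquiv.refl F) (v i)) = ((1 : Fˣ) : F) * (RingEquiv.refl F) (minusForm m F a b v) := fun v => by
    show minusForm m F (a₁ : F) (b₁ : F) (M *ᵥ v) = ((1 : Fˣ) : F) * minusForm m F a b v
    have hl : M *ᵥ v = Sum.elim (v ∘ Sum.inl) (e (v ∘ Sum.inr)) := by
      simp [M, Matrix.fromBlocks_mulVec, LinearMap.toMatrix'_mulVec]
    have h := he (v ∘ Sum.inr)
    simp only [Function.comp_apply] at h
    simp [Cfsg.quadFormMinus, hl, add_assoc]
    linear_combination h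
  let ψ₀ := CfsgLib.MinusField.pomConj hP
  set σ' := toInv m σ ha hb
  obtain ⟨μ, hμ⟩ := h.1
  set g' : GL (Idx m) F := P * g * (mapGL σ P)⁻¹ with hg'
  have hg'mem : g' ∈ simG (minusForm m F (a₁ : F) (b₁ : F)) := by
    refine ⟨μ, fun u => ?_⟩
    obtain ⟨w, hw⟩ : ∃ w : Idx m → F, (fun i => σ (((P : Matrix (Idx m) (Idx m) F) *ᵥ w) i)) = u :=
      ⟨P⁻¹.1 *ᵥ fun i => σ.symm (u i), funext fun i => by
        rw [Matrix.mulVec_mulVec, Units.mul_inv, Matrix.one_mulVec, RingEquiv.apply_symm_apply]⟩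
    have hP1 : ∀ v, minusForm m F (a₁ : F) (b₁ : F) ((P : Matrix (Idx m) (Idx m) F) *ᵥ v) = minusForm m F a b v :=
      fun v => by simpa using hP v
    have hinv : minusForm m F (a₁ : F) (b₁ : F) u = σ (minusForm m F a b w) := by
      rw [← hw, ← hP1 w]
      exact σ'.2 _
    rw [hinv, ← hw, map_mulVec_apply, hg', Units.val_mul, Units.val_mul, Matrix.mulVec_mulVec,
      ← mapGL_coe σ P, Matrix.mul_assoc _ _ ((mapGL σ P : GL (Idx m) F) : Matrix (Idx m) (Idx m) F),
      Units.inv_mul, Matrix.mul_one, ← Matrix.mulVec_mulVec, hP1, hμ]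
  set x₁ := MulAut.congr ψ₀ x with hx₁
  have hx₁eq : x₁ = simAut ⟨g', hg'mem⟩ * fieldAut σ' := by
    refine (CfsgLib.Descent.induced_iff (Q := minusForm m F (a₁ : F) (b₁ : F)) ⟨g', hg'mem⟩ σ' x₁).mp
      fun s s' hs => ?_
    obtain ⟨t, rfl⟩ := (CfsgLib.Classical.Quad.commutatorEquiv (CfsgLib.MinusField.isoConj hP)).surjective s
    obtain ⟨t', ht', hyt⟩ := induced_apply h.1 h.2 t
    show ψ₀ (x (ψ₀.symm (QuotientGroup.mk _))) = _
    rw [← CfsgLib.MinusField.pomConj_mk hP t, show ψ₀.symm (CfsgLib.MinusField.pomConj hP (QuotientGroup.mk t)) =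
      QuotientGroup.mk t from ψ₀.symm_apply_apply _, hyt]
    show CfsgLib.MinusField.pomConj hP _ = _
    rw [CfsgLib.MinusField.pomConj_mk]
    refine congrArg _ (Subtype.ext (Subtype.ext (Units.ext ?_)))
    rw [hs]
    have er : ∀ u : GL (Idx m) F, mapGL (RingEquiv.refl F) u = u := fun u => Units.ext (Matrix.ext fun _ _ => rfl)
    show ((P * mapGL (RingEquiv.refl F) ((t' : ↥(isometryGroup F ⇑(minusForm m F a b))) : GL (Idx m) F) * P⁻¹ : GL (Idx m) F) :
      Matrix (Idx m) (Idx m) F) = ((g' * mapGL σ (P * mapGL (RingEquiv.refl F)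
        ((t : ↥(isometryGroup F ⇑(minusForm m F a b))) : GL (Idx m) F) * P⁻¹) * g'⁻¹ : GL (Idx m) F) : Matrix (Idx m) (Idx m) F)
    rw [er, er, ht', hg', map_mul, map_mul, map_inv]
    congr 1
    group
  have hp1 : (simAut ⟨g', hg'mem⟩ * fieldAut σ' :
      MulAut (POmega F ⇑(minusForm m F (a₁ : F) (b₁ : F)))) ^ p = 1 := by
    rw [← hx₁eq, hx₁, ← map_pow, hx, map_one]
  obtain ⟨k, -, hk⟩ := CfsgLib.MinusField.conj_proper hm hab' σ' ha hb (r := p) hσ _ hp1
  refine ⟨a₁, b₁, hab', ha, hb, ψ₀.trans (simAut k)⁻¹, ?_⟩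
  rw [← CfsgLib.MinusField.congr_trans, ← hx₁, CfsgLib.MinusField.congr_eq_conj, hx₁eq, hk]
  group
  rfl

theorem mem_zpowers_of_fixed {σ τ : F ≃+* F} (h : ∀ c, σ c = c → τ c = c) : τ ∈ Subgroup.zpowers σ := by
  haveI : Finite (F ≃+* F) := Finite.of_injective _ DFunLike.coe_injective
  let K' := FixedPoints.subfield (↥(Subgroup.zpowers σ)) F
  let τ' : F ≃ₐ[K'] F := AlgEquiv.ofRingEquiv (f := τ) fun b => h b.1 (b.2 ⟨σ, Subgroup.mem_zpowers _⟩)
  obtain ⟨g, hg⟩ := FixedPoints.toAlgAut_surjective (↥(Subgroup.zpowers σ)) F τ'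
  obtain ⟨k, hk⟩ := Subgroup.mem_zpowers_iff.mp g.2
  refine Subgroup.mem_zpowers_iff.mpr ⟨k, ?_⟩
  rw [hk]
  exact RingEquiv.ext fun a => DFunLike.congr_fun hg a

/-! ### The field branch -/

section Base

variable {K : Type*} [Field K] [Fintype K] (f : K →+* F) {a₀ b₀ : K} (ha₀ : f a₀ = a) (hb₀ : f b₀ = b)

include f ha₀ hb₀

theorem baseIso_mem (s : ↥(isometryGroup K ⇑(minusForm m K a₀ b₀))) :
    Matrix.GeneralLinearGroup.map f (s : GL (Idx m) K) ∈ isometryGroup F ⇑(minusForm m F a b) := fun u _ => by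
  have h := CfsgLib.Descent.similar_map f (minusForm m F a b) ⇑(minusForm m K a₀ b₀)
    (fun w => CfsgLib.MinusField.minus_liftVec f ha₀ hb₀ w) (s : GL (Idx m) K) 1
    (fun v => by rw [Units.val_one, one_mul]; exact s.2 v v) u
  rwa [Units.val_one, map_one, one_mul] at h

/-- Isometries over the subfield. -/
noncomputable def baseIso : ↥(isometryGroup K ⇑(minusForm m K a₀ b₀)) →* ↥(isometryGroup F ⇑(minusForm m F a b)) :=
  ((Matrix.GeneralLinearGroup.map f).comp (isometryGroup K ⇑(minusForm m K a₀ b₀)).subtype).codRestrict _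
    (baseIso_mem f ha₀ hb₀)

theorem baseIso_omega {s : ↥(isometryGroup K ⇑(minusForm m K a₀ b₀))} (hs : s ∈ Omega K ⇑(minusForm m K a₀ b₀)) :
    baseIso f ha₀ hb₀ s ∈ Omega F ⇑(minusForm m F a b) := by
  have h : (Omega K ⇑(minusForm m K a₀ b₀)).map (baseIso f ha₀ hb₀) ≤ Omega F ⇑(minusForm m F a b) := by
    rw [Omega, commutator_def, Subgroup.map_commutator]
    exact Subgroup.commutator_mono le_top le_top
  exact h (Subgroup.mem_map_of_mem _ hs)

/-- `Ω⁻` over the subfield inside `Ω⁻`. -/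
noncomputable def baseOm : ↥(Omega K ⇑(minusForm m K a₀ b₀)) →* ↥(Omega F ⇑(minusForm m F a b)) :=
  ((baseIso f ha₀ hb₀).comp (Omega K ⇑(minusForm m K a₀ b₀)).subtype).codRestrict _
    fun s => baseIso_omega f ha₀ hb₀ s.2

theorem baseOm_coe (s : ↥(Omega K ⇑(minusForm m K a₀ b₀))) :
    (((baseOm f ha₀ hb₀ s).1 : ↥(isometryGroup F ⇑(minusForm m F a b))) : GL (Idx m) F) =
      Matrix.GeneralLinearGroup.map f (s.1 : GL (Idx m) K) := rfl

theorem baseOm_injective : Function.Injective (baseOm (m := m) f ha₀ hb₀) := fun s t h =>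
  Subtype.ext (Subtype.ext (Units.ext (Matrix.ext fun i j => f.injective (congrFun (congrFun (congrArg
    (fun w : ↥(Omega F ⇑(minusForm m F a b)) => ((w.1 : GL (Idx m) F) : Matrix (Idx m) (Idx m) F)) h) i) j))))

/-- `Ω⁻` over the subfield inside `PΩ⁻`. -/
noncomputable def basePom : ↥(Omega K ⇑(minusForm m K a₀ b₀)) →* POmega F ⇑(minusForm m F a b) :=
  (QuotientGroup.mk' _).comp (baseOm f ha₀ hb₀)

theorem basePom_ker (hm : 3 ≤ m) (hab : Aniso a b) :
    (basePom (m := m) f ha₀ hb₀).ker = Subgroup.center _ := by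
  have hab₀ := CfsgLib.MinusField.aniso_base f hab ha₀ hb₀
  ext s
  rw [MonoidHom.mem_ker, basePom, MonoidHom.comp_apply, QuotientGroup.mk'_apply, QuotientGroup.eq_one_iff,
    Subgroup.mem_center_iff, Subgroup.mem_center_iff]
  refine ⟨fun h t => baseOm_injective f ha₀ hb₀ (by rw [map_mul, map_mul, h]), fun h t => ?_⟩
  obtain ⟨-, l, hl⟩ := MinusBase.semi_base_scalar f hm hab₀ 1 (Matrix.GeneralLinearGroup.map f (s.1 : GL (Idx m) K))
    fun t => by
      have h1 := congrArg (fun w : ↥(Omega F ⇑(minusForm m F a b)) => ((w.1 : GL (Idx m) F) : Matrix (Idx m) (Idx m) F))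
        (congrArg (baseOm f ha₀ hb₀) (h t))
      rw [map_mul, map_mul] at h1
      exact h1.symm
  refine Subtype.ext (Subtype.ext (Units.ext ?_))
  show ((t.1 : GL (Idx m) F) : Matrix (Idx m) (Idx m) F) * ((baseOm f ha₀ hb₀ s).1.1 : Matrix (Idx m) (Idx m) F) =
    ((baseOm f ha₀ hb₀ s).1.1 : Matrix (Idx m) (Idx m) F) * ((t.1 : GL (Idx m) F) : Matrix (Idx m) (Idx m) F)
  rw [baseOm_coe, hl, Matrix.mul_smul, Matrix.smul_mul, Matrix.mul_one, Matrix.one_mul]

theorem basePom_ne_one (hm : 3 ≤ m) (hab : Aniso a b) :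
    ∃ s, basePom (m := m) f ha₀ hb₀ s ≠ 1 := by
  by_contra! h
  have hab₀ := CfsgLib.MinusField.aniso_base f hab ha₀ hb₀
  have hperf := MinusBase.omega_perfect (K := K) hm hab₀
  have htop : Subgroup.center ↥(Omega K ⇑(minusForm m K a₀ b₀)) = ⊤ := by
    rw [← basePom_ker f ha₀ hb₀ hm hab]
    exact eq_top_iff.mpr fun s _ => MonoidHom.mem_ker.mpr (h s)
  have hall : ∀ s : ↥(Omega K ⇑(minusForm m K a₀ b₀)), s = 1 := fun s => by
    have hbot : commutator ↥(Omega K ⇑(minusForm m K a₀ b₀)) = ⊥ := by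
      rw [commutator_def, Subgroup.commutator_eq_bot_iff_le_centralizer, Subgroup.coe_top, Subgroup.centralizer_univ,
        htop]
    rw [hperf] at hbot
    exact (Subgroup.eq_bot_iff_forall _).mp hbot s (Subgroup.mem_top s)
  obtain ⟨-, l, hl⟩ := MinusBase.semi_base_scalar f hm hab₀ 1
    ⟨Matrix.transvection (Sum.inr 0) (Sum.inr 1) (1 : F), Matrix.transvection (Sum.inr 0) (Sum.inr 1) (-1 : F),
      by rw [Matrix.transvection_mul_transvection_same _ _ (by simp), add_neg_cancel, Matrix.transvection_zero],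
      by rw [Matrix.transvection_mul_transvection_same _ _ (by simp), neg_add_cancel, Matrix.transvection_zero]⟩
    fun s => by
      rw [hall s]
      simp
  have := congrFun (congrFun hl (Sum.inr 0)) (Sum.inr 1)
  simp [Matrix.transvection] at this

theorem fix_basePom (σ : ↥(invAut (minusForm m F a b))) (hf : ∀ c, (σ : F ≃+* F) (f c) = f c)
    (s : ↥(Omega K ⇑(minusForm m K a₀ b₀))) :
    fieldAut σ (basePom f ha₀ hb₀ s) = basePom f ha₀ hb₀ s := by
  rw [basePom, MonoidHom.comp_apply, QuotientGroup.mk'_apply, CfsgLib.Descent.fieldAut_mk]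
  exact congrArg _ (Subtype.ext (Subtype.ext (Units.ext (Matrix.ext fun i j => hf _))))

theorem simple_range (hm : 3 ≤ m) (hab : Aniso a b) :
    IsSimpleGroup ↥(basePom (m := m) f ha₀ hb₀).range := by
  have hab₀ := CfsgLib.MinusField.aniso_base f hab ha₀ hb₀
  haveI hs : IsSimpleGroup (POmega K ⇑(minusForm m K a₀ b₀)) :=
    CfsgLib.Classical.Quad.isSimpleGroup_pomega (CfsgLib.Classical.Quad.minusEquiv m K)
      (CfsgLib.Classical.Quad.minusEquiv_spec m a₀ b₀)
      (CfsgLib.Classical.Quad.ndPolar_hypForm (CfsgLib.Classical.Quad.ndPolar_binForm hab₀) m)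
      (CfsgLib.AutPOmega.frame (CfsgLib.Classical.Quad.binForm a₀ b₀) hm)
  exact ((QuotientGroup.quotientKerEquivRange (basePom (m := m) f ha₀ hb₀)).symm.trans
    (QuotientGroup.quotientMulEquivOfEq (basePom_ker f ha₀ hb₀ hm hab))).isSimpleGroup

/-- **Local balance for a field automorphism in fixed coordinates.** -/
theorem field_core_iff (hm : 3 ≤ m) (hab : Aniso a b) (hK : IsSimpleGroup (POmega F ⇑(minusForm m F a b)))
    (σ : ↥(invAut (minusForm m F a b))) (hf : ∀ x, (σ : F ≃+* F) x = x ↔ ∃ c, f c = x)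
    {p : ℕ} [Fact p.Prime] (hp : Odd p) (hσ : orderOf (σ : F ≃+* F) = p)
    {A : Subgroup (MulAut (POmega F ⇑(minusForm m F a b)))} (hinn : ∀ k, MulAut.conj k ∈ A) :
    Cfsg.pPrimeCore p ↥(A ⊓ Subgroup.centralizer {fieldAut σ}) ≠ ⊥ ↔
      Nat.Coprime p (Nat.card ↥(fixPts (fieldAut σ : MulAut (POmega F ⇑(minusForm m F a b))))) := by
  haveI : Finite (POmega F ⇑(minusForm m F a b)) := Quotient.finite _
  have hZ := center_eq_bot hm hab hK
  have hab₀ := CfsgLib.MinusField.aniso_base f hab ha₀ hb₀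
  have hfix : ∀ c, (σ : F ≃+* F) (f c) = f c := fun c => (hf _).mpr ⟨c, rfl⟩
  refine ⟨fun hne => ?_, fun hcop => pPrimeCore_ne_bot hZ hinn ?_ hcop⟩
  swap
  · intro hbot
    obtain ⟨s, hs⟩ := basePom_ne_one (m := m) f ha₀ hb₀ hm hab
    have h1 : basePom f ha₀ hb₀ s ∈ fixPts (fieldAut σ : MulAut (POmega F ⇑(minusForm m F a b))) :=
      fix_basePom f ha₀ hb₀ σ hfix s
    rw [hbot, Subgroup.mem_bot] at h1
    exact hs h1
  by_contra hc
  rw [(Fact.out : p.Prime).coprime_iff_not_dvd, not_not] at hc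
  refine hne (Witness.pPrimeCore_eq_bot (L := (basePom (m := m) f ha₀ hb₀).range) ?_ hZ hinn
    (by rw [CfsgLib.MinusField.orderOf_fieldAut hm hab, hσ]))
  have hbase : ∀ k ∈ fixPts (fieldAut σ : MulAut (POmega F ⇑(minusForm m F a b))),
      ∃ A' : ↥(simG (minusForm m K a₀ b₀)), A' ∈ properSub m a₀ b₀ ∧
        MulAut.conj k = simAut (baseSim f ha₀ hb₀ A') := by
    intro k hk
    obtain ⟨w, rfl⟩ := QuotientGroup.mk_surjective k
    have h := mul_conj (fieldAut σ) (QuotientGroup.mk w : POmega F ⇑(minusForm m F a b))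
    rw [mem_fixPts.mp hk, mul_inv_eq_iff_eq_mul, ← CfsgLib.PGOQuot.simAut_omega] at h
    obtain ⟨A', hA', he⟩ := CfsgLib.MinusField.exists_base f ha₀ hb₀ hm hab σ hf (g := isoToSim w.1)
      (by
        rw [CfsgLib.MinusField.mem_properSub, CfsgLib.PGOQuot.simAut_omega]
        exact CfsgLib.MinusField.inn_le_inndiag hm hab ⟨_, rfl⟩) h.symm
    exact ⟨A', hA', by rw [he, CfsgLib.PGOQuot.simAut_omega]⟩
  refine ⟨?_, ?_, fun M hM hcop => ?_, fun y hy hfy => ?_⟩
  · rintro _ ⟨s, rfl⟩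
    exact fix_basePom f ha₀ hb₀ σ hfix s
  · rintro k hk _ ⟨s, rfl⟩
    obtain ⟨A', -, hA⟩ := hbase k hk
    refine ⟨conjOmega A' s, ?_⟩
    rw [← MulAut.conj_apply, hA, basePom, MonoidHom.comp_apply, MonoidHom.comp_apply, QuotientGroup.mk'_apply,
      QuotientGroup.mk'_apply, CfsgLib.PGOQuot.simAut_mk]
    refine congrArg _ (Subtype.ext (Subtype.ext ?_))
    show Matrix.GeneralLinearGroup.map f (_ * _ * _⁻¹) = _
    rw [map_mul, map_mul, map_inv]
    rfl
  · haveI := simple_range (m := m) f ha₀ hb₀ hm hab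
    refine (IsSimpleGroup.eq_bot_or_eq_top_of_normal M hM).resolve_right fun h => ?_
    rw [h, Subgroup.card_top] at hcop
    refine (Fact.out : p.Prime).ne_one (Nat.eq_one_of_dvd_coprimes hcop ?_ dvd_rfl)
    obtain ⟨k, hk⟩ := exists_prime_orderOf_dvd_card' p hc
    obtain ⟨A', hA', hA⟩ := hbase k.1 k.2
    have hinner : ∃ s₀ : ↥(Omega K ⇑(minusForm m K a₀ b₀)), simAut (A' ^ 4) = simAut (isoToSim s₀.1) := by
      rcases CfsgLib.MinusField.odd_or_two K with hodd | h2
      · set C := ctx (F := K) hodd hm hab₀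
        obtain ⟨c, o, ho⟩ := C.exists_decomp (g := A' ^ 2) (by rw [pow_two, map_mul]; exact Int.units_mul_self _)
        have hdet : CfsgLib.OrthSpinor.detHom o = 1 := by
          have h1 := congrArg C.eps ho
          rw [map_pow, (mem_proper_odd hodd hm hab₀ A').mp hA', one_pow, map_mul, C.eps_scalSim, one_mul,
            C.eps_isoToSim] at h1
          exact h1.symm
        have hmem : o * o ∈ Omega K ⇑(minusForm m K a₀ b₀) := by
          rw [CfsgLib.OrthSpinor.mem_Omega_iff C.h2 C.nondeg C.two_le_card one_ne_zero, map_mul, map_mul, hdet,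
            one_mul]
          exact ⟨rfl, Int.units_mul_self _⟩
        refine ⟨⟨_, hmem⟩, ?_⟩
        rw [show A' ^ 4 = (A' ^ 2) ^ 2 by rw [← pow_mul], ho, pow_two, map_mul, map_mul,
          show simAut (CfsgLib.PGOQuot.Ctx.scalSim c : ↥(simG (minusForm m K a₀ b₀))) = 1 from
            CfsgLib.Descent.simAut_scal c, one_mul, map_mul isoToSim, map_mul simAut]
      · have h1 : simAut (A' ^ 4) ∈ Cfsg.Inn (POmega K ⇑(minusForm m K a₀ b₀)) := by
          rw [map_pow, ← CfsgLib.MinusField.inndiag_eq_inn_two hm hab₀]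
          exact pow_mem (show simAut A' ∈ innd m a₀ b₀ from hA') 4
        obtain ⟨u, hu⟩ := h1
        obtain ⟨s₀, rfl⟩ := QuotientGroup.mk_surjective u
        exact ⟨s₀, hu.symm.trans (CfsgLib.PGOQuot.simAut_omega s₀).symm⟩
    obtain ⟨s₀, hs₀⟩ := hinner
    have hk4 : (k : POmega F ⇑(minusForm m F a b)) ^ 4 = basePom f ha₀ hb₀ s₀ := by
      apply conj_injective hZ
      rw [map_pow, hA, ← map_pow, ← map_pow, basePom, MonoidHom.comp_apply, QuotientGroup.mk'_apply,
        ← CfsgLib.PGOQuot.simAut_omega]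
      have h1 : simAut (baseSim f ha₀ hb₀ ((isoToSim s₀.1)⁻¹ * A' ^ 4)) = 1 :=
        (CfsgLib.MinusField.simAut_baseSim_eq_one f ha₀ hb₀ hm hab _).mpr (by
          rw [map_mul, map_inv, hs₀, inv_mul_cancel])
      rw [map_mul, map_inv, map_mul, map_inv, inv_mul_eq_one] at h1
      exact h1.symm
    have hpow : ((k : POmega F ⇑(minusForm m F a b)) ^ 4) ∈ (basePom (m := m) f ha₀ hb₀).range := hk4 ▸ ⟨s₀, rfl⟩
    have hord : orderOf ((k : POmega F ⇑(minusForm m F a b)) ^ 4) = p := by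
      rw [Nat.Coprime.orderOf_pow, Subgroup.orderOf_coe, hk]
      rw [Subgroup.orderOf_coe, hk, show (4 : ℕ) = 2 ^ 2 by norm_num]
      exact Nat.Coprime.pow_right 2 (Nat.coprime_two_right.mpr hp)
    have h4 := orderOf_dvd_natCard (⟨_, hpow⟩ : ↥(basePom (m := m) f ha₀ hb₀).range)
    rwa [Subgroup.orderOf_mk, hord] at h4
  · obtain ⟨h, τ, hh⟩ := exists_pair hm hab y
    choose s' hs' hys using fun s => induced_apply hh.1 hh.2 (baseOm f ha₀ hb₀ s)
    have hz : ∀ s, (baseOm f ha₀ hb₀ s)⁻¹ * s' s ∈ Subgroup.center ↥(Omega F ⇑(minusForm m F a b)) := fun s => by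
      apply QuotientGroup.eq.mp
      rw [← hys s]
      exact (hfy _ ⟨s, rfl⟩).symm
    have hmul : ∀ s t, s' (s * t) = s' s * s' t := fun s t => by
      refine Subtype.ext (Subtype.ext ?_)
      have e : ∀ u v : ↥(Omega F ⇑(minusForm m F a b)),
          ((u * v).1 : GL (Idx m) F) = (u.1 : GL (Idx m) F) * (v.1 : GL (Idx m) F) := fun _ _ => rfl
      rw [hs', map_mul (baseOm f ha₀ hb₀), e, e, hs', hs', map_mul (mapGL τ)]
      simp only [mul_assoc, inv_mul_cancel_left]
    have hfix' : ∀ s, s' s = baseOm f ha₀ hb₀ s :=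
      eq_of_central_twist (MinusBase.omega_perfect hm hab₀) (baseOm f ha₀ hb₀) s' hmul hz
    obtain ⟨hτ, l, hl⟩ := MinusBase.semi_base_scalar f hm hab₀ τ h fun s => by
      have h1 : s' s = baseOm f ha₀ hb₀ s := hfix' s
      have h2 := congrArg (fun w : ↥(Omega F ⇑(minusForm m F a b)) => ((w.1 : GL (Idx m) F))) h1
      simp only [hs', mul_inv_eq_iff_eq_mul] at h2
      have h3 := congrArg Units.val h2
      rw [Units.val_mul, Units.val_mul, mapGL_coe, baseOm_coe] at h3
      exact h3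
    have hτa : τ a = a := by rw [← ha₀, hτ]
    have hτb : τ b = b := by rw [← hb₀, hτ]
    let τ' : ↥(invAut (minusForm m F a b)) := toInv m τ hτa hτb
    have hy' : y = fieldAut τ' := by
      refine (CfsgLib.Descent.fieldAutOf_iff (Q := minusForm m F a b) τ' y).mp fun s s₁ hs₁ => ?_
      obtain ⟨s₂, hs₂, hys₂⟩ := induced_apply hh.1 hh.2 s
      rw [hys₂]
      refine congrArg _ (Subtype.ext (Subtype.ext (Units.ext ?_)))
      have hl0 : ∀ X : Matrix (Idx m) (Idx m) F, (h : Matrix (Idx m) (Idx m) F) * X * h⁻¹.1 = X := fun X => by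
        rw [show (h : Matrix (Idx m) (Idx m) F) * X = X * (h : Matrix (Idx m) (Idx m) F) by
          rw [hl, Matrix.smul_mul, Matrix.one_mul, Matrix.mul_smul, Matrix.mul_one], Matrix.mul_assoc,
          Units.mul_inv, Matrix.mul_one]
      rw [hs₂, Units.val_mul, Units.val_mul, mapGL_coe, hl0, hs₁]
      rfl
    obtain ⟨i, hi⟩ := Subgroup.mem_zpowers_iff.mp (mem_zpowers_of_fixed (σ := (σ : F ≃+* F)) (τ := τ) fun c hc => by
      obtain ⟨d, rfl⟩ := (hf c).mp hc
      exact hτ d)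
    exact Subgroup.mem_zpowers_iff.mpr ⟨i, by
      rw [hy', ← map_zpow, show σ ^ i = τ' from Subtype.ext ((SubgroupClass.coe_zpow σ i).trans hi)]⟩

end Base

/-- S2733. -/
theorem pomega_minus_local_balance (hm : 3 ≤ m) (hab : Aniso a b)
    (hK : IsSimpleGroup (POmega F ⇑(minusForm m F a b))) {r : ℕ} [Fact r.Prime] [CharP F r]
    {A : Subgroup (MulAut (POmega F ⇑(minusForm m F a b)))} (hinn : ∀ k, MulAut.conj k ∈ A) {p : ℕ} [Fact p.Prime]
    (hpr : p ≠ r) {x : MulAut (POmega F ⇑(minusForm m F a b))} (hord : orderOf x = p)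
    (hnot : ¬ Cfsg.IsInnerDiagonalAutPOmegaMinus m a b x) :
    Cfsg.pPrimeCore p ↥(A ⊓ Subgroup.centralizer {x}) ≠ ⊥ ↔
      (Cfsg.IsFieldAutClassPOmegaMinus m (a := a) (b := b) x ∧ Nat.Coprime p (Nat.card ↥(fixPts x))) := by
  haveI : Finite (POmega F ⇑(minusForm m F a b)) := Quotient.finite _
  have hxp : x ^ p = 1 := by rw [← hord]; exact pow_orderOf_eq_one x
  obtain ⟨g, σ, hind⟩ := exists_pair hm hab x
  have hσp : σ ^ p = 1 := by
    have h := hind.pow p
    rw [hxp] at h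
    exact kernel hm hab h
  by_cases hσ1 : σ = 1
  · -- an improper similarity
    rw [hσ1] at hind
    obtain ⟨G, rfl⟩ := exists_simAut hind
    have hG : G ∉ properSub m a b := fun h => hnot (isInnerDiag_of_mem hm hab G h)
    have hp2 : p = 2 := (Fact.out : p.Prime).eq_two_or_odd'.resolve_right fun hodd =>
      hG (mem_innd_of_odd hm hab hodd G hxp)
    subst hp2
    have hodd : Odd (Fintype.card F) := by
      rcases CfsgLib.MinusField.odd_or_two F with h | h
      · exact h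
      · exact absurd (CharP.eq F h ‹CharP F r›) hpr
    set C := ctx (F := F) hodd hm hab
    have heps : C.eps G = -1 := by
      obtain ⟨S, -⟩ := CfsgLib.PGOQuot.Minus.exists_sim hodd hm hab
      exact (S.eps_sq G).resolve_left fun h => hG ((mem_proper_odd hodd hm hab G).mpr h)
    have hnf : ¬ Cfsg.IsFieldAutClassPOmegaMinus m (a := a) (b := b) (simAut G) := fun hcl => by
      obtain ⟨a', b', hab', τ, -, ha', hb', hτ, -, -⟩ := CfsgLib.MinusField.exists_coords hm hab hcl hord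
      exact absurd (CfsgLib.MinusField.odd_of_prime hab' ha' hb' Nat.prime_two hτ) (by decide)
    refine iff_of_false (fun hne => hne ?_) fun h => hnf h.1
    refine graph_core_eq_bot C (fun β => ?_) (center_eq_bot hm hab hK) hinn G heps hord
    obtain ⟨h, τ, h1, h2⟩ := exists_pair hm hab β
    exact ⟨h, τ, h1, h2⟩
  -- a field automorphism
  have hσ : orderOf σ = p := orderOf_eq_prime hσp hσ1
  have hodd : Odd p := (Fact.out : p.Prime).eq_two_or_odd'.resolve_left fun h2 => by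
    subst h2
    have hF : Odd (Fintype.card F) := by
      rcases CfsgLib.MinusField.odd_or_two F with h | h
      · exact h
      · exact absurd (CharP.eq F h ‹CharP F r›) hpr
    exact no_involution hF hm hab hind hxp hσ
  obtain ⟨a', b', hab', ha, hb, ψ, hψ⟩ := exists_field_coords hm hab hind hodd hσ hxp
  have hcl : Cfsg.IsFieldAutClassPOmegaMinus m (a := a) (b := b) x :=
    ⟨a', b', ψ, σ, hab', hσ1, ha, hb, (CfsgLib.Descent.fieldAutOf_iff (toInv m σ ha hb) _).2 hψ⟩
  haveI : Finite (POmega F ⇑(minusForm m F a' b')) := Quotient.finite _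
  let e := MulAut.congr ψ
  have hK' : IsSimpleGroup (POmega F ⇑(minusForm m F a' b')) := ψ.symm.isSimpleGroup
  have hinn' : ∀ k, MulAut.conj k ∈ A.map e.toMonoidHom := fun k =>
    ⟨MulAut.conj (ψ.symm k), hinn _, MulEquiv.ext fun z => by simp [e, MulAut.congr]⟩
  letI : Fintype ↥(fixedField σ) := Fintype.ofFinite _
  have hmain := field_core_iff (m := m) (fixedField σ).subtype (a₀ := ⟨a', (mem_fixedField σ).mpr ha⟩)
    (b₀ := ⟨b', (mem_fixedField σ).mpr hb⟩) rfl rfl hm hab' hK' (toInv m σ ha hb)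
    (fun z => ⟨fun hz => ⟨⟨z, (mem_fixedField σ).mpr hz⟩, rfl⟩, fun ⟨c, hc⟩ => hc ▸ (mem_fixedField σ).mp c.2⟩)
    hodd hσ hinn'
  have hcent : (A ⊓ Subgroup.centralizer {x}).map e.toMonoidHom =
      A.map e.toMonoidHom ⊓ Subgroup.centralizer {fieldAut (toInv m σ ha hb)} := by
    rw [Subgroup.map_inf _ _ _ e.injective, CfsgLib.MinusField.map_centralizer_singleton, ← hψ]
  have hcore : Cfsg.pPrimeCore p ↥(A ⊓ Subgroup.centralizer {x}) = ⊥ ↔
      Cfsg.pPrimeCore p ↥(A.map e.toMonoidHom ⊓ Subgroup.centralizer {fieldAut (toInv m σ ha hb)}) = ⊥ := by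
    have E := ((A ⊓ Subgroup.centralizer {x}).equivMapOfInjective e.toMonoidHom e.injective).trans
      (MulEquiv.subgroupCongr hcent)
    rw [← CfsgLib.Solvable.map_pPrimeCore_mulEquiv (p := p) E, Subgroup.map_eq_bot_iff_of_injective _ E.injective]
  have hcard : Nat.card ↥(fixPts x) =
      Nat.card ↥(fixPts (fieldAut (toInv m σ ha hb) : MulAut (POmega F ⇑(minusForm m F a' b')))) := by
    refine Nat.card_congr (ψ.toEquiv.subtypeEquiv fun k => ?_)
    show x k = k ↔ fieldAut (toInv m σ ha hb) (ψ k) = ψ k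
    rw [← hψ, show MulAut.congr ψ x (ψ k) = ψ (x k) by simp [MulAut.congr]]
    exact ψ.apply_eq_iff_eq.symm
  rw [hcard, ne_eq, hcore]
  exact ⟨fun h => ⟨hcl, hmain.mp h⟩, fun h => hmain.mpr h.2⟩

end CfsgLib.LocalBalance.Minus
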