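import Cfsg.Agent.Lib.LocalBalance.GraphWitness
import Cfsg.Agent.Lib.MinusField.Centralizer

/-!
Automorphisms of `PΩ⁻` of prime order as semisimilarities.
-/

set_option autoImplicit false
set_option linter.style.haveILetI false
set_option linter.unusedSectionVars false
set_option maxHeartbeats 800000

universe u

namespace CfsgLib.LocalBalance.Minus

open Matrix Cfsg QuadraticMap
open CfsgLib.Classical.Quad (NDPolar)
open CfsgLib.OrthCrit (minusForm)
open CfsgLib.PGOQuot (simG simAut scal isoToSim scal_mulVec)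
open CfsgLib.PGOQuot.Minus (Idx Aniso ctx)
open CfsgLib.MinusField (properSub innd mem_proper_odd ndMinus)
open CfsgLib.Descent (mapGL mapGL_coe iterGL map_mulVec_apply)
open CfsgLib.AutPOmega CfsgLib.Classical.Quad

variable {m : ℕ} {F : Type u} [Field F] [Fintype F] {a b : F}

/-- The pair `(g, τ)` induces `β`. -/
def Induces (g : GL (Idx m) F) (τ : F ≃+* F) (β : MulAut (POmega F ⇑(minusForm m F a b))) : Prop :=
  IsSemisimilarityPair (⇑(minusForm m F a b)) g τ ∧ IsInducedBySemilinearPOmega (⇑(minusForm m F a b)) g τ β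

/-- Every automorphism is induced by a semisimilarity. -/
theorem exists_pair (hm : 3 ≤ m) (hab : Aniso a b) (β : MulAut (POmega F ⇑(minusForm m F a b))) :
    ∃ (g : GL (Idx m) F) (τ : F ≃+* F), Induces g τ β := by
  obtain ⟨p, hp⟩ := CharP.exists F
  haveI : Fact p.Prime := ⟨CharP.char_is_prime F p⟩
  let e := CfsgLib.Classical.Quad.minusEquiv m F
  let R := binForm a b
  have he : ∀ v, hypForm m R (e v) = minusForm m F a b v := fun v => minusEquiv_spec m a b v
  have hR : NDPolar R := ndPolar_binForm hab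
  have hcl : ClawHyp R m := clawHyp_of_kernel _ hm ![1, 0] (by simp [R, binForm_apply])
  have hnd := ndPolar_hypForm hR m
  let E := pomegaEquiv (Qf := ⇑(minusForm m F a b)) e he hnd (CfsgLib.AutPOmega.frame R hm)
  obtain ⟨T, hT⟩ := exists_semiSim hR hm (fun w hw => binForm_eq_zero hab hw) hcl p (E.symm.trans (β.trans E))
  obtain ⟨g, σ, h1, h2⟩ := CfsgLib.AutPOmega.exists_pair e he hnd (CfsgLib.AutPOmega.frame R hm) β T fun x => by
    have := congrArg (fun γ : MulAut (POm (hypForm m R)) => γ (E x)) hT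
    simpa [E] using this
  exact ⟨g, σ, h1, h2⟩

/-- The semisimilarity of a pair, read in the model. -/
noncomputable def modelPair {g : GL (Idx m) F} {τ : F ≃+* F} {μ : Fˣ}
    (hμ : ∀ v : Idx m → F, minusForm m F a b ((g : Matrix (Idx m) (Idx m) F) *ᵥ fun i => τ (v i)) =
      (μ : F) * τ (minusForm m F a b v)) : SemiSim (hypForm m (binForm a b)) where
  σ := τ
  s := μ
  s_ne := μ.ne_zero
  Φ :=
    { toFun := fun x => minusEquiv m F ((g : Matrix (Idx m) (Idx m) F) *ᵥ fun i => τ ((minusEquiv m F).symm x i))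
      invFun := fun x => minusEquiv m F fun i =>
        τ.symm (((g⁻¹).1 *ᵥ (minusEquiv m F).symm x) i)
      left_inv := fun x => by
        simp [Matrix.mulVec_mulVec]
      right_inv := fun x => by
        simp [Matrix.mulVec_mulVec]
      map_add' := fun x y => by
        rw [← map_add (minusEquiv m F), ← Matrix.mulVec_add]
        congr 2
        funext i
        simp }
  map_smul := fun c x => by
    show minusEquiv m F ((g : Matrix (Idx m) (Idx m) F) *ᵥ fun i => τ ((minusEquiv m F).symm (c • x) i)) =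
      τ c • minusEquiv m F ((g : Matrix (Idx m) (Idx m) F) *ᵥ fun i => τ ((minusEquiv m F).symm x i))
    rw [← _root_.map_smul (minusEquiv m F), ← Matrix.mulVec_smul]
    congr 2
    funext i
    simp
  quad := fun x => by
    have he : ∀ v, hypForm m (binForm a b) (minusEquiv m F v) = minusForm m F a b v := fun v => minusEquiv_spec m a b v
    show hypForm m (binForm a b) (minusEquiv m F _) = _
    rw [he, hμ, ← he, LinearEquiv.apply_symm_apply]

/-- A semisimilarity acting trivially is linear. -/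
theorem kernel (hm : 3 ≤ m) (hab : Aniso a b) {g : GL (Idx m) F} {τ : F ≃+* F}
    (h : Induces (a := a) (b := b) g τ 1) : τ = 1 := by
  obtain ⟨p, hp⟩ := CharP.exists F
  haveI : Fact p.Prime := ⟨CharP.char_is_prime F p⟩
  let e := CfsgLib.Classical.Quad.minusEquiv m F
  have he : ∀ v, hypForm m (binForm a b) (e v) = minusForm m F a b v := fun v => minusEquiv_spec m a b v
  have hR : NDPolar (binForm a b) := ndPolar_binForm hab
  have hnd := ndPolar_hypForm hR m
  obtain ⟨μ, hμ⟩ := h.1
  set T := modelPair hμ with hT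
  let P := CfsgLib.AutPOmega.frame (binForm a b) hm
  have hΦ : ∀ v, T.Φ (e v) = e ((g : Matrix (Idx m) (Idx m) F) *ᵥ fun i => τ (v i)) := fun v => by
    show minusEquiv m F ((g : Matrix (Idx m) (Idx m) F) *ᵥ fun i => τ ((minusEquiv m F).symm (e v) i)) = _
    rw [LinearEquiv.symm_apply_apply]
  have hker : T ∈ (SemiSim.conjHom hnd P).ker := by
    rw [MonoidHom.mem_ker]
    refine MulEquiv.ext fun x => ?_
    obtain ⟨y, rfl⟩ := (pomegaEquiv (Qf := ⇑(minusForm m F a b)) e he hnd P).surjective x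
    induction y using QuotientGroup.induction_on with
    | _ s =>
    obtain ⟨s', hs', hys⟩ := induced_apply h.1 h.2 s
    rw [MulAut.one_apply] at hys
    rw [MulAut.one_apply]
    conv_rhs => rw [hys]
    rw [pomegaEquiv_mk, pomegaEquiv_mk, SemiSim.conjHom_apply, SemiSim.conjPS_mk]
    congr 1
    refine Subtype.ext (orth_ext fun x => ?_)
    obtain ⟨y, rfl⟩ := T.Φ.surjective x
    obtain ⟨v, rfl⟩ := e.surjective y
    show T.Φ ((isometryEquivModel e he s.1).1 (T.Φ.symm (T.Φ (e v)))) =
      (isometryEquivModel e he s'.1).1 (T.Φ (e v))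
    rw [T.Φ.symm_apply_apply, CfsgLib.AutPOmega.isometryEquivModel_apply, hΦ, hΦ,
      CfsgLib.AutPOmega.isometryEquivModel_apply, hs', Units.val_mul, Units.val_mul, Matrix.mulVec_mulVec,
      Matrix.mul_assoc _ _ (g : Matrix (Idx m) (Idx m) F), Units.inv_mul, Matrix.mul_one, ← Matrix.mulVec_mulVec,
      mapGL_coe, ← map_mulVec_apply]
  rw [conjHom_ker hR hm p] at hker
  obtain ⟨c, hc⟩ := hker
  exact (congrArg SemiSim.σ hc).symm

/-- Composition. -/
theorem Induces.mul {g h : GL (Idx m) F} {σ τ : F ≃+* F} {β γ : MulAut (POmega F ⇑(minusForm m F a b))}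
    (h₁ : Induces g σ β) (h₂ : Induces h τ γ) : Induces (g * mapGL σ h) (σ * τ) (β * γ) := by
  obtain ⟨⟨c, hc⟩, hi⟩ := h₁
  obtain ⟨⟨d, hd⟩, hj⟩ := h₂
  refine ⟨⟨c * Units.map σ.toRingHom.toMonoidHom d, fun v => ?_⟩, fun s s' hs => ?_⟩
  · rw [Units.val_mul, ← Matrix.mulVec_mulVec, mapGL_coe]
    show minusForm m F a b ((g : Matrix (Idx m) (Idx m) F) *ᵥ ((h : Matrix (Idx m) (Idx m) F).map σ *ᵥ fun i => σ (τ (v i)))) = _
    rw [← map_mulVec_apply, hc, hd, map_mul, Units.val_mul, mul_assoc]
    rfl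
  · obtain ⟨s₁, hs₁, hys₁⟩ := induced_apply ⟨d, hd⟩ hj s
    obtain ⟨s₂, hs₂, hys₂⟩ := induced_apply ⟨c, hc⟩ hi s₁
    show β (γ (QuotientGroup.mk s)) = _
    rw [hys₁, hys₂]
    refine congrArg _ (Subtype.ext (Subtype.ext (Units.ext ?_)))
    rw [hs, hs₂, hs₁, map_mul, map_mul, map_inv]
    simp only [_root_.mul_inv_rev, Units.val_mul, mapGL_coe, Matrix.mul_assoc]
    rfl

theorem Induces.pow {g : GL (Idx m) F} {σ : F ≃+* F} {β : MulAut (POmega F ⇑(minusForm m F a b))}
    (h : Induces g σ β) (k : ℕ) : Induces (iterGL g σ k) (σ ^ k) (β ^ k) := by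
  induction k with
  | zero =>
    refine ⟨⟨1, fun v => by simp [iterGL]⟩, fun s s' hs => ?_⟩
    refine congrArg (QuotientGroup.mk' _) (Subtype.ext (Subtype.ext (Units.ext ?_)))
    rw [hs]
    simp [iterGL]
  | succ k ih =>
    rw [pow_succ', pow_succ']
    exact h.mul ih

theorem induces_simAut (g : ↥(simG (minusForm m F a b))) :
    Induces (g : GL (Idx m) F) 1 (simAut g : MulAut (POmega F ⇑(minusForm m F a b))) :=
  ⟨by
    obtain ⟨c, hc⟩ := g.2
    exact ⟨c, fun v => hc v⟩, (CfsgLib.PGOQuot.induced_iff g _).mpr rfl⟩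

/-- The linear pairs are similarities. -/
theorem exists_simAut {g : GL (Idx m) F} {β : MulAut (POmega F ⇑(minusForm m F a b))}
    (h : Induces g 1 β) : ∃ G : ↥(simG (minusForm m F a b)), β = simAut G := by
  obtain ⟨c, hc⟩ := h.1
  exact ⟨⟨g, c, fun v => hc v⟩, (CfsgLib.PGOQuot.induced_iff (Q := minusForm m F a b) ⟨g, c, fun v => hc v⟩ β).mp h.2⟩

/-- An element of odd prime order of `PGO` is inner-diagonal. -/
theorem mem_innd_of_odd (hm : 3 ≤ m) (hab : Aniso a b) {p : ℕ} (hp : Odd p) (g : ↥(simG (minusForm m F a b)))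
    (hg : (simAut g : MulAut (POmega F ⇑(minusForm m F a b))) ^ p = 1) :
    simAut g ∈ innd m a b := by
  obtain ⟨v, hv, -⟩ := CfsgLib.MinusField.exists_fixed_refl m a b
  have hr := CfsgLib.MinusField.refl_not_proper hm hab hv
  have hidx : (properSub m a b).index = 2 := Subgroup.index_eq_two_iff.mpr
    ⟨isoToSim (CfsgLib.OrthSpinor.reflection hv), fun y => by
      rcases CfsgLib.MinusField.proper_index hm hab hr y with h | h
      · exact Or.inr ⟨h, fun h' => hr ((Subgroup.mul_mem_cancel_left _ h).mp h')⟩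
      · exact Or.inl ⟨h, fun h' => hr ((Subgroup.mul_mem_cancel_left _ h').mp h)⟩⟩
  haveI := Subgroup.normal_of_index_eq_two hidx
  have h1 : g ^ p ∈ properSub m a b := by
    rw [CfsgLib.MinusField.mem_properSub, map_pow, hg]
    exact one_mem _
  obtain ⟨k, rfl⟩ := hp
  have h2 : (g * g) ^ k ∈ properSub m a b := pow_mem (Subgroup.mul_self_mem_of_index_two hidx g) k
  rw [pow_succ, pow_mul, pow_two] at h1
  exact (Subgroup.mul_mem_cancel_left _ h2).mp h1

/-- A quadratic extension. -/
theorem exists_quadratic_ext (hab : Aniso a b) :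
    ∃ (K : Type u) (_ : Field K) (_ : Algebra F K), Module.finrank F K = 2 := by
  let P : Polynomial F := Polynomial.X ^ 2 - Polynomial.C a * Polynomial.X + Polynomial.C b
  have hdeg : P.natDegree = 2 := by simp only [P]; compute_degree!
  have hP : Irreducible P := by
    refine (Polynomial.irreducible_iff_roots_eq_zero_of_degree_le_three (by omega) (by omega)).2 ?_
    refine Multiset.eq_zero_of_forall_notMem fun t ht => ?_
    have h : t ^ 2 - a * t + b = 0 := by simpa [P] using (Polynomial.mem_roots'.1 ht).2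
    exact one_ne_zero (hab (-t) 1 (by linear_combination h)).2
  haveI : Fact (Irreducible P) := ⟨hP⟩
  refine ⟨AdjoinRoot P, inferInstance, inferInstance, ?_⟩
  rw [(AdjoinRoot.powerBasis hP.ne_zero).finrank, AdjoinRoot.powerBasis_dim, hdeg]

/-- A proper similarity induces an inner-diagonal automorphism. -/
theorem isInnerDiag_of_mem (hm : 3 ≤ m) (hab : Aniso a b) (g : ↥(simG (minusForm m F a b)))
    (h : g ∈ properSub m a b) : IsInnerDiagonalAutPOmegaMinus m a b (simAut g) := by
  obtain ⟨K, i1, i2, hK⟩ := exists_quadratic_ext (a := a) (b := b) hab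
  refine ⟨g, g.2, ⟨K, i1, i2, hK, ?_⟩, (CfsgLib.PGOQuot.induced_iff g _).mpr rfl⟩
  rcases CfsgLib.MinusField.odd_or_two F with hodd | h2
  · exact (CfsgLib.PGOQuot.Minus.preserves_map_iff hodd hm hab hK g).mpr ((mem_proper_odd hodd hm hab g).mp h)
  · obtain ⟨c, o, hco⟩ := CfsgLib.MinusField.exists_decomp_two g
    rw [hco, CfsgLib.MinusField.mem_proper_two hm hab] at h
    have h1 := (CfsgLib.MinusField.preserves_two hm hab hK c o).2 h
    rw [show (g : GL (Idx m) F) = scal c * (o : GL (Idx m) F) from congrArg Subtype.val hco]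
    exact h1

end CfsgLib.LocalBalance.Minus
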