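import Cfsg.Agent.Lib.LocalBalance.Basic
import Cfsg.Agent.Lib.Descent.Odd
import Cfsg.Agent.Lib.Classical.Quad.Std

/-!
Failure of local balance for automorphisms of `Ω_{2m+1}(q)` that are not inner-diagonal.
-/

set_option autoImplicit false
set_option linter.unusedSectionVars false
set_option linter.style.haveILetI false
set_option maxHeartbeats 400000

namespace CfsgLib.LocalBalance

open Matrix QuadraticMap Cfsg
open CfsgLib.OrthCrit (oddForm oddForm_apply ndPolar_oddForm)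
open CfsgLib.PGOQuot (simG simAut conjOmega scal isoToSim)
open CfsgLib.OrthSpinor (theta detHom reflection act)
open CfsgLib.Descent
open CfsgLib.AutPSL (fixedField mem_fixedField)
open scoped commutatorElement

section Levi

variable {K : Type*} [Field K] {m : ℕ}

/-- The matrix of the Levi element attached to `A`. -/
def leviMat (A B : Matrix (Fin m) (Fin m) K) : Matrix (Unit ⊕ (Fin m ⊕ Fin m)) (Unit ⊕ (Fin m ⊕ Fin m)) K :=
  Matrix.fromBlocks 1 0 0 (Matrix.fromBlocks A 0 0 Bᵀ)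

theorem leviMat_mul (A B A' B' : Matrix (Fin m) (Fin m) K) :
    leviMat A B * leviMat A' B' = leviMat (A * A') (B' * B) := by
  simp [leviMat, Matrix.fromBlocks_multiply, Matrix.transpose_mul]

/-- `GL_m` as the stabiliser of two opposite maximal singular subspaces. -/
noncomputable def leviHom : GL (Fin m) K →* ↥(isometryGroup K ⇑(oddForm m K)) where
  toFun A :=
    ⟨⟨leviMat A.1 A⁻¹.1, leviMat A⁻¹.1 A.1,
      by rw [leviMat_mul, Units.mul_inv]; simp [leviMat],
      by rw [leviMat_mul, Units.inv_mul]; simp [leviMat]⟩, fun u _ => by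
      show oddForm m K (leviMat A.1 A⁻¹.1 *ᵥ u) = oddForm m K u
      set x : Fin m → K := fun i => u (Sum.inr (Sum.inl i))
      set y : Fin m → K := fun i => u (Sum.inr (Sum.inr i))
      have h0 : ∀ i, (leviMat A.1 A⁻¹.1 *ᵥ u) (Sum.inl i) = u (Sum.inl i) := fun i => by
        simp [leviMat, Matrix.mulVec, dotProduct]
      have h1 : ∀ i, (leviMat A.1 A⁻¹.1 *ᵥ u) (Sum.inr (Sum.inl i)) = (A.1 *ᵥ x) i := fun i => by
        simp [leviMat, Matrix.mulVec, dotProduct, x]
      have h2 : ∀ i, (leviMat A.1 A⁻¹.1 *ᵥ u) (Sum.inr (Sum.inr i)) = ((A⁻¹.1)ᵀ *ᵥ y) i := fun i => by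
        simp [leviMat, Matrix.mulVec, dotProduct, y]
      rw [oddForm_apply, oddForm_apply, Cfsg.quadFormOdd, Cfsg.quadFormOdd]
      simp only [h0, h1, h2]
      congr 1
      show (A.1 *ᵥ x) ⬝ᵥ ((A⁻¹.1)ᵀ *ᵥ y) = x ⬝ᵥ y
      rw [Matrix.mulVec_transpose, dotProduct_comm, ← Matrix.dotProduct_mulVec, Matrix.mulVec_mulVec,
        Units.inv_mul, Matrix.one_mulVec, dotProduct_comm]⟩
  map_one' := Subtype.ext (Units.ext (by simp [leviMat]))
  map_mul' A B := Subtype.ext (Units.ext (by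
    show leviMat (A * B).1 (A * B)⁻¹.1 = leviMat A.1 A⁻¹.1 * leviMat B.1 B⁻¹.1
    rw [leviMat_mul, _root_.mul_inv_rev, Units.val_mul, Units.val_mul]))

theorem leviHom_coe (A : GL (Fin m) K) :
    (((leviHom A : ↥(isometryGroup K ⇑(oddForm m K))) : GL (Unit ⊕ (Fin m ⊕ Fin m)) K) :
      Matrix (Unit ⊕ (Fin m ⊕ Fin m)) (Unit ⊕ (Fin m ⊕ Fin m)) K) = leviMat A.1 A⁻¹.1 := rfl

/-- An elementary matrix as an invertible matrix. -/
noncomputable def elemGL {i j : Fin m} (hij : i ≠ j) (t : K) : GL (Fin m) K :=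
  ⟨Matrix.transvection i j t, Matrix.transvection i j (-t),
    by rw [Matrix.transvection_mul_transvection_same i j hij, add_neg_cancel, Matrix.transvection_zero],
    by rw [Matrix.transvection_mul_transvection_same i j hij, neg_add_cancel, Matrix.transvection_zero]⟩

theorem leviHom_elem_mem (hm : 3 ≤ m) {i j : Fin m} (hij : i ≠ j) (t : K) :
    leviHom (elemGL hij t) ∈ Omega K ⇑(oddForm m K) := by
  obtain ⟨k, hki, hkj⟩ : ∃ k : Fin m, k ≠ i ∧ k ≠ j := by
    obtain ⟨k, hk⟩ := Finset.exists_mem_notMem_of_card_lt_card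
      (s := ({i, j} : Finset (Fin m))) (t := Finset.univ) (by
        rw [Finset.card_univ, Fintype.card_fin]
        exact lt_of_le_of_lt (Finset.card_insert_le _ _) (by rw [Finset.card_singleton]; omega))
    exact ⟨k, fun h => hk.2 (by simp [h]), fun h => hk.2 (by simp [h])⟩
  have h : elemGL hij t = ⁅elemGL hki.symm t, elemGL hkj 1⁆ := by
    refine Units.ext ?_
    show Matrix.transvection i j t = Matrix.transvection i k t * Matrix.transvection k j 1 *
      Matrix.transvection i k (-t) * Matrix.transvection k j (-1)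
    simp only [Matrix.transvection, ← Matrix.single_neg, Matrix.mul_add, Matrix.add_mul, Matrix.one_mul,
      Matrix.single_mul_single_same, Matrix.single_mul_single_of_ne _ _ _ _ hkj.symm,
      Matrix.single_mul_single_of_ne _ _ _ _ hij.symm, Matrix.single_mul_single_of_ne _ _ _ _ hki,
      Matrix.mul_neg, Matrix.neg_mul, neg_neg, mul_one, add_zero]
    abel
  rw [h, map_commutatorElement]
  exact Subgroup.commutator_mem_commutator (Subgroup.mem_top _) (Subgroup.mem_top _)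

theorem trace_leviMat (A B : Matrix (Fin m) (Fin m) K) :
    (leviMat A B).trace = 1 + A.trace + B.trace := by
  simp [leviMat, Matrix.trace, Fintype.sum_sum_type, add_assoc]

/-- Traces of products of two Levi root elements. -/
theorem trace_two_roots {i j : Fin m} (hij : i ≠ j) (t : K) :
    ((((leviHom (elemGL hij t * elemGL hij.symm 1) : ↥(isometryGroup K ⇑(oddForm m K))) :
      GL (Unit ⊕ (Fin m ⊕ Fin m)) K) : Matrix (Unit ⊕ (Fin m ⊕ Fin m)) (Unit ⊕ (Fin m ⊕ Fin m)) K)).trace =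
      1 + 2 * (m + t) := by
  rw [leviHom_coe, trace_leviMat, _root_.mul_inv_rev, Units.val_mul, Units.val_mul]
  show 1 + (Matrix.transvection i j t * Matrix.transvection j i 1).trace +
    (Matrix.transvection j i (-1) * Matrix.transvection i j (-t)).trace = _
  simp [Matrix.transvection, Matrix.mul_add, Matrix.add_mul, Matrix.trace_add, Matrix.trace_one,
    Matrix.trace_single_eq_of_ne _ _ _ hij, Matrix.trace_single_eq_of_ne _ _ _ hij.symm,
    Matrix.single_mul_single_same, Matrix.trace_single_eq_same]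
  ring

theorem leviHom_elem_ne_one {i j : Fin m} (hij : i ≠ j) :
    leviHom (elemGL hij (1 : K)) ≠ 1 := by
  intro h
  have := congrFun (congrFun (congrArg (fun g : ↥(isometryGroup K ⇑(oddForm m K)) =>
    ((g : GL (Unit ⊕ (Fin m ⊕ Fin m)) K) : Matrix (Unit ⊕ (Fin m ⊕ Fin m)) (Unit ⊕ (Fin m ⊕ Fin m)) K)) h)
      (Sum.inr (Sum.inl i))) (Sum.inr (Sum.inl j))
  simp [leviHom_coe, leviMat, elemGL, Matrix.transvection, hij] at this

end Levi

section Base

variable {F : Type*} [Field F] [Fintype F] {m : ℕ}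

theorem omega_center_eq_one (h2 : (2 : F) ≠ 0) (hm : 2 ≤ m) {k : ↥(Omega F ⇑(oddForm m F))}
    (hk : k ∈ Subgroup.center ↥(Omega F ⇑(oddForm m F))) : k = 1 := by
  have hn : 5 ≤ Fintype.card (Unit ⊕ (Fin m ⊕ Fin m)) := by rw [odd_card_index]; omega
  obtain ⟨z, hz, hzx⟩ := CfsgLib.PGOQuot.act_central h2 (ndPolar_oddForm h2 m) hn hk
  have hz' : z = 1 := by
    rcases hz with rfl | rfl
    · rfl
    exfalso
    have hd := ((CfsgLib.OrthSpinor.mem_Omega_iff h2 (CfsgLib.Orth.ndPolar_iff.mp (ndPolar_oddForm h2 m))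
      (by omega) one_ne_zero k.1).mp k.2).1
    have hval : (((k : ↥(isometryGroup F ⇑(oddForm m F))) : GL (Unit ⊕ (Fin m ⊕ Fin m)) F) :
        Matrix (Unit ⊕ (Fin m ⊕ Fin m)) (Unit ⊕ (Fin m ⊕ Fin m)) F) = -1 := by
      apply Matrix.toLin'.injective
      refine LinearMap.ext fun x => ?_
      show act (oddForm m F) k.1 x = _
      rw [hzx]
      simp
    have h := congrArg Units.val hd
    rw [CfsgLib.OrthSpinor.detHom_coe, hval, Matrix.det_neg, Matrix.det_one, odd_card_index, mul_one,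
      Odd.neg_one_pow ⟨m, rfl⟩, Units.val_one] at h
    exact h2 (by linear_combination -h)
  subst hz'
  refine Subtype.ext (CfsgLib.OrthSpinor.ext_act (oddForm m F) fun x => ?_)
  rw [hzx, one_smul, OneMemClass.coe_one, CfsgLib.OrthSpinor.act_one]

theorem pomega_mk_injective (h2 : (2 : F) ≠ 0) (hm : 2 ≤ m) {s t : ↥(Omega F ⇑(oddForm m F))}
    (h : (QuotientGroup.mk s : POmega F ⇑(oddForm m F)) = QuotientGroup.mk t) : s = t :=
  inv_mul_eq_one.mp (omega_center_eq_one h2 hm (QuotientGroup.eq.mp h))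

variable {F₀ : Type*} [Field F₀] (f : F₀ →+* F)

theorem oddBaseIso_mem {s : ↥(isometryGroup F₀ ⇑(oddForm m F₀))} (hs : s ∈ Omega F₀ ⇑(oddForm m F₀)) :
    oddBaseIso f s ∈ Omega F ⇑(oddForm m F) := by
  have h : (Omega F₀ ⇑(oddForm m F₀)).map (oddBaseIso f) ≤ Omega F ⇑(oddForm m F) := by
    rw [Omega, commutator_def, Subgroup.map_commutator]
    exact Subgroup.commutator_mono le_top le_top
  exact h (Subgroup.mem_map_of_mem _ hs)

/-- `Ω` over a subfield inside `Ω`. -/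
noncomputable def baseOmega : ↥(Omega F₀ ⇑(oddForm m F₀)) →* ↥(Omega F ⇑(oddForm m F)) :=
  ((oddBaseIso f).comp (Omega F₀ ⇑(oddForm m F₀)).subtype).codRestrict _ fun s => oddBaseIso_mem f s.2

theorem baseOmega_coe (s : ↥(Omega F₀ ⇑(oddForm m F₀))) :
    ((baseOmega f s : ↥(Omega F ⇑(oddForm m F))) : ↥(isometryGroup F ⇑(oddForm m F))) = oddBaseIso f s.1 := rfl

/-- `Ω` over a subfield inside `PΩ`. -/
noncomputable def basePOmega : ↥(Omega F₀ ⇑(oddForm m F₀)) →* POmega F ⇑(oddForm m F) :=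
  (QuotientGroup.mk' _).comp (baseOmega f)

theorem basePOmega_injective (h2 : (2 : F) ≠ 0) (hm : 2 ≤ m) :
    Function.Injective (basePOmega (m := m) f) := by
  intro s t h
  have h1 := congrArg Subtype.val (pomega_mk_injective h2 hm h)
  rw [baseOmega_coe, baseOmega_coe] at h1
  refine Subtype.ext (Subtype.ext (Units.ext (Matrix.ext fun i j => f.injective ?_)))
  exact congrFun (congrFun (congrArg (fun g : ↥(isometryGroup F ⇑(oddForm m F)) =>
    ((g : GL (Unit ⊕ (Fin m ⊕ Fin m)) F) : Matrix (Unit ⊕ (Fin m ⊕ Fin m)) (Unit ⊕ (Fin m ⊕ Fin m)) F)) h1) i) j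

variable [Fintype F₀]

/-- A semilinear automorphism fixing `Ω` over a subfield fixes the subfield and has scalar linear part. -/
theorem semi_fix_base (h2 : (2 : F) ≠ 0) (h20 : (2 : F₀) ≠ 0) (hm : 3 ≤ m) (g : ↥(simG (oddForm m F)))
    (τ : ↥(invAut (oddForm m F)))
    (hy : ∀ s : ↥(Omega F₀ ⇑(oddForm m F₀)),
      (simAut g * fieldAut τ : MulAut (POmega F ⇑(oddForm m F))) (basePOmega f s) = basePOmega f s) :
    (∀ a, (τ : F ≃+* F) (f a) = f a) ∧ ∃ c : Fˣ, (g : GL (Unit ⊕ (Fin m ⊕ Fin m)) F) = scal c := by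
  classical
  have hn : 5 ≤ Fintype.card (Unit ⊕ (Fin m ⊕ Fin m)) := by rw [odd_card_index]; omega
  have key : ∀ s : ↥(Omega F₀ ⇑(oddForm m F₀)),
      (g : GL (Unit ⊕ (Fin m ⊕ Fin m)) F) * mapGL (τ : F ≃+* F)
          (Matrix.GeneralLinearGroup.map f (s.1 : GL (Unit ⊕ (Fin m ⊕ Fin m)) F₀)) *
        (g : GL (Unit ⊕ (Fin m ⊕ Fin m)) F)⁻¹ =
      Matrix.GeneralLinearGroup.map f (s.1 : GL (Unit ⊕ (Fin m ⊕ Fin m)) F₀) := fun s => by
    have h := hy s
    rw [MulAut.mul_apply, basePOmega, MonoidHom.comp_apply, QuotientGroup.mk'_apply, fieldAut_mk,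
      CfsgLib.PGOQuot.simAut_mk] at h
    exact congrArg (fun w : ↥(Omega F ⇑(oddForm m F)) =>
      ((w : ↥(isometryGroup F ⇑(oddForm m F))) : GL (Unit ⊕ (Fin m ⊕ Fin m)) F))
      (pomega_mk_injective h2 (by omega) h)
  have hτ : ∀ a, (τ : F ≃+* F) (f a) = f a := by
    intro a
    have hij : (⟨0, by omega⟩ : Fin m) ≠ ⟨1, by omega⟩ := by simp
    have h := key (⟨leviHom (elemGL hij a), leviHom_elem_mem hm hij a⟩ *
      ⟨leviHom (elemGL hij.symm 1), leviHom_elem_mem hm hij.symm 1⟩)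
    have h' := congrArg (fun M : GL (Unit ⊕ (Fin m ⊕ Fin m)) F =>
      (M : Matrix (Unit ⊕ (Fin m ⊕ Fin m)) (Unit ⊕ (Fin m ⊕ Fin m)) F).trace) h
    rw [Subgroup.coe_mul, ← map_mul leviHom] at h'
    set M : GL (Unit ⊕ (Fin m ⊕ Fin m)) F₀ :=
      (leviHom (elemGL hij a * elemGL hij.symm 1) : ↥(isometryGroup F₀ ⇑(oddForm m F₀))).1 with hM
    simp only [Units.val_mul] at h'
    rw [Matrix.trace_mul_comm, ← Matrix.mul_assoc, Units.inv_mul, Matrix.one_mul, mapGL_coe] at h'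
    have hfM : (M.1.map f).trace = f (1 + 2 * (m + a)) := by
      rw [← trace_two_roots hij a, ← hM]
      exact (AddMonoidHom.map_trace f.toAddMonoidHom M.1).symm
    have hτM : ((M.1.map f).map (τ : F ≃+* F)).trace = (τ : F ≃+* F) (M.1.map f).trace :=
      (AddMonoidHom.map_trace (τ : F ≃+* F).toRingHom.toAddMonoidHom _).symm
    have h3 : (τ : F ≃+* F) (f (1 + 2 * (m + a))) = f (1 + 2 * (m + a)) := by
      rw [← hfM, ← hτM]
      exact h'
    simp only [map_add, map_mul, map_one, map_ofNat, map_natCast] at h3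
    exact mul_left_cancel₀ h2 (by linear_combination h3)
  refine ⟨hτ, ?_⟩
  have hfix : ∀ M : GL (Unit ⊕ (Fin m ⊕ Fin m)) F₀,
      mapGL (τ : F ≃+* F) (Matrix.GeneralLinearGroup.map f M) = Matrix.GeneralLinearGroup.map f M :=
    fun M => Units.ext (Matrix.ext fun i j => hτ _)
  have hcomm : ∀ s : ↥(Omega F₀ ⇑(oddForm m F₀)), ∀ x,
      ((g : GL (Unit ⊕ (Fin m ⊕ Fin m)) F) : Matrix _ _ F) *ᵥ act (oddForm m F) (oddBaseIso f s.1) x =
        (1 : F) • act (oddForm m F) (oddBaseIso f s.1) (((g : GL (Unit ⊕ (Fin m ⊕ Fin m)) F) : Matrix _ _ F) *ᵥ x) := by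
    intro s x
    have h := key s
    rw [hfix, mul_inv_eq_iff_eq_mul] at h
    rw [one_smul]
    show _ *ᵥ ((Matrix.GeneralLinearGroup.map f (s.1 : GL (Unit ⊕ (Fin m ⊕ Fin m)) F₀) :
      GL (Unit ⊕ (Fin m ⊕ Fin m)) F).1 *ᵥ x) = (Matrix.GeneralLinearGroup.map f
        (s.1 : GL (Unit ⊕ (Fin m ⊕ Fin m)) F₀) : GL (Unit ⊕ (Fin m ⊕ Fin m)) F).1 *ᵥ _
    rw [Matrix.mulVec_mulVec, Matrix.mulVec_mulVec, ← Units.val_mul, ← Units.val_mul, h]
  have hnd0 := ndPolar_oddForm (F := F₀) h20 m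
  have hpol : ∀ a b, polar (⇑(oddForm m F)) (liftVec f a) (liftVec f b) = f (polar (⇑(oddForm m F₀)) a b) := by
    intro a b
    have e : liftVec f a + liftVec f b = liftVec f (a + b) := funext fun i => (map_add f _ _).symm
    simp only [polar, e, oddForm_liftVec, map_sub]
  have heig : ∀ v : Unit ⊕ (Fin m ⊕ Fin m) → F₀, oddForm m F₀ v ≠ 0 →
      ∃ l : F, ((g : GL (Unit ⊕ (Fin m ⊕ Fin m)) F) : Matrix _ _ F) *ᵥ liftVec f v = l • liftVec f v := by
    intro v hv
    obtain ⟨w, w', hw, hw', h1, h3, h4⟩ := CfsgLib.PGOQuot.exists_two_orth h20 hnd0 hn hv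
    have hw0 : oddForm m F₀ w ≠ 0 := hw ▸ hv
    have hw'0 : oddForm m F₀ w' ≠ 0 := hw' ▸ hv
    obtain ⟨hv', ev⟩ := oddBaseIso_reflection f hv
    obtain ⟨hwl, ew⟩ := oddBaseIso_reflection f hw0
    obtain ⟨hwl', ew'⟩ := oddBaseIso_reflection f hw'0
    have c1 := hcomm ⟨_, CfsgLib.PGOQuot.pair_mem_Omega h20 hnd0 hn hv hw0 hw⟩
    have c2 := hcomm ⟨_, CfsgLib.PGOQuot.pair_mem_Omega h20 hnd0 hn hv hw'0 hw'⟩
    rw [show oddBaseIso f (reflection hv * reflection hw0) = reflection hv' * reflection hwl by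
      rw [map_mul, ev, ew]] at c1
    rw [show oddBaseIso f (reflection hv * reflection hw'0) = reflection hv' * reflection hwl' by
      rw [map_mul, ev, ew']] at c2
    have h1' : polar (⇑(oddForm m F)) (liftVec f v) (liftVec f w) = 0 := by rw [hpol, h1, map_zero]
    have h3' : polar (⇑(oddForm m F)) (liftVec f v) (liftVec f w') = 0 := by rw [hpol, h3, map_zero]
    have h4' : polar (⇑(oddForm m F)) (liftVec f w) (liftVec f w') = 0 := by rw [hpol, h4, map_zero]
    have k1 := CfsgLib.PGOQuot.mem_span_of_sign h2 hn hv' hwl h1' _ 1 (Or.inl rfl) c1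
    have k2 := CfsgLib.PGOQuot.mem_span_of_sign h2 hn hv' hwl' h3' _ 1 (Or.inl rfl) c2
    obtain ⟨a, b, hab⟩ := Submodule.mem_span_pair.mp k1
    obtain ⟨a', b', hab'⟩ := Submodule.mem_span_pair.mp k2
    have hb : b = 0 := by
      have h := congrArg (polar (⇑(oddForm m F)) (liftVec f w)) (hab.trans hab'.symm)
      simp only [polar_add_right, polar_smul_right, polar_comm (⇑(oddForm m F)) (liftVec f w) (liftVec f v),
        h1', h4', smul_eq_mul, mul_zero, zero_add, add_zero, CfsgLib.Classical.Quad.polar_self'] at h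
      exact (mul_eq_zero.mp h).resolve_right (mul_ne_zero h2 hwl)
    exact ⟨a, by rw [← hab, hb, zero_smul, add_zero]⟩
  set G := ((g : GL (Unit ⊕ (Fin m ⊕ Fin m)) F) : Matrix (Unit ⊕ (Fin m ⊕ Fin m)) (Unit ⊕ (Fin m ⊕ Fin m)) F)
  have hsingle : ∀ k, (Pi.single k 1 : Unit ⊕ (Fin m ⊕ Fin m) → F) = liftVec f (Pi.single k 1) := fun k =>
    funext fun i => by
      by_cases hik : i = k
      · subst hik; simp [liftVec]
      · simp [liftVec, hik]
  obtain ⟨l, hl⟩ := heig (Pi.single (Sum.inl ()) 1) (by rw [oddForm_single]; exact one_ne_zero)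
  rw [← hsingle] at hl
  have hall : ∀ k, G *ᵥ (Pi.single k 1) = l • (Pi.single k 1 : Unit ⊕ (Fin m ⊕ Fin m) → F) := by
    rintro (⟨⟩ | k)
    · exact hl
    have hQ : ∀ s : F₀, oddForm m F₀ (Pi.single (Sum.inl ()) 1 + s • Pi.single (Sum.inr k) 1) = 1 := fun s => by
      rcases k with i | i <;> simp [Cfsg.quadFormOdd, Pi.single_apply]
    obtain ⟨a, ha⟩ := heig _ (by rw [hQ 1]; exact one_ne_zero)
    obtain ⟨b, hb⟩ := heig _ (by rw [hQ (-1)]; exact one_ne_zero)
    have e1 : ∀ s : F₀, liftVec f (Pi.single (Sum.inl ()) 1 + s • Pi.single (Sum.inr k) 1) =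
        (Pi.single (Sum.inl ()) 1 + f s • Pi.single (Sum.inr k) 1 : Unit ⊕ (Fin m ⊕ Fin m) → F) := fun s => by
      rw [hsingle, hsingle]
      funext i
      simp [liftVec]
    rw [e1, Matrix.mulVec_add, Matrix.mulVec_smul, hl, map_one, one_smul, one_smul] at ha
    rw [e1, Matrix.mulVec_add, Matrix.mulVec_smul, hl, map_neg, map_one, neg_one_smul, neg_one_smul] at hb
    have h0 : (2 * l - (a + b)) • (Pi.single (Sum.inl ()) 1 : Unit ⊕ (Fin m ⊕ Fin m) → F) =
        (a - b) • Pi.single (Sum.inr k) 1 := by linear_combination (norm := module) ha + hb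
    have c0 := congrFun h0 (Sum.inl ())
    have ck := congrFun h0 (Sum.inr k)
    simp at c0 ck
    have hal : a = l := mul_left_cancel₀ h2 (by linear_combination -ck - c0)
    linear_combination (norm := module) ha + hal • ((Pi.single (Sum.inl ()) 1 + Pi.single (Sum.inr k) 1) :
      Unit ⊕ (Fin m ⊕ Fin m) → F)
  have hG : ∀ i j, G i j = l * (if i = j then 1 else 0) := fun i j => by
    have h := congrFun (hall j) i
    rwa [Matrix.mulVec_single_one, Matrix.col_apply, Pi.smul_apply, Pi.single_apply, smul_eq_mul] at h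
  have hl0 : l ≠ 0 := fun h0 => by
    apply (g : GL (Unit ⊕ (Fin m ⊕ Fin m)) F).det.ne_zero
    show G.det = 0
    exact Matrix.det_eq_zero_of_row_eq_zero (Sum.inl ()) fun j => by rw [hG, h0, zero_mul]
  refine ⟨Units.mk0 l hl0, Units.ext (Matrix.ext fun i j => ?_)⟩
  show G i j = Matrix.scalar _ l i j
  rw [hG]
  by_cases hij : i = j
  · subst hij; simp
  · simp [hij]

end Base

section Witness

variable {F : Type*} [Field F] [Fintype F] {m : ℕ}

theorem semilinear_eq_one (h2 : (2 : F) ≠ 0) (hm : 3 ≤ m) (g : ↥(simG (oddForm m F)))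
    (τ : ↥(invAut (oddForm m F))) (h : (simAut g * fieldAut τ : MulAut (POmega F ⇑(oddForm m F))) = 1) :
    τ = 1 :=
  Subtype.ext (RingEquiv.ext
    (semi_fix_base (RingHom.id F) h2 h2 hm g τ (fun s => by rw [h, MulAut.one_apply])).1)

theorem exists_field_conj_odd (hodd : Odd (Fintype.card F)) (hm : 3 ≤ m)
    {x : MulAut (POmega F ⇑(oddForm m F))} {p : ℕ} [Fact p.Prime] (hord : orderOf x = p)
    (hnot : ¬ Cfsg.IsInnerDiagonalAutPOmegaOdd m x) :
    ∃ (h : ↥(simG (oddForm m F))) (σ : ↥(invAut (oddForm m F))), orderOf (σ : F ≃+* F) = p ∧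
      x = simAut h * fieldAut σ * (simAut h)⁻¹ := by
  have h2 := odd_two_ne_zero hodd
  obtain ⟨g, σ, hx⟩ := exists_decomp invAut_oddForm (odd_gammaPOmega_top hodd hm) x
  have hσ1 : σ ≠ 1 := fun h1 => hnot ⟨g.1, g.2, (CfsgLib.PGOQuot.induced_iff g x).2
    (by rw [hx, h1, map_one, mul_one])⟩
  have hxp : (simAut g * fieldAut σ : MulAut (POmega F ⇑(oddForm m F))) ^ p = 1 := by
    rw [← hx, ← hord]; exact pow_orderOf_eq_one x
  have hσp : orderOf (σ : F ≃+* F) = p := by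
    rw [Subgroup.orderOf_coe]
    refine orderOf_eq_prime ?_ hσ1
    have h := hxp
    rw [pow_coset, ← map_pow] at h
    exact semilinear_eq_one h2 hm _ _ h
  obtain ⟨h, hh⟩ := odd_coset_conj hodd (by omega) hσp g hxp
  exact ⟨h, σ, hσp, hx.trans hh⟩

theorem mem_zpowers_invAut {Q : QuadraticForm F (Unit ⊕ (Fin m ⊕ Fin m) → F)} (σ τ : ↥(invAut Q))
    (h : ∀ b, (σ : F ≃+* F) b = b → (τ : F ≃+* F) b = b) : τ ∈ Subgroup.zpowers σ := by
  haveI : Finite (F ≃+* F) := Finite.of_injective _ DFunLike.coe_injective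
  let K := FixedPoints.subfield (↥(Subgroup.zpowers (σ : F ≃+* F))) F
  let τ' : F ≃ₐ[K] F := AlgEquiv.ofRingEquiv (f := (τ : F ≃+* F)) fun b => h b.1 (b.2 ⟨σ, Subgroup.mem_zpowers _⟩)
  obtain ⟨g, hg⟩ := FixedPoints.toAlgAut_surjective (↥(Subgroup.zpowers (σ : F ≃+* F))) F τ'
  obtain ⟨k, hk⟩ := Subgroup.mem_zpowers_iff.mp g.2
  refine Subgroup.mem_zpowers_iff.mpr ⟨k, Subtype.ext ?_⟩
  rw [SubgroupClass.coe_zpow, hk]
  exact RingEquiv.ext fun a => DFunLike.congr_fun hg a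

theorem center_pomega_odd (h2 : (2 : F) ≠ 0) (hm : 3 ≤ m) (hK : IsSimpleGroup (POmega F ⇑(oddForm m F))) :
    Subgroup.center (POmega F ⇑(oddForm m F)) = ⊥ := by
  haveI := hK
  refine (IsSimpleGroup.eq_bot_or_eq_top_of_normal _ inferInstance).resolve_right fun ht => ?_
  have hij : (⟨0, by omega⟩ : Fin m) ≠ ⟨1, by omega⟩ := by simp
  let s : ↥(Omega F ⇑(oddForm m F)) := ⟨leviHom (elemGL hij 1), leviHom_elem_mem hm hij 1⟩
  have hs : s ∈ Subgroup.center ↥(Omega F ⇑(oddForm m F)) := Subgroup.mem_center_iff.mpr fun t =>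
    pomega_mk_injective h2 (by omega) (by
      rw [QuotientGroup.mk_mul, QuotientGroup.mk_mul]
      exact Subgroup.mem_center_iff.mp (ht ▸ Subgroup.mem_top (QuotientGroup.mk s : POmega F ⇑(oddForm m F))) _)
  exact leviHom_elem_ne_one hij (congrArg Subtype.val (omega_center_eq_one h2 (by omega) hs))

variable {F₀ : Type*} [Field F₀] [Fintype F₀] (f : F₀ →+* F) {σ : ↥(invAut (oddForm m F))}

theorem omega_simple (h20 : (2 : F₀) ≠ 0) (hm : 3 ≤ m) : IsSimpleGroup ↥(Omega F₀ ⇑(oddForm m F₀)) := by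
  haveI : IsSimpleGroup (POmega F₀ (Cfsg.quadFormOdd m F₀)) :=
    CfsgLib.Classical.Quad.isSimpleGroup_pomega (CfsgLib.Classical.Quad.oddEquiv m F₀)
      (CfsgLib.Classical.Quad.oddEquiv_spec m)
      (CfsgLib.Classical.Quad.ndPolar_hypForm (CfsgLib.Classical.Quad.ndPolar_lineForm h20) m)
      (CfsgLib.Classical.Quad.hypFrameKernel (by omega) 1
        (by simp [CfsgLib.Classical.Quad.lineForm_apply]))
  have hinj : Function.Injective
      (QuotientGroup.mk' (Subgroup.center ↥(Omega F₀ ⇑(oddForm m F₀)))) :=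
    fun s t h => pomega_mk_injective h20 (by omega) h
  haveI : IsSimpleGroup (POmega F₀ ⇑(oddForm m F₀)) := ‹IsSimpleGroup (POmega F₀ (Cfsg.quadFormOdd m F₀))›
  exact (MulEquiv.ofBijective _ ⟨hinj, QuotientGroup.mk'_surjective _⟩).isSimpleGroup

theorem fix_basePOmega (hf : ∀ a, (σ : F ≃+* F) (f a) = f a) (s : ↥(Omega F₀ ⇑(oddForm m F₀))) :
    fieldAut σ (basePOmega f s) = basePOmega f s := by
  rw [basePOmega, MonoidHom.comp_apply, QuotientGroup.mk'_apply, fieldAut_mk]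
  exact congrArg _ (Subtype.ext (Subtype.ext (Units.ext (Matrix.ext fun i j => hf _))))

/-- Fixed points act on the base group as similarities over the base. -/
theorem conj_fixed_odd (h2 : (2 : F) ≠ 0) (hm : 2 ≤ m) (hf : ∀ a, (σ : F ≃+* F) (f a) = f a)
    (hf' : ∀ x, (σ : F ≃+* F) x = x → ∃ a, f a = x) {k : POmega F ⇑(oddForm m F)}
    (hk : k ∈ fixPts (fieldAut σ : MulAut (POmega F ⇑(oddForm m F)))) :
    ∃ A : ↥(simG (oddForm m F₀)), MulAut.conj k = simAut (oddBase f A) := by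
  induction k using QuotientGroup.induction_on with
  | _ w =>
    have h := mul_conj (fieldAut σ) (QuotientGroup.mk w : POmega F ⇑(oddForm m F))
    rw [mem_fixPts.mp hk, mul_inv_eq_iff_eq_mul, ← CfsgLib.PGOQuot.simAut_omega] at h
    obtain ⟨e, A, hA⟩ := (odd_centralizer_iff f h2 hm hf hf' _).mp (show Commute _ _ from h.symm)
    refine ⟨A, ?_⟩
    rw [← CfsgLib.PGOQuot.simAut_omega, hA, map_mul,
      show simAut (oddScal (m := m) e) = 1 from simAut_scal e, one_mul]

/-- A fixed point squares into the base group. -/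
theorem sq_mem_range (h2 : (2 : F) ≠ 0) (h20 : (2 : F₀) ≠ 0) (hm : 2 ≤ m)
    (hZ : Subgroup.center (POmega F ⇑(oddForm m F)) = ⊥)
    (hf : ∀ a, (σ : F ≃+* F) (f a) = f a) (hf' : ∀ x, (σ : F ≃+* F) x = x → ∃ a, f a = x)
    {k : POmega F ⇑(oddForm m F)} (hk : k ∈ fixPts (fieldAut σ : MulAut (POmega F ⇑(oddForm m F)))) :
    k * k ∈ (basePOmega (m := m) f).range := by
  obtain ⟨A, hA⟩ := conj_fixed_odd f h2 hm hf hf' hk
  have hn : 2 ≤ Fintype.card (Unit ⊕ (Fin m ⊕ Fin m)) := by rw [odd_card_index]; omega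
  have hs : soPart h20 A * soPart h20 A ∈ Omega F₀ ⇑(oddForm m F₀) := by
    rw [CfsgLib.OrthSpinor.mem_Omega_iff h20 (CfsgLib.Orth.ndPolar_iff.mp (ndPolar_oddForm h20 m)) hn one_ne_zero,
      map_mul, map_mul, detHom_soPart, one_mul]
    exact ⟨rfl, Int.units_mul_self _⟩
  refine ⟨⟨_, hs⟩, conj_injective hZ ?_⟩
  rw [map_mul, hA, basePOmega, MonoidHom.comp_apply, QuotientGroup.mk'_apply, ← CfsgLib.PGOQuot.simAut_omega,
    ← simAut_soPart h2 (oddBase f A), ← map_mul simAut, ← map_mul isoToSim, soPart_oddBase f h2 h20]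
  exact congrArg (fun o => simAut (isoToSim o)) (map_mul (oddBaseIso f) _ _)

theorem two_dvd_card_omega (h20 : (2 : F₀) ≠ 0) (hm : 2 ≤ m) :
    2 ∣ Nat.card ↥(Omega F₀ ⇑(oddForm m F₀)) := by
  have hnd := ndPolar_oddForm (F := F₀) h20 m
  have hn : 5 ≤ Fintype.card (Unit ⊕ (Fin m ⊕ Fin m)) := by rw [odd_card_index]; omega
  obtain ⟨v, hv⟩ : ∃ v, oddForm m F₀ v = 1 := ⟨_, oddForm_single⟩
  have hv0 : oddForm m F₀ v ≠ 0 := hv ▸ one_ne_zero
  obtain ⟨w, -, hw, -, hvw, -, -⟩ := CfsgLib.PGOQuot.exists_two_orth h20 hnd hn hv0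
  have hw0 : oddForm m F₀ w ≠ 0 := hw ▸ hv0
  have h1 : CfsgLib.OrthSpinor.act (oddForm m F₀) (reflection hv0 * reflection hw0) v = -v := by
    rw [CfsgLib.OrthSpinor.act_mul, CfsgLib.OrthSpinor.act_reflection_of_ortho hw0 (by rw [polar_comm]; exact hvw),
      CfsgLib.OrthSpinor.act_reflection_self]
  set s : ↥(Omega F₀ ⇑(oddForm m F₀)) := ⟨_, CfsgLib.PGOQuot.pair_mem_Omega h20 hnd hn hv0 hw0 hw⟩
  have hord : orderOf s = 2 := by
    refine orderOf_eq_prime ?_ fun hs => ?_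
    · refine Subtype.ext (CfsgLib.OrthSpinor.ext_act (oddForm m F₀) fun x => ?_)
      rw [_root_.sq, Subgroup.coe_mul, OneMemClass.coe_one, CfsgLib.OrthSpinor.act_one]
      simp only [s, CfsgLib.OrthSpinor.act_mul, CfsgLib.OrthSpinor.act_reflection hv0,
        CfsgLib.OrthSpinor.act_reflection hw0, polar_sub_right, polar_smul_right, smul_eq_mul,
        CfsgLib.Classical.Quad.polar_self', hvw, polar_comm (⇑(oddForm m F₀)) w v, hv, hw]
      module
    · rw [show (reflection hv0 * reflection hw0) = (s : ↥(isometryGroup F₀ ⇑(oddForm m F₀))) from rfl, hs,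
        OneMemClass.coe_one, CfsgLib.OrthSpinor.act_one] at h1
      have h3 : (2 : F₀) • v = 0 := by
        rw [two_smul]
        exact add_eq_zero_iff_eq_neg.mpr h1
      rcases smul_eq_zero.mp h3 with h | h
      · exact h20 h
      · exact hv0 (by rw [h, QuadraticMap.map_zero])
  exact hord ▸ orderOf_dvd_natCard s

theorem witness_odd {p : ℕ} [Fact p.Prime] (hodd : Odd (Fintype.card F)) (hm : 3 ≤ m)
    (hK : IsSimpleGroup (POmega F ⇑(oddForm m F)))
    (hf : ∀ a, (σ : F ≃+* F) (f a) = f a) (hf' : ∀ x, (σ : F ≃+* F) x = x → ∃ a, f a = x)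
    (hdvd : p ∣ Nat.card ↥(fixPts (fieldAut σ : MulAut (POmega F ⇑(oddForm m F))))) :
    Witness p (fieldAut σ : MulAut (POmega F ⇑(oddForm m F))) (basePOmega (m := m) f).range := by
  have h2 := odd_two_ne_zero hodd
  have h20 : (2 : F₀) ≠ 0 := fun h => h2 (by rw [← map_ofNat f, h, map_zero])
  have hZ := center_pomega_odd h2 hm hK
  have hinj := basePOmega_injective (m := m) f h2 (by omega)
  haveI : Finite (POmega F ⇑(oddForm m F)) := Quotient.finite _
  refine ⟨?_, ?_, fun M hM hcop => ?_, fun y _ hy => ?_⟩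
  · rintro _ ⟨s, rfl⟩
    exact fix_basePOmega f hf s
  · rintro k hk _ ⟨s, rfl⟩
    obtain ⟨A, hA⟩ := conj_fixed_odd f h2 (by omega) hf hf' hk
    refine ⟨conjOmega A s, ?_⟩
    rw [← MulAut.conj_apply, hA, basePOmega, MonoidHom.comp_apply, MonoidHom.comp_apply, QuotientGroup.mk'_apply,
      QuotientGroup.mk'_apply, CfsgLib.PGOQuot.simAut_mk]
    refine congrArg _ (Subtype.ext (Subtype.ext ?_))
    show Matrix.GeneralLinearGroup.map f (_ * _ * _⁻¹) = _
    rw [map_mul, map_mul, map_inv]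
    rfl
  · haveI := omega_simple (F₀ := F₀) (m := m) h20 hm
    haveI : IsSimpleGroup ↥(basePOmega (m := m) f).range :=
      (MonoidHom.ofInjective hinj).symm.isSimpleGroup
    rcases IsSimpleGroup.eq_bot_or_eq_top_of_normal M hM with h | h
    · exact h
    exfalso
    rw [h, Subgroup.card_top] at hcop
    refine (Fact.out : p.Prime).ne_one (Nat.eq_one_of_dvd_coprimes hcop ?_ dvd_rfl)
    by_cases hp2 : p = 2
    · subst hp2
      rw [← Nat.card_congr (MonoidHom.ofInjective hinj).toEquiv]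
      exact two_dvd_card_omega h20 (by omega)
    · obtain ⟨k, hk⟩ := exists_prime_orderOf_dvd_card' p hdvd
      obtain ⟨t, ht⟩ := (Fact.out : p.Prime).odd_of_ne_two hp2
      have hkmem : (k : POmega F ⇑(oddForm m F)) ∈ (basePOmega (m := m) f).range := by
        have hsq := sq_mem_range f h2 h20 (by omega) hZ hf hf' k.2
        have he : ((k : POmega F ⇑(oddForm m F)) * k) ^ (t + 1) = k := by
          have h1 : ((k : POmega F ⇑(oddForm m F))) ^ p = 1 := by
            rw [← hk, ← Subgroup.orderOf_coe]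
            exact pow_orderOf_eq_one _
          rw [← pow_two, ← pow_mul, show 2 * (t + 1) = p + 1 by omega, pow_succ, h1, one_mul]
        rw [← he]
        exact pow_mem hsq _
      rw [← hk, ← Subgroup.orderOf_coe]
      exact (Subgroup.orderOf_mk _ hkmem) ▸ orderOf_dvd_natCard (⟨_, hkmem⟩ : ↥(basePOmega (m := m) f).range)
  · obtain ⟨g, τ, rfl⟩ := exists_decomp invAut_oddForm (odd_gammaPOmega_top hodd hm) y
    obtain ⟨hτ, c, hc⟩ := semi_fix_base f h2 h20 hm g τ fun s => hy _ ⟨s, rfl⟩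
    rw [show g = oddScal c from Subtype.ext hc, show simAut (oddScal (m := m) c) = 1 from simAut_scal c, one_mul,
      ← MonoidHom.map_zpowers]
    refine Subgroup.mem_map_of_mem _ (mem_zpowers_invAut σ τ fun b hb => ?_)
    obtain ⟨a, rfl⟩ := hf' b hb
    exact hτ a

end Witness

/-- S2731. -/
theorem omega_odd_local_balance {F : Type*} [Field F] [Fintype F] {m : ℕ} (hodd : Odd (Fintype.card F))
    (hm : 3 ≤ m) (hK : IsSimpleGroup (POmega F ⇑(oddForm m F)))
    {A : Subgroup (MulAut (POmega F ⇑(oddForm m F)))} (hinn : ∀ k, MulAut.conj k ∈ A) {p : ℕ} [Fact p.Prime]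
    {x : MulAut (POmega F ⇑(oddForm m F))} (hord : orderOf x = p)
    (hnot : ¬ Cfsg.IsInnerDiagonalAutPOmegaOdd m x) :
    Cfsg.pPrimeCore p ↥(A ⊓ Subgroup.centralizer {x}) ≠ ⊥ ↔
      (Cfsg.IsFieldAutClassPOmega (⇑(oddForm m F)) x ∧ Nat.Coprime p (Nat.card ↥(fixPts x))) := by
  haveI : Finite (POmega F ⇑(oddForm m F)) := Quotient.finite _
  have h2 := odd_two_ne_zero hodd
  obtain ⟨h, σ, hσ, hx⟩ := exists_field_conj_odd hodd hm hord hnot
  let f : ↥(fixedField (σ : F ≃+* F)) →+* F := (fixedField (σ : F ≃+* F)).subtype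
  haveI : Fintype ↥(fixedField (σ : F ≃+* F)) := Fintype.ofFinite _
  have hf : ∀ a, (σ : F ≃+* F) (f a) = f a := fun a => (mem_fixedField _).mp a.2
  have hf' : ∀ y, (σ : F ≃+* F) y = y → ∃ a, f a = y := fun y hy => ⟨⟨y, hy⟩, rfl⟩
  have hZ := center_pomega_odd h2 hm hK
  have hcl : Cfsg.IsFieldAutClassPOmega (⇑(oddForm m F)) x :=
    ⟨(simAut h)⁻¹, fieldAut σ, σ, fun h1 => (Fact.out : p.Prime).ne_one
      (by rw [← hσ, h1]; exact orderOf_one), (fieldAutOf_iff σ _).2 rfl, by rw [hx]; group⟩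
  have hdvd : ∀ k, k ∈ fixPts x ↔ (simAut h)⁻¹ k ∈ fixPts (fieldAut σ : MulAut (POmega F ⇑(oddForm m F))) :=
    fun k => by
    rw [mem_fixPts, mem_fixPts, hx]
    show simAut h (fieldAut σ ((simAut h)⁻¹ k)) = k ↔ _
    rw [← (simAut h).apply_eq_iff_eq (x := fieldAut σ ((simAut h)⁻¹ k)) (y := (simAut h)⁻¹ k), MulAut.apply_inv_self]
  refine ⟨fun hne => ⟨hcl, ?_⟩, fun ⟨_, hcop⟩ => pPrimeCore_ne_bot hZ hinn ?_ hcop⟩
  · by_contra hc
    rw [(Fact.out : p.Prime).coprime_iff_not_dvd, not_not,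
      Nat.card_congr ((simAut h)⁻¹.toEquiv.subtypeEquiv hdvd)] at hc
    exact hne (hx ▸ ((witness_odd f hodd hm hK hf hf' hc).map (simAut h)).pPrimeCore_eq_bot hZ hinn (hx ▸ hord))
  · intro hbot
    have hij : (⟨0, by omega⟩ : Fin m) ≠ ⟨1, by omega⟩ := by simp
    let s : ↥(Omega ↥(fixedField (σ : F ≃+* F)) ⇑(oddForm m ↥(fixedField (σ : F ≃+* F)))) :=
      ⟨leviHom (elemGL hij 1), leviHom_elem_mem hm hij 1⟩
    have h1 : simAut h (basePOmega f s) ∈ fixPts x := by
      rw [hdvd, MulAut.inv_apply_self]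
      exact fix_basePOmega f hf s
    rw [hbot, Subgroup.mem_bot, MulEquiv.map_eq_one_iff, ← map_one (basePOmega (m := m) f)] at h1
    exact leviHom_elem_ne_one hij (congrArg Subtype.val (basePOmega_injective (m := m) f h2 (by omega) h1))

end CfsgLib.LocalBalance
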