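import Mathlib

/-!
Semilinear maps commuting with transvections, or fixing every line over a subfield, are scalars.
-/

set_option autoImplicit false
set_option maxHeartbeats 800000

namespace CfsgLib.LocalBalance

open Matrix

variable {n : ℕ} {F : Type*} [Field F] {E : Type*} [Field E]

/-- A semilinear map carrying a unipotent element to a multiple of another carries nilpotent to nilpotent. -/
theorem comm_unipotent {G N N' : Matrix (Fin n) (Fin n) E} (hG : G.det ≠ 0) (hN : N * N = 0) (hN' : N' * N' = 0)
    {lam : E} (h : G * (1 + N') = lam • ((1 + N) * G)) : G * N' = N * G := by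
  rcases isEmpty_or_nonempty (Fin n) with hE | hne'
  · ext i; exact hE.elim i
  have e1 : G * N' = ((lam - 1) • (1 : Matrix (Fin n) (Fin n) E) + lam • N) * G := by
    rw [Matrix.mul_add, Matrix.mul_one, Matrix.add_mul, Matrix.one_mul, smul_add] at h
    rw [Matrix.add_mul, Matrix.smul_mul, Matrix.one_mul, Matrix.smul_mul, sub_smul, one_smul]
    linear_combination (norm := module) h
  have hl : lam = 1 := by
    by_contra hne
    have hu : IsUnit ((lam - 1) • (1 : Matrix (Fin n) (Fin n) E) + lam • N) := by
      have hnil : IsNilpotent (lam • N) := ⟨2, by rw [smul_pow, pow_two N, hN, smul_zero]⟩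
      refine hnil.isUnit_add_left_of_commute ?_ ((Commute.one_right _).smul_right _)
      rw [← Algebra.algebraMap_eq_smul_one]
      exact (Ne.isUnit (sub_ne_zero.mpr hne)).map _
    have h2 : G * (N' * N') = ((lam - 1) • (1 : Matrix (Fin n) (Fin n) E) + lam • N) *
        (((lam - 1) • (1 : Matrix (Fin n) (Fin n) E) + lam • N) * G) := by
      rw [← Matrix.mul_assoc, e1, Matrix.mul_assoc, e1]
    rw [hN', Matrix.mul_zero] at h2
    obtain ⟨U, hU⟩ := hu
    rw [← hU] at h2
    have : G = 0 := by simpa using h2.symm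
    exact hG (by rw [this, Matrix.det_zero])
  rw [e1, hl, sub_self, zero_smul, zero_add, one_smul]

/-- A semilinear map fixing every line over a subfield is a scalar. -/
theorem scalar_of_lines (hn : 2 ≤ n) (j : F →+* E) (τ : E ≃+* E) (G : Matrix (Fin n) (Fin n) E) (hG : G.det ≠ 0)
    (h : ∀ v : Fin n → F, ∃ a : E, (G *ᵥ fun i => τ (j (v i))) = a • fun i => j (v i)) :
    ∃ a : E, G = a • 1 ∧ ∀ x, τ (j x) = j x := by
  choose a ha using h
  have hs : ∀ k, (fun i => τ (j ((Pi.single k (1 : F) : Fin n → F) i))) = Pi.single k 1 := fun k => by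
    funext i; by_cases hi : i = k
    · subst hi; simp
    · simp [hi]
  let d : Fin n → E := fun k => a (Pi.single k 1)
  have hGd : G = Matrix.diagonal d := by
    ext i k
    have h1 := congrFun (ha (Pi.single k 1)) i
    rw [hs, Matrix.mulVec_single_one, Matrix.col_apply] at h1
    rw [h1, Matrix.diagonal_apply]
    by_cases hik : i = k
    · subst hik; simp [d]
    · simp [hik]
  have two : ∀ i k : Fin n, i ≠ k → ∀ x : F, d k * τ (j x) = d i * j x := by
    intro i k hik x
    set v : Fin n → F := Pi.single i 1 + x • Pi.single k 1 with hv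
    have hvi : v i = 1 := by simp [hv, hik]
    have hvk : v k = x := by simp [hv, Ne.symm hik]
    have hi := congrFun (ha v) i
    have hk := congrFun (ha v) k
    rw [hGd, Matrix.mulVec_diagonal] at hi hk
    simp only [hvi, hvk, map_one, mul_one, Pi.smul_apply, smul_eq_mul] at hi hk
    rw [hk, hi]
  have hd : ∀ i k, d i = d k := fun i k => by
    by_cases hik : i = k
    · rw [hik]
    · simpa using (two i k hik 1).symm
  let i₀ : Fin n := ⟨0, by omega⟩
  let i₁ : Fin n := ⟨1, by omega⟩
  have hd0 : d i₀ ≠ 0 := fun h0 => hG (by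
    rw [hGd, Matrix.det_diagonal]; exact Finset.prod_eq_zero (Finset.mem_univ i₀) h0)
  refine ⟨d i₀, ?_, fun x => mul_left_cancel₀ hd0 ?_⟩
  · rw [hGd, Matrix.smul_one_eq_diagonal]
    exact congrArg Matrix.diagonal (funext fun i => hd i i₀)
  · have := two i₀ i₁ (by simp [i₀, i₁, Fin.ext_iff]) x
    rwa [hd i₁ i₀] at this

/-- A semilinear map commuting up to scalars with the elementary transvections is a scalar. -/
theorem scalar_of_elementary (hn : 2 ≤ n) (j : F →+* E) (τ : E ≃+* E) (G : Matrix (Fin n) (Fin n) E)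
    (hG : G.det ≠ 0)
    (h : ∀ i k : Fin n, i ≠ k → ∀ x : F, ∃ lam : E,
      G * (1 + Matrix.single i k (τ (j x))) = lam • ((1 + Matrix.single i k (j x)) * G)) :
    ∃ a : E, G = a • 1 ∧ ∀ x, τ (j x) = j x := by
  have hfix : ∀ i k : Fin n, i ≠ k → ∀ x : F, G * Matrix.single i k (τ (j x)) = Matrix.single i k (j x) * G := by
    intro i k hik x
    obtain ⟨lam, hl⟩ := h i k hik x
    refine comm_unipotent hG ?_ ?_ hl <;> exact Matrix.single_mul_single_of_ne (h := Ne.symm hik) ..
  have hoff : ∀ a b : Fin n, a ≠ b → G a b = 0 := by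
    intro a b hab
    have := congrFun (congrFun (hfix b a (Ne.symm hab) 1) a) a
    rw [map_one, map_one, Matrix.mul_single_apply_same, Matrix.single_mul_apply_of_ne (h := hab), mul_one] at this
    exact this
  have hdiag : ∀ a b : Fin n, a ≠ b → ∀ x, G a a * τ (j x) = j x * G b b := by
    intro a b hab x
    have := congrFun (congrFun (hfix a b hab x) a) b
    rwa [Matrix.mul_single_apply_same, Matrix.single_mul_apply_same] at this
  let i₀ : Fin n := ⟨0, by omega⟩
  let i₁ : Fin n := ⟨1, by omega⟩
  have hconst : ∀ k, G k k = G i₀ i₀ := fun k => by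
    by_cases hk : i₀ = k
    · rw [← hk]
    · have := hdiag i₀ k hk 1
      rw [map_one, map_one, mul_one, one_mul] at this
      exact this.symm
  have hGd : G = G i₀ i₀ • 1 := by
    ext a b
    by_cases hab : a = b
    · subst hab; simp [hconst]
    · simp [hab, hoff a b hab]
  have h0 : G i₀ i₀ ≠ 0 := fun h0 => hG (by
    haveI : Nonempty (Fin n) := ⟨i₀⟩
    rw [hGd, h0, zero_smul, Matrix.det_zero])
  refine ⟨_, hGd, fun x => mul_left_cancel₀ h0 ?_⟩
  have := hdiag i₀ i₁ (by simp [i₀, i₁, Fin.ext_iff]) x
  rw [this, hconst i₁, mul_comm]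

end CfsgLib.LocalBalance
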