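import Mathlib
import Cfsg.Agent.Lib.LocalBalance.Basic
import Cfsg.Agent.Lib.LocalBalance.Semilinear
import Cfsg.Agent.Lib.AutPSL.Main
import Cfsg.Agent.Lib.AutPSL.Count
import Cfsg.Agent.Lib.AutPSL.Graph

/-!
Fixed points of semilinear and graph automorphisms of `PSL_n`.
-/

set_option autoImplicit false
set_option maxHeartbeats 800000

namespace CfsgLib.LocalBalance

open Matrix Cfsg
open CfsgLib.AutPSL (SLg PSLg diagAut fieldAut itAut conjSL conjSL_coe fieldSL_coe itSL_coe itGL itGL_coe)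

variable {n : ℕ} {F : Type*} [Field F]

theorem psl_mk_eq {a b : SLg n F} (h : (QuotientGroup.mk a : PSLg n F) = QuotientGroup.mk b) :
    ∃ e : F, e ≠ 0 ∧ b.1 = e • a.1 := by
  obtain ⟨e, -, he⟩ := Matrix.SpecialLinearGroup.mem_center_iff.mp (QuotientGroup.eq.mp h)
  have h1 : (b : Matrix (Fin n) (Fin n) F) = e • a.1 := by
    calc b.1 = (a * (a⁻¹ * b)).1 := by rw [mul_inv_cancel_left]
      _ = a.1 * Matrix.scalar (Fin n) e := by rw [Matrix.SpecialLinearGroup.coe_mul, he]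
      _ = _ := by rw [Matrix.scalar_apply, ← Matrix.smul_one_eq_diagonal, Matrix.mul_smul, Matrix.mul_one]
  by_cases h0 : e = 0
  · rw [h0, zero_smul] at h1
    rcases isEmpty_or_nonempty (Fin n) with hE | hne
    · exact ⟨1, one_ne_zero, by ext i; exact hE.elim i⟩
    · exact absurd b.2 (by rw [h1, Matrix.det_zero]; exact zero_ne_one)
  · exact ⟨e, h0, h1⟩

theorem psl_mk_eq_one {a : SLg n F} {e : F} (h : a.1 = e • (1 : Matrix (Fin n) (Fin n) F)) :
    (QuotientGroup.mk a : PSLg n F) = 1 := by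
  refine (QuotientGroup.eq_one_iff _).mpr (Subgroup.mem_center_iff.mpr fun b => Subtype.ext ?_)
  rw [Matrix.SpecialLinearGroup.coe_mul, Matrix.SpecialLinearGroup.coe_mul, h, Matrix.mul_smul, Matrix.mul_one,
    Matrix.smul_mul, Matrix.one_mul]

theorem psl_mk_one_iff (a : SLg n F) :
    (QuotientGroup.mk a : PSLg n F) = 1 ↔ ∃ e : F, a.1 = e • (1 : Matrix (Fin n) (Fin n) F) :=
  ⟨fun h => by
    obtain ⟨e, -, he⟩ := psl_mk_eq (a := 1) (b := a) h.symm
    exact ⟨e, by rw [he, Matrix.SpecialLinearGroup.coe_one]⟩, fun ⟨_, he⟩ => psl_mk_eq_one he⟩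

/-- A fixed point of a semilinear automorphism. -/
theorem semi_fix_rel {Z : GL (Fin n) F} {τ : F ≃+* F} {a : SLg n F}
    (h : (diagAut Z * fieldAut τ : MulAut (PSLg n F)) (QuotientGroup.mk a) = QuotientGroup.mk a) :
    ∃ e : F, Z.1 * a.1.map τ = e • (a.1 * Z.1) := by
  rw [MulAut.mul_apply, CfsgLib.AutPSL.fieldAut_mk, CfsgLib.AutPSL.diagAut_mk] at h
  obtain ⟨e, he0, he⟩ := psl_mk_eq h
  rw [conjSL_coe, fieldSL_coe] at he
  refine ⟨e⁻¹, ?_⟩
  conv_rhs => rw [he, Matrix.smul_mul, smul_smul, inv_mul_cancel₀ he0, one_smul, Matrix.mul_assoc, Units.inv_mul, Matrix.mul_one]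

theorem semi_eq_one {Z : GL (Fin n) F} {τ : F ≃+* F} {e : F} (hZ : Z.1 = e • (1 : Matrix (Fin n) (Fin n) F))
    (hτ : ∀ x, τ x = x) : (diagAut Z * fieldAut τ : MulAut (PSLg n F)) = 1 := by
  refine MulEquiv.ext fun x => ?_
  obtain ⟨s, rfl⟩ := QuotientGroup.mk_surjective x
  rw [MulAut.mul_apply, CfsgLib.AutPSL.fieldAut_mk, CfsgLib.AutPSL.diagAut_mk, MulAut.one_apply]
  refine congrArg _ (Subtype.ext ?_)
  rw [conjSL_coe, fieldSL_coe, show (s.1).map τ = s.1 from Matrix.ext fun i j => hτ _, hZ, Matrix.smul_mul,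
    Matrix.one_mul, Matrix.smul_mul, ← Matrix.mul_smul]
  have h := Units.mul_inv Z
  rw [hZ, Matrix.smul_mul, Matrix.one_mul] at h
  rw [h, Matrix.mul_one]

/-- A fixed point of a graph automorphism is a similitude. -/
theorem graph_fix_rel {B : GL (Fin n) F} {σ : F ≃+* F} {a : SLg n F}
    (h : (diagAut B * fieldAut σ * itAut : MulAut (PSLg n F)) (QuotientGroup.mk a) = QuotientGroup.mk a) :
    ∃ e : F, e ≠ 0 ∧ (a.1.map σ)ᵀ * (B⁻¹).1 * a.1 = e • (B⁻¹).1 := by
  rw [MulAut.mul_apply, MulAut.mul_apply, CfsgLib.AutPSL.itAut_mk, CfsgLib.AutPSL.fieldAut_mk,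
    CfsgLib.AutPSL.diagAut_mk] at h
  obtain ⟨e, he0, he⟩ := psl_mk_eq h
  rw [conjSL_coe, fieldSL_coe, itSL_coe] at he
  refine ⟨e, he0, ?_⟩
  have h1 : (a.1.map σ)ᵀ * (((a⁻¹ : SLg n F).1)ᵀ).map σ = 1 := by
    rw [← Matrix.transpose_map, ← Matrix.map_mul, ← Matrix.transpose_mul, ← Matrix.SpecialLinearGroup.coe_mul,
      inv_mul_cancel, Matrix.SpecialLinearGroup.coe_one, Matrix.transpose_one,
      Matrix.map_one _ (map_zero σ) (map_one σ)]
  conv_lhs => arg 2; rw [he]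
  rw [Matrix.mul_smul]
  congr 1
  rw [Matrix.mul_assoc B.1, ← Matrix.mul_assoc, Matrix.mul_assoc _ (B⁻¹).1 B.1, Units.inv_mul, Matrix.mul_one,
    ← Matrix.mul_assoc, h1, Matrix.one_mul]

theorem graph_fix_of_rel {B : GL (Fin n) F} {σ : F ≃+* F} {a : SLg n F}
    (h : (a.1.map σ)ᵀ * (B⁻¹).1 * a.1 = (B⁻¹).1) :
    (diagAut B * fieldAut σ * itAut : MulAut (PSLg n F)) (QuotientGroup.mk a) = QuotientGroup.mk a := by
  rw [MulAut.mul_apply, MulAut.mul_apply, CfsgLib.AutPSL.itAut_mk, CfsgLib.AutPSL.fieldAut_mk,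
    CfsgLib.AutPSL.diagAut_mk]
  refine congrArg _ (Subtype.ext ?_)
  rw [conjSL_coe, fieldSL_coe, itSL_coe]
  have h1 : ((((a⁻¹ : SLg n F).1)ᵀ).map σ) * (a.1.map σ)ᵀ = 1 := by
    rw [← Matrix.transpose_map, ← Matrix.map_mul, ← Matrix.transpose_mul, ← Matrix.SpecialLinearGroup.coe_mul,
      mul_inv_cancel, Matrix.SpecialLinearGroup.coe_one, Matrix.transpose_one,
      Matrix.map_one _ (map_zero σ) (map_one σ)]
  conv_lhs => arg 2; rw [← h]
  rw [Matrix.mul_assoc B.1, Matrix.mul_assoc (a.1.map σ)ᵀ, ← Matrix.mul_assoc _ (a.1.map σ)ᵀ, h1, Matrix.one_mul,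
    ← Matrix.mul_assoc, Units.mul_inv, Matrix.one_mul]

variable [Fintype F]

theorem psl_center (hn : 2 ≤ n) : Subgroup.center (PSLg n F) = ⊥ := by
  refine (Subgroup.eq_bot_iff_forall _).mpr fun x hx => ?_
  obtain ⟨A, rfl⟩ := QuotientGroup.mk_surjective x
  have hc : (diagAut (Matrix.SpecialLinearGroup.toGL A) * fieldAut 1 : MulAut (PSLg n F)) = 1 := by
    rw [CfsgLib.AutPSL.diagAut_toGL, map_one, mul_one]
    refine MulEquiv.ext fun y => ?_
    rw [MulAut.conj_apply, MulAut.one_apply, ← Subgroup.mem_center_iff.mp hx y, mul_inv_cancel_right]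
  obtain ⟨⟨c, hc'⟩, -⟩ := CfsgLib.AutPSL.semilinear_eq_one hn hc
  exact psl_mk_eq_one (e := (c : F)) hc'

/-- An automorphism fixing `L` pointwise is a power of an involutory graph automorphism `x` fixing `L`, if no
nontrivial semilinear one does. -/
theorem cent_graph (hn : 2 ≤ n) (B : GL (Fin n) F) (σ : F ≃+* F) (L : Subgroup (PSLg n F))
    (hL : L ≤ fixPts (diagAut B * fieldAut σ * itAut : MulAut (PSLg n F)))
    (hsemi : ∀ (Z : GL (Fin n) F) (τ : F ≃+* F),
      (∀ l ∈ L, (diagAut Z * fieldAut τ : MulAut (PSLg n F)) l = l) → (diagAut Z * fieldAut τ : MulAut (PSLg n F)) = 1)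
    (y : MulAut (PSLg n F)) (hy : ∀ l ∈ L, y l = l) :
    y ∈ Subgroup.zpowers (diagAut B * fieldAut σ * itAut : MulAut (PSLg n F)) := by
  set x : MulAut (PSLg n F) := diagAut B * fieldAut σ * itAut with hx
  obtain ⟨g, τ, h | ⟨-, h⟩⟩ := CfsgLib.AutPSL.aut_decomposition hn y
  · rw [h, hsemi g τ fun l hl => by rw [← h]; exact hy l hl]
    exact one_mem _
  · have e : y * x = diagAut (g * Matrix.GeneralLinearGroup.map τ.toRingHom (itGL B)) * fieldAut (τ * σ) := by
      rw [h, hx, show (diagAut g * fieldAut τ * itAut * (diagAut B * fieldAut σ * itAut) : MulAut (PSLg n F)) =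
          diagAut g * fieldAut τ * (itAut * diagAut B) * fieldAut σ * itAut by group, CfsgLib.AutPSL.itAut_diagAut,
        show (diagAut g * fieldAut τ * (diagAut (itGL B) * itAut) * fieldAut σ * itAut : MulAut (PSLg n F)) =
          diagAut g * (fieldAut τ * diagAut (itGL B)) * (itAut * fieldAut σ) * itAut by group,
        CfsgLib.AutPSL.fieldAut_diagAut, CfsgLib.AutPSL.itAut_fieldAut,
        show (diagAut g * (diagAut (Matrix.GeneralLinearGroup.map τ.toRingHom (itGL B)) * fieldAut τ) *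
          (fieldAut σ * itAut) * itAut : MulAut (PSLg n F)) =
          diagAut g * diagAut (Matrix.GeneralLinearGroup.map τ.toRingHom (itGL B)) * (fieldAut τ * fieldAut σ) *
            (itAut * itAut) by group, CfsgLib.AutPSL.itAut_mul_self, mul_one, ← map_mul, ← map_mul]
    have h1 : y * x = 1 := by
      rw [e]
      refine hsemi _ _ fun l hl => ?_
      rw [← e, MulAut.mul_apply, mem_fixPts.mp (hL hl)]
      exact hy l hl
    rw [show y = x⁻¹ from eq_inv_of_mul_eq_one_left h1]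
    exact inv_mem (Subgroup.mem_zpowers x)

end CfsgLib.LocalBalance
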