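import Mathlib
import Cfsg.Agent.Lib.LocalBalance.Basic
import Cfsg.Agent.Lib.AutPSp.Classes
import Cfsg.Agent.Lib.AutPSp.Central
import Cfsg.Agent.Lib.AutPSp.CardAut
import Cfsg.Agent.Lib.Linear.SympSimple
import Cfsg.Agent.Lib.Linear.SympCard

/-!
Failure of local balance for automorphisms of `PSp_{2m}(q)` that are not inner-diagonal.
-/

set_option autoImplicit false
set_option maxHeartbeats 800000

namespace CfsgLib.LocalBalance

open Matrix Cfsg CfsgLib.Linear.Symp MulAction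
open CfsgLib.AutPSp (Spg Mat simAut fieldAut spToGSp gMat gsp_ext mult multHom scalarSim baseSim T simCentralizer)
open CfsgLib.AutPSL (fixedField mem_fixedField)
open scoped LinearAlgebra.Projectivization

variable {m : ℕ} {F : Type*} [Field F]

theorem gMat_spToGSp (A : Spg m F) : gMat (spToGSp A) = A.1 := CfsgLib.AutPSp.spToGSp_coe A

/-- `Sp` over a subfield inside `PSp`. -/
def baseHom {F₀ : Type*} [Field F₀] (ι : F₀ →+* F) : Spg m F₀ →* Cfsg.PSp m F :=
  (QuotientGroup.mk' (Subgroup.center (Spg m F))).comp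
    { toFun := fun s => ⟨s.1.map ι, by
        rw [SymplecticGroup.mem_iff]
        have hJ : (Matrix.J (Fin m) F₀).map ι = Matrix.J (Fin m) F := by
          ext (i | i) (j | j) <;> simp [Matrix.J, Matrix.one_apply, apply_ite ι]
        rw [← hJ, ← Matrix.transpose_map, ← Matrix.map_mul, ← Matrix.map_mul, SymplecticGroup.mem_iff.mp s.2]⟩
      map_one' := Subtype.ext (Matrix.map_one _ (map_zero ι) (map_one ι))
      map_mul' := fun s t => Subtype.ext Matrix.map_mul }

theorem baseHom_mk {F₀ : Type*} [Field F₀] (ι : F₀ →+* F) (s : Spg m F₀) :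
    ∃ t : Spg m F, t.1 = s.1.map ι ∧ baseHom ι s = QuotientGroup.mk t ∧ spToGSp t = baseSim ι (spToGSp s) :=
  ⟨_, rfl, rfl, gsp_ext (by rw [CfsgLib.AutPSp.baseSim_coe, gMat_spToGSp, gMat_spToGSp]; rfl)⟩

theorem center_PSp [Fintype F] (hm : 1 ≤ m) : Subgroup.center (Cfsg.PSp m F) = ⊥ := by
  refine (Subgroup.eq_bot_iff_forall _).mpr fun x hx => ?_
  obtain ⟨A, rfl⟩ := QuotientGroup.mk_surjective x
  have hc : simAut (spToGSp A) = (1 : MulAut (Cfsg.PSp m F)) := by
    rw [CfsgLib.AutPSp.simAut_spToGSp]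
    refine MulEquiv.ext fun y => ?_
    rw [MulAut.conj_apply, MulAut.one_apply, ← Subgroup.mem_center_iff.mp hx y, mul_inv_cancel_right]
  obtain ⟨u, hu⟩ := (CfsgLib.AutPSp.simAut_eq_one_iff hm).mp hc
  refine (QuotientGroup.eq_one_iff _).mpr (mem_center_iff.mpr ⟨(u : F), ?_, fun v => ?_⟩)
  · have := congrArg (multHom hm) hu
    rw [CfsgLib.AutPSp.mult_spToGSp, CfsgLib.AutPSp.mult_scalarSim] at this
    rw [sq, ← Units.val_mul, ← this, Units.val_one]
  · rw [smul_def, ← gMat_spToGSp, hu, CfsgLib.AutPSp.scalarSim_coe, Matrix.smul_mulVec, Matrix.one_mulVec]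

/-- The semilinear automorphisms. -/
def semiAuts (m : ℕ) (F : Type*) [Field F] [Fintype F] : Subgroup (MulAut (Cfsg.PSp m F)) where
  carrier := {β | ∃ (g : ↥(Cfsg.GSp m F)) (σ : F ≃+* F), β = simAut g * fieldAut σ}
  one_mem' := ⟨1, 1, by rw [map_one, map_one, one_mul]⟩
  mul_mem' := by
    rintro _ _ ⟨g, σ, rfl⟩ ⟨h, τ, rfl⟩
    exact ⟨g * CfsgLib.AutPSp.gspMap σ h, σ * τ, by
      rw [map_mul, map_mul, mul_assoc, ← mul_assoc (fieldAut σ), CfsgLib.AutPSp.fieldAut_simAut]; group⟩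
  inv_mem' := by
    rintro _ ⟨g, σ, rfl⟩
    exact ⟨CfsgLib.AutPSp.gspMap σ⁻¹ g⁻¹, σ⁻¹, by
      rw [← CfsgLib.AutPSp.fieldAut_simAut, map_inv, map_inv, _root_.mul_inv_rev]⟩

variable [Fintype F]

theorem index_semiAuts [CharP F 2] (hq : 3 ≤ Fintype.card F) : (semiAuts 2 F).index = 2 := by
  set γ := CfsgLib.AutPSp.graphAut hq
  refine Subgroup.index_eq_two_iff'.mpr ⟨γ, fun b => ?_⟩
  have hγ : γ ∉ semiAuts 2 F := fun ⟨g, σ, h⟩ => CfsgLib.AutPSp.graphAut_ne_semilinear hq g σ h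
  rw [xor_iff_or_and_not_and]
  refine ⟨?_, fun ⟨h1, h2⟩ => hγ ((Subgroup.mul_mem_cancel_right _ h2).mp h1)⟩
  obtain ⟨g, σ, h | h⟩ := CfsgLib.AutPSp.aut_decomposition_two hq b
  · exact Or.inr ⟨g, σ, h⟩
  · exact Or.inl ⟨g, σ, h⟩

/-- An automorphism of odd order, or any automorphism outside `Sp₄` in characteristic two, is semilinear. -/
theorem mem_semiAuts {r : ℕ} [Fact r.Prime] [CharP F r] (hm : 2 ≤ m) (hs : m = 2 → 3 ≤ Fintype.card F)
    (x : MulAut (Cfsg.PSp m F)) (h : (m = 2 ∧ r = 2) → Odd (orderOf x)) : x ∈ semiAuts m F := by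
  by_cases h4 : m = 2 ∧ r = 2
  · obtain ⟨k, hk⟩ := h h4
    obtain ⟨rfl, rfl⟩ := h4
    have h1 := pow_orderOf_eq_one x
    rw [hk, pow_add, pow_one, pow_mul] at h1
    rw [show x = ((x ^ 2) ^ k)⁻¹ from eq_inv_of_mul_eq_one_right h1]
    exact inv_mem (pow_mem (Subgroup.sq_mem_of_index_two (index_semiAuts (hs rfl)) x) k)
  · obtain ⟨g, σ, hx⟩ := CfsgLib.AutPSp.aut_decomposition r hm (fun e e' => h4 ⟨e, e'⟩) x
    exact ⟨g, σ, hx⟩

theorem exists_field_conj {r : ℕ} [Fact r.Prime] [CharP F r] (hm : 2 ≤ m) (hs : m = 2 → 3 ≤ Fintype.card F)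
    {x : MulAut (Cfsg.PSp m F)} {p : ℕ} [Fact p.Prime] (hpr : p ≠ r) (hord : orderOf x = p)
    (hnot : ¬ Cfsg.IsInnerDiagonalAutPSp x) :
    ∃ (h : ↥(Cfsg.GSp m F)) (σ : F ≃+* F), orderOf σ = p ∧ x = simAut h * fieldAut σ * (simAut h)⁻¹ := by
  obtain ⟨g, σ, hx⟩ := mem_semiAuts (r := r) hm hs x (fun ⟨_, h2⟩ => by
    rw [hord]; exact (Fact.out : p.Prime).odd_of_ne_two (h2 ▸ hpr))
  have hσ1 : σ ≠ 1 := fun h1 => hnot ⟨g.1, g.2, CfsgLib.AutPSp.isInducedBySemilinearPSp_iff.mpr
    (by rw [show RingEquiv.refl F = (1 : F ≃+* F) from rfl, ← h1]; exact hx)⟩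
  have hxp : (simAut g * fieldAut σ : MulAut (Cfsg.PSp m F)) ^ p = 1 := by
    rw [← hx, ← hord]; exact pow_orderOf_eq_one x
  have hσp : orderOf σ = p := by
    refine orderOf_eq_prime ?_ hσ1
    obtain ⟨P, hP, -⟩ := CfsgLib.AutPSp.pow_semiSp g σ p
    rw [hP] at hxp
    exact (CfsgLib.AutPSp.semilinear_eq_one (by omega) hxp).2
  obtain ⟨h, hh⟩ := CfsgLib.AutPSp.field_coset_conj (by omega) hσp hxp
  exact ⟨h, σ, hσp, hx.trans hh⟩

/-- A field automorphism fixing the fixed field of `σ` is a power of `σ`. -/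
theorem mem_zpowers_of_fix (σ τ : F ≃+* F) (h : ∀ b, σ b = b → τ b = b) : τ ∈ Subgroup.zpowers σ := by
  haveI : Finite (F ≃+* F) := Finite.of_injective _ DFunLike.coe_injective
  let K := FixedPoints.subfield (↥(Subgroup.zpowers σ)) F
  let τ' : F ≃ₐ[K] F := AlgEquiv.ofRingEquiv (f := τ) fun b => h b.1 (b.2 ⟨σ, Subgroup.mem_zpowers σ⟩)
  obtain ⟨g, hg⟩ := FixedPoints.toAlgAut_surjective (↥(Subgroup.zpowers σ)) F τ'
  have : (g : F ≃+* F) = τ := RingEquiv.ext fun a => DFunLike.congr_fun hg a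
  rw [← this]; exact g.2

section Witness

variable (σ : F ≃+* F)

theorem fix_baseHom (s : Spg m ↥(fixedField σ)) : fieldAut σ (baseHom (fixedField σ).subtype s) = baseHom (fixedField σ).subtype s := by
  obtain ⟨t, ht, hb, -⟩ := baseHom_mk (fixedField σ).subtype s
  rw [hb, CfsgLib.AutPSp.fieldAut_mk]
  refine congrArg _ (Subtype.ext ?_)
  rw [CfsgLib.AutPSp.fieldSp_coe, ht]
  ext i j
  exact (mem_fixedField σ).mp (s.1 i j).2

theorem conj_fixed (hm : 1 ≤ m) {k : Cfsg.PSp m F} (hk : k ∈ fixPts (fieldAut σ)) :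
    ∃ A : ↥(Cfsg.GSp m ↥(fixedField σ)), MulAut.conj k = simAut (baseSim (fixedField σ).subtype A) := by
  obtain ⟨B, rfl⟩ := QuotientGroup.mk_surjective k
  have hmem : spToGSp B ∈ simCentralizer (m := m) σ := by
    refine Subgroup.mem_centralizer_singleton_iff.mpr ?_
    rw [CfsgLib.AutPSp.simAut_spToGSp]
    have h := mul_conj (fieldAut σ) (QuotientGroup.mk B : Cfsg.PSp m F)
    rw [mem_fixPts.mp hk, mul_inv_eq_iff_eq_mul] at h
    exact h.symm
  rw [CfsgLib.AutPSp.simCentralizer_eq hm σ (fixedField σ).subtype (fun a => (mem_fixedField σ).mp a.2)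
    (fun y hy => ⟨⟨y, hy⟩, rfl⟩)] at hmem
  have : (scalarSim (F := F) (m := m)).range.map simAut = ⊥ := by
    refine (Subgroup.eq_bot_iff_forall _).mpr ?_
    rintro _ ⟨_, ⟨u, rfl⟩, rfl⟩
    exact CfsgLib.AutPSp.simAut_scalarSim u
  have h2 : simAut (spToGSp B) ∈ ((baseSim (m := m) (fixedField σ).subtype).range).map (simAut (m := m) (F := F)) := by
    have := Subgroup.mem_map_of_mem (simAut (m := m) (F := F)) hmem
    rwa [Subgroup.map_sup, ‹Subgroup.map _ _ = ⊥›, bot_sup_eq] at this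
  obtain ⟨_, ⟨A, rfl⟩, hA⟩ := h2
  exact ⟨A, by rw [← CfsgLib.AutPSp.simAut_spToGSp, hA]⟩

theorem sim_baseHom (A : ↥(Cfsg.GSp m ↥(fixedField σ))) (s : Spg m ↥(fixedField σ)) :
    simAut (baseSim (fixedField σ).subtype A) (baseHom (fixedField σ).subtype s) = baseHom (fixedField σ).subtype (CfsgLib.AutPSp.conjSp A s) := by
  obtain ⟨t, ht, hb, -⟩ := baseHom_mk (fixedField σ).subtype s
  obtain ⟨u, hu, hb', -⟩ := baseHom_mk (fixedField σ).subtype (CfsgLib.AutPSp.conjSp A s)
  rw [hb, hb', CfsgLib.AutPSp.simAut_mk]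
  refine congrArg _ (Subtype.ext ?_)
  rw [CfsgLib.AutPSp.conjSp_coe, hu, CfsgLib.AutPSp.conjSp_coe, ht, Matrix.map_mul, Matrix.map_mul]
  rfl

theorem prime_dvd_range (hm : 1 ≤ m) {p : ℕ} [Fact p.Prime] (h2 : p = 2 → (2 : F) ≠ 0)
    (hdvd : p ∣ Nat.card ↥(fixPts (fieldAut σ : MulAut (Cfsg.PSp m F)))) :
    p ∣ Nat.card ↥(baseHom (m := m) (fixedField σ).subtype).range := by
  rcases eq_or_ne p 2 with hp2 | hp2
  · subst hp2
    let j : Spg m ↥(fixedField σ) := ⟨Matrix.J _ _, SymplecticGroup.J_mem _ _⟩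
    obtain ⟨t, ht, hb, -⟩ := baseHom_mk (fixedField σ).subtype j
    have htJ : t.1 = Matrix.J (Fin m) F := by
      rw [ht]; ext (a | a) (b | b) <;> simp [j, Matrix.J, Matrix.one_apply] <;> by_cases hab : a = b <;> simp [hab]
    have ho : orderOf (baseHom (fixedField σ).subtype j) = 2 := by
      refine orderOf_eq_prime ?_ ?_
      · rw [hb, ← QuotientGroup.mk_pow]
        refine (QuotientGroup.eq_one_iff _).mpr (mem_center_iff.mpr ⟨-1, by ring, fun v => ?_⟩)
        rw [smul_def, SubmonoidClass.coe_pow, htJ, sq, Matrix.J_squared, Matrix.neg_mulVec, Matrix.one_mulVec,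
          neg_one_smul]
      · rw [hb]
        intro hz
        obtain ⟨a, -, ha⟩ := mem_center_iff.mp ((QuotientGroup.eq_one_iff _).mp hz)
        have h3 := congrFun (ha (Pi.single (Sum.inl ⟨0, hm⟩) 1)) (Sum.inr ⟨0, hm⟩)
        rw [smul_def, htJ, Matrix.mulVec_single_one, Matrix.col_apply] at h3
        simp [Matrix.J] at h3
    exact ho ▸ Subgroup.orderOf_dvd_natCard _ ⟨j, rfl⟩
  · obtain ⟨⟨k, hk⟩, hord⟩ := exists_prime_orderOf_dvd_card' p hdvd
    rw [Subgroup.orderOf_mk] at hord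
    obtain ⟨A, hA⟩ := conj_fixed σ hm hk
    obtain ⟨B, hB⟩ : ∃ B, spToGSp B = (scalarSim (multHom hm A))⁻¹ * A ^ 2 := by
      refine CfsgLib.AutPSp.exists_spToGSp hm ?_
      rw [map_mul, map_inv, map_pow, CfsgLib.AutPSp.mult_scalarSim, sq, inv_mul_cancel]
    have hsq : k ^ 2 ∈ (baseHom (m := m) (fixedField σ).subtype).range := by
      obtain ⟨t, -, hb, hsim⟩ := baseHom_mk (fixedField σ).subtype B
      refine ⟨B, conj_injective (center_PSp hm) ?_⟩
      rw [map_pow, hA, hb, ← CfsgLib.AutPSp.simAut_spToGSp, hsim, hB, map_mul, map_mul, map_inv, map_pow, map_pow]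
      have : baseSim (m := m) (fixedField σ).subtype (scalarSim (multHom hm A)) = scalarSim (m := m) (Units.map ((fixedField σ).subtype : ↥(fixedField σ) →+* F).toMonoidHom (multHom hm A)) := by
        refine gsp_ext ?_
        rw [CfsgLib.AutPSp.baseSim_coe, CfsgLib.AutPSp.scalarSim_coe, CfsgLib.AutPSp.scalarSim_coe]
        ext i j
        by_cases hij : i = j
        · subst hij; simp
        · simp [hij]
      rw [this, map_inv, CfsgLib.AutPSp.simAut_scalarSim, inv_one, one_mul]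
    obtain ⟨l, hl⟩ := (Fact.out : p.Prime).odd_of_ne_two hp2
    have hk2 : (k ^ 2) ^ (l + 1) = k := by
      rw [← pow_mul, show 2 * (l + 1) = orderOf k + 1 by omega, pow_succ, pow_orderOf_eq_one, one_mul]
    exact hord ▸ Subgroup.orderOf_dvd_natCard _ (hk2 ▸ pow_mem hsq _)

theorem core_range (hm : 2 ≤ m) {r p : ℕ} [CharP F r] [Fact r.Prime] [Fact p.Prime] (hpr : p ≠ r)
    (hdvd : p ∣ Nat.card ↥(baseHom (m := m) (fixedField σ).subtype).range) (M : Subgroup ↥(baseHom (m := m) (fixedField σ).subtype).range)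
    (hM : M.Normal) (hcop : (Nat.card ↥M).Coprime p) : M = ⊥ := by
  classical
  letI : Fintype ↥(fixedField σ) := Fintype.ofFinite _
  haveI : CharP ↥(fixedField σ) r := ((fixedField σ).subtype.charP_iff (fixedField σ).subtype.injective r).mpr ‹_›
  let θ := baseHom (m := m) (fixedField σ).subtype
  haveI := hM
  haveI hN : (M.comap θ.rangeRestrict).Normal := Subgroup.Normal.comap ‹M.Normal› θ.rangeRestrict
  have hback : M.comap θ.rangeRestrict ≤ θ.rangeRestrict.ker → M = ⊥ := fun h => by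
    rw [← Subgroup.map_comap_eq_self_of_surjective θ.rangeRestrict_surjective M]
    exact (Subgroup.map_eq_bot_iff _).mpr h
  have hcentre : Subgroup.center (Spg m ↥(fixedField σ)) ≤ θ.rangeRestrict.ker := by
    intro c hc
    obtain ⟨a, ha, hca⟩ := mem_center_iff.mp hc
    obtain ⟨t, ht, hb, -⟩ := baseHom_mk (fixedField σ).subtype c
    refine Subtype.ext ?_
    show θ c = 1
    rw [hb]
    refine (QuotientGroup.eq_one_iff _).mpr (mem_center_iff.mpr ⟨(a : F), by exact_mod_cast ha, fun v => ?_⟩)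
    have hcm : c.1 = a • (1 : Mat m ↥(fixedField σ)) := by
      ext i j
      have := congrFun (hca (Pi.single j 1)) i
      rw [smul_def, Matrix.mulVec_single_one, Matrix.col_apply] at this
      rw [this]
      by_cases hij : i = j
      · subst hij; simp
      · simp [hij]
    rw [smul_def, ht, hcm, show (a • (1 : Mat m ↥(fixedField σ))).map (fixedField σ).subtype = (a : F) • (1 : Mat m F) from ?_,
      Matrix.smul_mulVec, Matrix.one_mulVec]
    ext i j
    by_cases hij : i = j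
    · subst hij; simp
    · simp [hij]
  by_cases hbig : m = 2 ∧ Fintype.card ↥(fixedField σ) = 2
  · obtain ⟨rfl, hq⟩ := hbig
    have hp235 : p ∣ 15 := by
      have h1 : p ∣ Nat.card (Spg 2 ↥(fixedField σ)) := hdvd.trans (Subgroup.card_range_dvd θ)
      rw [card_symplectic, hq] at h1
      have hr : r = 2 := by
        have h2 : (r : ℕ) ∣ Fintype.card ↥(fixedField σ) := by
          rw [← CharP.cast_eq_zero_iff ↥(fixedField σ) r]; exact FiniteField.cast_card_eq_zero _
        rw [hq] at h2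
        exact (Nat.prime_dvd_prime_iff_eq Fact.out Nat.prime_two).mp h2
      rw [show (2 : ℕ) ^ 2 ^ 2 * ∏ k ∈ Finset.range 2, (2 ^ (2 * (k + 1)) - 1) = 2 ^ 4 * 45 by rfl] at h1
      rcases (Nat.Prime.dvd_mul Fact.out).mp h1 with h | h
      · exact absurd ((Nat.prime_dvd_prime_iff_eq Fact.out Nat.prime_two).mp ((Fact.out : p.Prime).dvd_of_dvd_pow h))
          (hr ▸ hpr)
      · exact (Fact.out : p.Prime).dvd_of_dvd_pow (show p ∣ 15 ^ 2 from h.trans (by norm_num))
    refine hback fun g hg => ?_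
    have hker : θ.rangeRestrict.ker = ⊥ ∨ True := Or.inr trivial
    by_cases hfix : fixedPoints ↥(M.comap θ.rangeRestrict) (ℙ ↥(fixedField σ) (Fin 2 ⊕ Fin 2 → ↥(fixedField σ))) = Set.univ
    · suffices g = 1 by rw [this]; exact one_mem _
      refine group_ext fun v => ?_
      rw [one_smul]
      by_cases hv : v = 0
      · simp [hv]
      have hf : (⟨g, hg⟩ : ↥(M.comap θ.rangeRestrict)) • Projectivization.mk _ v hv = Projectivization.mk _ v hv :=
        mem_fixedPoints.1 (hfix.ge (Set.mem_univ _)) _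
      obtain ⟨a, ha⟩ := (Projectivization.mk_eq_mk_iff' _ _ _ _ _).1 ((smul_mk_eq g hv).symm.trans hf)
      have ha1 : a = 1 := by
        have ha0 : a ≠ 0 := fun h0 => (smul_ne_zero_iff_ne g).2 hv (by rw [← ha, h0, zero_smul])
        have := FiniteField.pow_card_sub_one_eq_one a ha0
        rwa [hq, pow_one] at this
      rw [← ha, ha1, one_smul]
    · exfalso
      haveI := isPreprimitive_proj (F := ↥(fixedField σ)) (m := 2)
      haveI := IsQuasiPreprimitive.isPretransitive_of_normal (G := Spg 2 ↥(fixedField σ)) hfix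
      let P : ℙ ↥(fixedField σ) (Fin 2 ⊕ Fin 2 → ↥(fixedField σ)) := Projectivization.mk _ (Pi.single (Sum.inl 0) 1) (by simp)
      have h15 : 15 ∣ Nat.card ↥(M.comap θ.rangeRestrict) := by
        have hP : Nat.card (ℙ ↥(fixedField σ) (Fin 2 ⊕ Fin 2 → ↥(fixedField σ))) = 15 := by
          rw [Projectivization.card'', Nat.card_fun, Nat.card_eq_fintype_card, Nat.card_eq_fintype_card, hq]
          simp
        rw [← hP, ← MulAction.index_stabilizer_of_transitive (↥(M.comap θ.rangeRestrict)) P]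
        exact Subgroup.index_dvd_card _
      have hp : p ∣ Nat.card ↥(M.comap θ.rangeRestrict) := hp235.trans h15
      have hinj : θ.rangeRestrict.ker = ⊥ := by
        refine (Subgroup.eq_bot_iff_forall _).mpr fun c hc => ?_
        obtain ⟨t, ht, hb, -⟩ := baseHom_mk (fixedField σ).subtype c
        have hc' : θ c = 1 := congrArg Subtype.val hc
        obtain ⟨a, ha, hta⟩ := mem_center_iff.mp ((QuotientGroup.eq_one_iff _).mp (hb ▸ hc'))
        refine group_ext fun v => funext fun i => Subtype.ext ?_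
        have h2 : (2 : F) = 0 := by
          rw [show (2 : F) = (fixedField σ).subtype 2 from (map_ofNat _ 2).symm]
          have : ((2 : ℕ) : ↥(fixedField σ)) = 0 := by rw [← hq]; exact FiniteField.cast_card_eq_zero _
          rw [show (2 : ↥(fixedField σ)) = 0 by simpa using this, map_zero]
        have ha1 : a = 1 := by
          have : (a - 1) ^ 2 = 0 := by linear_combination ha - (a - 1) * h2
          exact sub_eq_zero.mp (pow_eq_zero_iff two_ne_zero |>.mp this)
        have h3 := congrFun (hta (fun i => (v i : F))) i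
        rw [ha1, one_smul, smul_def, ht] at h3
        rw [one_smul, smul_def]
        exact (RingHom.map_mulVec (fixedField σ).subtype c.1 v i).trans h3
      have hcard : Nat.card ↥(M.comap θ.rangeRestrict) ∣ Nat.card ↥M :=
        Subgroup.card_dvd_of_injective
          ((θ.rangeRestrict.comp (M.comap θ.rangeRestrict).subtype).codRestrict M fun x => x.2) fun a b h =>
          Subtype.ext ((θ.rangeRestrict.ker_eq_bot_iff.mp hinj) (congrArg Subtype.val h))
      exact (Fact.out : p.Prime).ne_one (Nat.eq_one_of_dvd_coprimes hcop (hp.trans hcard) dvd_rfl)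
  · rcases normal_le_center_or_eq_top (m := m) (F := ↥(fixedField σ)) (by
      have := Fintype.one_lt_card (α := ↥(fixedField σ)); omega) (M.comap θ.rangeRestrict) with h | h
    · exact hback (h.trans hcentre)
    · exfalso
      have : M = ⊤ := by
        rw [← Subgroup.map_comap_eq_self_of_surjective θ.rangeRestrict_surjective M, h,
          Subgroup.map_top_of_surjective _ θ.rangeRestrict_surjective]
      rw [this, Subgroup.card_top] at hcop
      exact (Fact.out : p.Prime).ne_one (Nat.eq_one_of_dvd_coprimes hcop hdvd dvd_rfl)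

theorem cent_range {r : ℕ} [Fact r.Prime] [CharP F r] (hm : 2 ≤ m) (hs : m = 2 → 3 ≤ Fintype.card F)
    (y : MulAut (Cfsg.PSp m F)) (hfix : ∀ l ∈ (baseHom (m := m) (fixedField σ).subtype).range, y l = l) :
    y ∈ Subgroup.zpowers (fieldAut σ : MulAut (Cfsg.PSp m F)) := by
  have hT : ∀ (v : Fin m ⊕ Fin m → ↥(fixedField σ)), y (T (fun i => (v i : F)) 1) = T (fun i => (v i : F)) 1 := by
    intro v
    obtain ⟨t, ht, hb, -⟩ := baseHom_mk (fixedField σ).subtype (tv v 1)
    have : T (fun i => (v i : F)) (1 : F) = baseHom (fixedField σ).subtype (tv v 1) := by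
      rw [hb]
      refine congrArg _ (Subtype.ext ?_)
      have hJ : (Matrix.J (Fin m) ↥(fixedField σ)).map (fixedField σ).subtype = Matrix.J (Fin m) F := by
        ext (i | i) (j | j) <;> simp [Matrix.J, Matrix.one_apply] <;> by_cases hij : i = j <;> simp [hij]
      rw [ht]
      show 1 + (1 : F) • Matrix.vecMulVec _ (Matrix.J (Fin m) F *ᵥ _) =
        (1 + (1 : ↥(fixedField σ)) • Matrix.vecMulVec v (Matrix.J (Fin m) _ *ᵥ v)).map (fixedField σ).subtype
      rw [one_smul, one_smul, Matrix.map_add _ (map_add _), Matrix.map_one _ (map_zero _) (map_one _)]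
      congr 1
      ext i j
      rw [Matrix.map_apply, Matrix.vecMulVec_apply, Matrix.vecMulVec_apply, map_mul, RingHom.map_mulVec, hJ]
      rfl
    rw [this]; exact hfix _ ⟨_, rfl⟩
  obtain ⟨g, τ, hy⟩ : y ∈ semiAuts m F := by
    by_cases h4 : m = 2 ∧ r = 2
    · obtain ⟨rfl, rfl⟩ := h4
      obtain ⟨g, τ, h | h⟩ := CfsgLib.AutPSp.aut_decomposition_two (hs rfl) y
      · exact ⟨g, τ, h⟩
      · exfalso
        have e : (fun i => ((CfsgLib.AutPSp.eVec (F := ↥(fixedField σ)) (0 : Fin 2)) i : F)) = CfsgLib.AutPSp.eVec (0 : Fin 2) := by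
          funext i; simp [CfsgLib.AutPSp.eVec, Pi.single_apply, apply_ite (Subtype.val)]
        have h1 := hT (CfsgLib.AutPSp.eVec 0)
        rw [e] at h1
        have h2 := DFunLike.congr_fun h (T (CfsgLib.AutPSp.eVec (0 : Fin 2)) 1)
        rw [MulAut.mul_apply, h1, MulAut.mul_apply, CfsgLib.AutPSp.fieldAut_T,
          CfsgLib.AutPSp.simAut_T (CfsgLib.AutPSp.mult_spec g)] at h2
        exact CfsgLib.AutPSp.short_frame_ne_tv one_ne_zero _ _
          (CfsgLib.AutPSp.mk_inj_two (((congrArg QuotientGroup.mk (CfsgLib.AutPSp.graphSp_tv_frame (1 : F))).symm.trans h2)))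
    · obtain ⟨g, τ, h⟩ := CfsgLib.AutPSp.aut_decomposition r hm (fun e e' => h4 ⟨e, e'⟩) y
      exact ⟨g, τ, h⟩
  let τv : (Fin m ⊕ Fin m → F) → Fin m ⊕ Fin m → F := fun v i => τ (v i)
  have key : ∀ v : Fin m ⊕ Fin m → ↥(fixedField σ), v ≠ 0 →
      ∃ a : F, gMat g *ᵥ τv (fun i => (v i : F)) = a • fun i => (v i : F) := by
    intro v hv
    have hv' : (fun i => (v i : F)) ≠ 0 := fun h0 => hv (funext fun i => Subtype.ext (congrFun h0 i))
    have h1 := hT v
    rw [hy, MulAut.mul_apply, CfsgLib.AutPSp.fieldAut_T, CfsgLib.AutPSp.simAut_T (CfsgLib.AutPSp.mult_spec g),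
      map_one] at h1
    obtain ⟨α, hα, -, hvec, -⟩ := CfsgLib.AutPSp.T_eq_T r hv' one_ne_zero h1.symm
    exact ⟨α⁻¹, by conv_rhs => rw [hvec, inv_smul_smul₀ hα]⟩
  choose! a ha using key
  let d : Fin m ⊕ Fin m → F := fun i => a (Pi.single i 1)
  have hG : gMat g = Matrix.diagonal d := by
    ext i j
    have h1 := congrFun (ha (Pi.single j 1) (by simp)) i
    have e : τv (fun k => ((Pi.single j (1 : ↥(fixedField σ)) : Fin m ⊕ Fin m → _) k : F)) = Pi.single j 1 := by
      funext k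
      by_cases hk : k = j
      · subst hk; simp [τv]
      · simp [τv, hk]
    rw [e, Matrix.mulVec_single_one, Matrix.col_apply] at h1
    rw [h1, Matrix.diagonal_apply]
    by_cases hij : i = j
    · subst hij; simp [d]
    · simp [hij]
  have two : ∀ i j : Fin m ⊕ Fin m, i ≠ j → ∀ b : ↥(fixedField σ), d j * τ b = d i * (b : F) := by
    intro i j hij b
    set v : Fin m ⊕ Fin m → ↥(fixedField σ) := Pi.single i 1 + b • Pi.single j 1 with hvdef
    have hvi : v i = 1 := by simp [hvdef, hij]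
    have hvj : v j = b := by simp [hvdef, Ne.symm hij]
    have hv0 : v ≠ 0 := fun h0 => by simpa [hvi] using congrFun h0 i
    have hi := congrFun (ha v hv0) i
    have hj := congrFun (ha v hv0) j
    rw [hG, Matrix.mulVec_diagonal] at hi hj
    simp only [τv, hvi, hvj, OneMemClass.coe_one, map_one, mul_one, Pi.smul_apply, smul_eq_mul] at hi hj
    rw [hj, hi]
  have hd : ∀ i j, d i = d j := fun i j => by
    by_cases hij : i = j
    · rw [hij]
    · simpa using (two i j hij 1).symm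
  let i₀ : Fin m ⊕ Fin m := Sum.inl ⟨0, by omega⟩
  have hd0 : d i₀ ≠ 0 := by
    intro h0
    apply (g : GL (Fin m ⊕ Fin m) F).det.ne_zero
    show (gMat g).det = 0
    rw [hG, Matrix.det_diagonal]
    exact Finset.prod_eq_zero (Finset.mem_univ i₀) h0
  have hg : g = scalarSim (Units.mk0 _ hd0) := gsp_ext (by
    rw [CfsgLib.AutPSp.scalarSim_coe, hG, Matrix.smul_one_eq_diagonal]
    exact congrArg Matrix.diagonal (funext fun i => hd i i₀))
  rw [hy, hg, CfsgLib.AutPSp.simAut_scalarSim, one_mul, ← MonoidHom.map_zpowers]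
  refine Subgroup.mem_map_of_mem _ (mem_zpowers_of_fix σ τ fun b hb => ?_)
  have := two i₀ (Sum.inr ⟨0, by omega⟩) (by simp [i₀]) ⟨b, hb⟩
  rw [hd (Sum.inr _) i₀] at this
  exact mul_left_cancel₀ hd0 this

theorem witness {r p : ℕ} [Fact r.Prime] [CharP F r] [Fact p.Prime] (hm : 2 ≤ m)
    (hs : m = 2 → 3 ≤ Fintype.card F) (hpr : p ≠ r)
    (hdvd : p ∣ Nat.card ↥(fixPts (fieldAut σ : MulAut (Cfsg.PSp m F)))) :
    Witness p (fieldAut σ : MulAut (Cfsg.PSp m F)) (baseHom (m := m) (fixedField σ).subtype).range := by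
  refine ⟨?_, ?_, ?_, fun y _ hy => cent_range σ (r := r) hm hs y hy⟩
  · rintro _ ⟨s, rfl⟩; exact fix_baseHom σ s
  · rintro k hk _ ⟨s, rfl⟩
    obtain ⟨A, hA⟩ := conj_fixed σ (by omega) hk
    exact ⟨CfsgLib.AutPSp.conjSp A s, by rw [← sim_baseHom, ← hA, MulAut.conj_apply]⟩
  · refine core_range σ hm hpr (prime_dvd_range σ (by omega) (fun hp h2 => hpr ?_) hdvd)
    subst hp
    exact ((Nat.prime_dvd_prime_iff_eq Fact.out Nat.prime_two).mp
      ((CharP.cast_eq_zero_iff F r 2).mp (by exact_mod_cast h2))).symm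

end Witness

/-- S2730. -/
theorem psp_local_balance {r : ℕ} [Fact r.Prime] [CharP F r] (hm : 2 ≤ m) (hs : m = 2 → 3 ≤ Fintype.card F)
    {A : Subgroup (MulAut (Cfsg.PSp m F))} (hinn : ∀ k : Cfsg.PSp m F, MulAut.conj k ∈ A) {p : ℕ} [Fact p.Prime]
    (hpr : p ≠ r) {x : MulAut (Cfsg.PSp m F)} (hord : orderOf x = p) (hnot : ¬ Cfsg.IsInnerDiagonalAutPSp x) :
    Cfsg.pPrimeCore p ↥(A ⊓ Subgroup.centralizer {x}) ≠ ⊥ ↔
      (Cfsg.IsFieldAutClassPSp x ∧ Nat.Coprime p (Nat.card ↥(fixPts x))) := by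
  haveI : Finite (Cfsg.PSp m F) := Quotient.finite _
  obtain ⟨h, σ, hσ, hx⟩ := exists_field_conj (r := r) hm hs hpr hord hnot
  have hZ := center_PSp (F := F) (m := m) (by omega)
  have hcl : Cfsg.IsFieldAutClassPSp x := ⟨(simAut h)⁻¹, σ, fun h1 => (Fact.out : p.Prime).ne_one
    (by rw [← hσ, h1]; exact orderOf_one), CfsgLib.AutPSp.isStdFieldAutPSp_iff.mpr (by rw [hx]; group)⟩
  have hdvd : ∀ k, k ∈ fixPts x ↔ (simAut h)⁻¹ k ∈ fixPts (fieldAut σ : MulAut (Cfsg.PSp m F)) := fun k => by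
    rw [mem_fixPts, mem_fixPts, hx]
    show simAut h (fieldAut σ ((simAut h)⁻¹ k)) = k ↔ _
    rw [← (simAut h).apply_eq_iff_eq (x := fieldAut σ ((simAut h)⁻¹ k)) (y := (simAut h)⁻¹ k), MulAut.apply_inv_self]
  refine ⟨fun hne => ⟨hcl, ?_⟩, fun ⟨_, hcop⟩ => pPrimeCore_ne_bot hZ hinn ?_ hcop⟩
  · by_contra hc
    rw [(Fact.out : p.Prime).coprime_iff_not_dvd, not_not,
      Nat.card_congr ((simAut h)⁻¹.toEquiv.subtypeEquiv hdvd)] at hc
    exact hne (hx ▸ ((witness σ (r := r) hm hs hpr hc).map (simAut h)).pPrimeCore_eq_bot hZ hinn (hx ▸ hord))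
  · intro hbot
    let i₀ : Fin m := ⟨0, by omega⟩
    have hmem : T (Pi.single (Sum.inl i₀) (1 : F)) 1 ∈ fixPts (fieldAut σ : MulAut (Cfsg.PSp m F)) := by
      rw [mem_fixPts, CfsgLib.AutPSp.fieldAut_T, map_one]
      congr 1
      funext i
      by_cases hi : i = Sum.inl i₀
      · subst hi; simp
      · simp [hi]
    have h1 : simAut h (T (Pi.single (Sum.inl i₀) (1 : F)) 1) ∈ fixPts x := by
      rw [hdvd, MulAut.inv_apply_self]; exact hmem
    rw [hbot, Subgroup.mem_bot, MulEquiv.map_eq_one_iff] at h1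
    have h2 := (QuotientGroup.eq_one_iff _).mp h1
    obtain ⟨a, -, ha⟩ := mem_center_iff.mp h2
    have h3 := congrFun (ha (Pi.single (Sum.inr i₀) 1)) (Sum.inl i₀)
    simp [tv_smul, form_single_inl] at h3

end CfsgLib.LocalBalance
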