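import Mathlib
import Cfsg.Agent.Lib.LocalBalance.PSLBasic
import Cfsg.Agent.Lib.LocalBalance.PSp
import Cfsg.Agent.Lib.AutPSL.FieldCentral
import Cfsg.Agent.Lib.Linear.Simple

/-!
Local balance witness for field automorphisms of `PSL_n`.
-/

set_option autoImplicit false
set_option maxHeartbeats 800000

namespace CfsgLib.LocalBalance

open Matrix Cfsg MulAction
open CfsgLib.AutPSL (SLg PSLg diagAut fieldAut itAut conjSL conjSL_coe itGL fixedField mem_fixedField baseGL
  projCentralizer)
open scoped LinearAlgebra.Projectivization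

variable {n : ℕ} {F : Type*} [Field F] [Fintype F] (σ : F ≃+* F)

/-- `SL_n` of the fixed field inside `PSL_n`. -/
def baseSL : SLg n ↥(fixedField σ) →* PSLg n F :=
  (QuotientGroup.mk' (Subgroup.center (SLg n F))).comp (Matrix.SpecialLinearGroup.map (fixedField σ).subtype)

theorem baseSL_coe (a : SLg n ↥(fixedField σ)) :
    (Matrix.SpecialLinearGroup.map (fixedField σ).subtype a).1 = a.1.map (fixedField σ).subtype := rfl

theorem baseSL_eq_one_iff (hn : 1 ≤ n) (a : SLg n ↥(fixedField σ)) :
    baseSL σ a = 1 ↔ ∃ c : ↥(fixedField σ), a.1 = c • (1 : Matrix (Fin n) (Fin n) ↥(fixedField σ)) := by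
  refine (psl_mk_one_iff _).trans ⟨?_, ?_⟩
  · rintro ⟨e, he⟩
    let i₀ : Fin n := ⟨0, hn⟩
    refine ⟨a.1 i₀ i₀, Matrix.ext fun i k => Subtype.ext ?_⟩
    have h0 := congrFun (congrFun he i₀) i₀
    have hik := congrFun (congrFun he i) k
    simp only [Matrix.smul_apply, Matrix.one_apply_eq, smul_eq_mul, mul_one] at h0
    by_cases h : i = k
    · subst h
      simp only [Matrix.smul_apply, Matrix.one_apply_eq, smul_eq_mul, mul_one] at hik ⊢
      exact hik.trans h0.symm
    · simp only [Matrix.smul_apply, Matrix.one_apply_ne h, smul_eq_mul, mul_zero] at hik ⊢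
      exact hik
  · rintro ⟨c, hc⟩
    refine ⟨(c : F), ?_⟩
    rw [baseSL_coe, hc]
    ext i k
    by_cases h : i = k
    · subst h; simp
    · simp [h]

theorem baseSL_fixed (a : SLg n ↥(fixedField σ)) :
    (fieldAut σ : MulAut (PSLg n F)) (baseSL σ a) = baseSL σ a := by
  show (fieldAut σ : MulAut (PSLg n F)) (QuotientGroup.mk _) = QuotientGroup.mk _
  rw [CfsgLib.AutPSL.fieldAut_mk]
  refine congrArg _ (Subtype.ext ?_)
  rw [CfsgLib.AutPSL.fieldSL_coe, baseSL_coe]
  ext i k
  exact (mem_fixedField σ).mp (a.1 i k).2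

theorem field_normal (hn : 2 ≤ n) {k : PSLg n F} (hk : k ∈ fixPts (fieldAut σ : MulAut (PSLg n F))) {l : PSLg n F}
    (hl : l ∈ (baseSL (n := n) σ).range) : k * l * k⁻¹ ∈ (baseSL (n := n) σ).range := by
  obtain ⟨s, rfl⟩ := hl
  obtain ⟨A, rfl⟩ := QuotientGroup.mk_surjective k
  have hmem : Matrix.SpecialLinearGroup.toGL A ∈ projCentralizer (fieldAut σ : MulAut (PSLg n F)) := by
    refine CfsgLib.AutPSL.mem_projCentralizer.mpr ?_
    rw [CfsgLib.AutPSL.diagAut_toGL]
    have h := mul_conj (fieldAut σ) (QuotientGroup.mk A : PSLg n F)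
    rw [mem_fixPts.mp hk, mul_inv_eq_iff_eq_mul] at h
    exact h.symm
  rw [CfsgLib.AutPSL.projCentralizer_field_eq hn σ (fixedField σ).subtype (fun a => (mem_fixedField σ).mp a.2)
    (fun y hy => ⟨⟨y, hy⟩, rfl⟩)] at hmem
  haveI hsc : ((Matrix.GeneralLinearGroup.scalar (R := F) (Fin n)).range).Normal := by
    rw [← Matrix.GeneralLinearGroup.center_eq_range_scalar]; infer_instance
  obtain ⟨_, ⟨u, rfl⟩, _, ⟨A₀, rfl⟩, hA⟩ := Subgroup.mem_sup_of_normal_left.mp hmem
  refine ⟨conjSL A₀ s, ?_⟩
  have h1 : MulAut.conj (QuotientGroup.mk A : PSLg n F) =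
      diagAut (baseGL (fixedField σ).subtype A₀) := by
    rw [← CfsgLib.AutPSL.diagAut_toGL, ← hA, map_mul]
    show CfsgLib.AutPSL.descend (conjSL _) * _ = _
    rw [CfsgLib.AutPSL.conjSL_scalar, map_one, one_mul]
  rw [← MulAut.conj_apply, h1]
  show (QuotientGroup.mk _ : PSLg n F) = diagAut _ (QuotientGroup.mk _)
  rw [CfsgLib.AutPSL.diagAut_mk]
  refine congrArg _ (Subtype.ext ?_)
  rw [baseSL_coe, conjSL_coe, conjSL_coe, baseSL_coe, Matrix.map_mul, Matrix.map_mul, ← map_inv]
  rfl

theorem prime_dvd_base (hn : 2 ≤ n) {r p : ℕ} [CharP F r] [Fact r.Prime] [Fact p.Prime] (hpr : p ≠ r)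
    (hdvd : p ∣ Nat.card ↥(fixPts (fieldAut σ : MulAut (PSLg n F)))) :
    p ∣ Nat.card ↥(baseSL (n := n) σ).range ∧ p ∣ Nat.card (GL (Fin n) ↥(fixedField σ)) := by
  classical
  letI : Fintype ↥(fixedField σ) := Fintype.ofFinite _
  haveI : CharP ↥(fixedField σ) r := ((fixedField σ).subtype.charP_iff (fixedField σ).subtype.injective r).mpr ‹_›
  have hGL : p ∣ Nat.card (GL (Fin n) ↥(fixedField σ)) := by
    obtain ⟨e⟩ := CfsgLib.AutPSL.centralizer_field_equiv (n := n) hn σ (fixedField σ).subtype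
      (fun a => (mem_fixedField σ).mp a.2) (fun y hy => ⟨⟨y, hy⟩, rfl⟩)
    let C := Cfsg.inndiagPSL n F ⊓ Subgroup.centralizer {(fieldAut σ : MulAut (PSLg n F))}
    let φ : ↥(fixPts (fieldAut σ : MulAut (PSLg n F))) →* ↥C :=
      ((MulAut.conj : PSLg n F →* MulAut (PSLg n F)).comp (fixPts _).subtype).codRestrict C fun k =>
        ⟨(CfsgLib.AutPSL.mem_inndiag_iff).mpr (by
          obtain ⟨A, hA⟩ := QuotientGroup.mk_surjective (k.1)
          exact ⟨Matrix.SpecialLinearGroup.toGL A, by
            show _ = MulAut.conj k.1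
            rw [CfsgLib.AutPSL.diagAut_toGL]; exact congrArg _ hA⟩),
          (conj_mem (A := ⊤) (fun _ => Subgroup.mem_top _) k.2).2⟩
    have h1 : Nat.card ↥(fixPts (fieldAut σ : MulAut (PSLg n F))) ∣ Nat.card ↥C :=
      Subgroup.card_dvd_of_injective φ fun a b h =>
        Subtype.ext (conj_injective (psl_center hn) (congrArg Subtype.val h))
    refine hdvd.trans (h1.trans ?_)
    rw [Nat.card_congr e.toEquiv]
    exact Subgroup.card_quotient_dvd_card _
  refine ⟨?_, hGL⟩
  obtain ⟨y, hy⟩ := exists_prime_orderOf_dvd_card' p hGL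
  have mkdvd : ∀ a : SLg n ↥(fixedField σ), a ^ p = 1 → baseSL σ a ≠ 1 → p ∣ Nat.card ↥(baseSL (n := n) σ).range := by
    intro a h1 h2
    have ho : orderOf (baseSL σ a) = p := orderOf_eq_prime (by rw [← map_pow, h1, map_one]) h2
    exact ho ▸ Subgroup.orderOf_dvd_natCard _ ⟨a, rfl⟩
  have unitcase : ∀ a : (↥(fixedField σ))ˣ, orderOf a = p → p ∣ Nat.card ↥(baseSL (n := n) σ).range := by
    intro a ha
    let i₀ : Fin n := ⟨0, by omega⟩
    let i₁ : Fin n := ⟨1, by omega⟩
    have h01 : i₀ ≠ i₁ := by simp [i₀, i₁, Fin.ext_iff]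
    by_cases h22 : n = 2 ∧ p = 2
    · obtain ⟨rfl, rfl⟩ := h22
      let J : SLg 2 ↥(fixedField σ) := ⟨!![0, 1; -1, 0], by simp [Matrix.det_fin_two_of]⟩
      have hJ : (J ^ 2).1 = (-1 : ↥(fixedField σ)) • 1 := by
        rw [pow_two, Matrix.SpecialLinearGroup.coe_mul]
        ext i k
        fin_cases i <;> fin_cases k <;> simp [J, Matrix.mul_apply, Fin.sum_univ_two]
      have ho : orderOf (baseSL σ J) = 2 := by
        refine orderOf_eq_prime ?_ fun h => ?_
        · rw [← map_pow]; exact (baseSL_eq_one_iff σ (by omega) _).mpr ⟨_, hJ⟩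
        · obtain ⟨c, hc⟩ := (baseSL_eq_one_iff σ (by omega) _).mp h
          have h1 := congrFun (congrFun hc 0) 1
          simp [J] at h1
      have h5 := Subgroup.orderOf_dvd_natCard (baseSL (n := 2) σ).range (x := baseSL σ J) ⟨J, rfl⟩
      rwa [ho] at h5
    let w : Fin n → ↥(fixedField σ) := Function.update (Function.update (fun _ => 1) i₀ (a : ↥(fixedField σ))) i₁
      ((a⁻¹ : (↥(fixedField σ))ˣ) : ↥(fixedField σ))
    have hw : (Matrix.diagonal w).det = 1 := by
      rw [Matrix.det_diagonal, ← Finset.prod_subset (Finset.subset_univ ({i₀, i₁} : Finset (Fin n)))]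
      · rw [Finset.prod_pair h01]; simp [w, h01]
      · intro x _ hx
        simp only [Finset.mem_insert, Finset.mem_singleton, not_or] at hx
        simp [w, hx.1, hx.2]
    refine mkdvd ⟨_, hw⟩ (Subtype.ext ?_) fun h => ?_
    · show (Matrix.diagonal w) ^ p = 1
      rw [Matrix.diagonal_pow, ← Matrix.diagonal_one]
      refine congrArg _ (funext fun i => ?_)
      simp only [Pi.pow_apply, w]
      by_cases h1 : i = i₁
      · subst h1
        rw [Function.update_self, ← Units.val_pow_eq_pow_val, inv_pow, ← ha, pow_orderOf_eq_one, inv_one, Units.val_one]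
      · rw [Function.update_of_ne h1]
        by_cases h0 : i = i₀
        · subst h0
          rw [Function.update_self, ← Units.val_pow_eq_pow_val, ← ha, pow_orderOf_eq_one, Units.val_one]
        · rw [Function.update_of_ne h0, one_pow]
    · obtain ⟨c, hc⟩ := (baseSL_eq_one_iff σ (by omega) _).mp h
      have e0 := congrFun (congrFun hc i₀) i₀
      have e1 := congrFun (congrFun hc i₁) i₁
      simp [w, h01] at e0 e1
      have hne1 : a ≠ 1 := fun h1 => (Fact.out : p.Prime).ne_one (by rw [← ha, h1, orderOf_one])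
      have haa : a = a⁻¹ := Units.ext (by rw [Units.val_inv_eq_inv_val]; exact e0.trans e1.symm)
      have h2 : a ^ 2 = 1 := by rw [pow_two]; exact mul_eq_one_iff_eq_inv.mpr haa
      have hp2 : p = 2 := by
        have := orderOf_dvd_of_pow_eq_one h2
        rw [ha] at this
        exact (Nat.prime_dvd_prime_iff_eq Fact.out Nat.prime_two).mp this
      have hn2 : n ≠ 2 := fun hn2 => h22 ⟨hn2, hp2⟩
      let i₂ : Fin n := ⟨2, by omega⟩
      have e2 := congrFun (congrFun hc i₂) i₂
      simp [w, show i₂ ≠ i₀ by simp [i₀, i₂, Fin.ext_iff], show i₂ ≠ i₁ by simp [i₁, i₂, Fin.ext_iff]] at e2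
      exact hne1 (Units.ext (by rw [Units.val_one]; exact e0.trans e2.symm))
  by_cases hdet : Matrix.GeneralLinearGroup.det y = 1
  · let s : SLg n ↥(fixedField σ) := ⟨y.1, by
      have := congrArg Units.val hdet
      rwa [Matrix.GeneralLinearGroup.val_det_apply] at this⟩
    have hsp : s ^ p = 1 := Subtype.ext (by
      rw [Matrix.SpecialLinearGroup.coe_pow]
      show y.1 ^ p = 1
      rw [← Units.val_pow_eq_pow_val, ← hy, pow_orderOf_eq_one, Units.val_one])
    by_cases hs1 : baseSL σ s = 1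
    · obtain ⟨c, hc⟩ := (baseSL_eq_one_iff σ (by omega) _).mp hs1
      have hc' : y.1 = c • (1 : Matrix (Fin n) (Fin n) ↥(fixedField σ)) := hc
      haveI : Nonempty (Fin n) := ⟨⟨0, by omega⟩⟩
      have hc0 : c ≠ 0 := fun h0 => Matrix.GeneralLinearGroup.det_ne_zero y (by
        rw [hc', h0, zero_smul, Matrix.det_zero])
      refine unitcase (Units.mk0 c hc0) (orderOf_eq_prime ?_ fun h1 => ?_)
      · have h2 := congrArg (fun M : Matrix (Fin n) (Fin n) ↥(fixedField σ) => M ⟨0, by omega⟩ ⟨0, by omega⟩)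
          (show y.1 ^ p = 1 by rw [← Units.val_pow_eq_pow_val, ← hy, pow_orderOf_eq_one, Units.val_one])
        simp only [hc', smul_pow, one_pow, Matrix.smul_apply, Matrix.one_apply_eq, smul_eq_mul, mul_one] at h2
        exact Units.ext (by rw [Units.val_pow_eq_pow_val, Units.val_mk0, Units.val_one]; exact h2)
      · have h2 : c = 1 := by simpa using congrArg Units.val h1
        have h3 : y = 1 := Units.ext (by rw [hc', h2, one_smul, Units.val_one])
        rw [h3, orderOf_one] at hy
        exact (Fact.out : p.Prime).ne_one hy.symm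
    · exact mkdvd s hsp hs1
  · exact unitcase _ (orderOf_eq_prime (by rw [← map_pow, ← hy, pow_orderOf_eq_one, map_one]) hdet)

theorem core_base (hn : 2 ≤ n) {r p : ℕ} [CharP F r] [Fact r.Prime] [Fact p.Prime] (hpr : p ≠ r)
    (hdvd : p ∣ Nat.card ↥(baseSL (n := n) σ).range) (hGL : p ∣ Nat.card (GL (Fin n) ↥(fixedField σ)))
    (M : Subgroup ↥(baseSL (n := n) σ).range) (hM : M.Normal) (hcop : (Nat.card ↥M).Coprime p) : M = ⊥ := by
  classical
  letI : Fintype ↥(fixedField σ) := Fintype.ofFinite _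
  haveI : CharP ↥(fixedField σ) r := ((fixedField σ).subtype.charP_iff (fixedField σ).subtype.injective r).mpr ‹_›
  let K₀ := PSLg n ↥(fixedField σ)
  have hker : Subgroup.center (SLg n ↥(fixedField σ)) ≤ (baseSL (n := n) σ).ker := by
    intro c hc
    obtain ⟨e, -, he⟩ := Matrix.SpecialLinearGroup.mem_center_iff.mp hc
    refine (baseSL_eq_one_iff σ (by omega) c).mpr ⟨e, ?_⟩
    rw [← he, Matrix.scalar_apply, Matrix.smul_one_eq_diagonal]
  let θ : PSLg n ↥(fixedField σ) →* PSLg n F := QuotientGroup.lift _ (baseSL (n := n) σ) hker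
  have hrange : ∀ x : ↥(baseSL (n := n) σ).range, ∃ z, θ z = x.1 := fun ⟨_, a, rfl⟩ => ⟨QuotientGroup.mk a, rfl⟩
  let θr : PSLg n ↥(fixedField σ) →* ↥(baseSL (n := n) σ).range :=
    θ.codRestrict _ fun z => by obtain ⟨a, rfl⟩ := QuotientGroup.mk_surjective z; exact ⟨a, rfl⟩
  have hsurj : Function.Surjective θr := fun x => (hrange x).imp fun z hz => Subtype.ext hz
  have hinj : Function.Injective θr := by
    refine (injective_iff_map_eq_one _).mpr fun z hz => ?_
    obtain ⟨a, rfl⟩ := QuotientGroup.mk_surjective z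
    obtain ⟨c, hc⟩ := (baseSL_eq_one_iff σ (by omega) a).mp (congrArg Subtype.val hz)
    exact psl_mk_eq_one hc
  let e : PSLg n ↥(fixedField σ) ≃* ↥(baseSL (n := n) σ).range := MulEquiv.ofBijective θr ⟨hinj, hsurj⟩
  let M₀ := M.map e.symm.toMonoidHom
  haveI hM₀ : M₀.Normal := hM.map _ e.symm.surjective
  have hcop₀ : (Nat.card ↥M₀).Coprime p := by
    rw [Subgroup.card_map_of_injective e.symm.injective]; exact hcop
  suffices h : M₀ = ⊥ from (Subgroup.map_eq_bot_iff_of_injective _ e.symm.injective).mp h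
  have hdvd₀ : p ∣ Nat.card (PSLg n ↥(fixedField σ)) := by rw [Nat.card_congr e.toEquiv]; exact hdvd
  by_cases hbig : n = 2 → 4 ≤ Nat.card ↥(fixedField σ)
  · haveI := CfsgLib.Linear.isSimpleGroup_PSL_fin (F := ↥(fixedField σ)) n hn hbig
    refine (hM₀.eq_bot_or_eq_top).resolve_right fun ht => ?_
    rw [ht, Subgroup.card_top] at hcop₀
    exact (Fact.out : p.Prime).ne_one (Nat.eq_one_of_dvd_coprimes hcop₀ hdvd₀ dvd_rfl)
  · push Not at hbig
    obtain ⟨rfl, hq⟩ := hbig
    by_cases hfix : fixedPoints ↥M₀ (ℙ ↥(fixedField σ) (Fin 2 → ↥(fixedField σ))) = Set.univ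
    · refine (Subgroup.eq_bot_iff_forall _).mpr fun x hx => FaithfulSMul.eq_of_smul_eq_smul
        (α := ℙ ↥(fixedField σ) (Fin 2 → ↥(fixedField σ))) fun P => ?_
      rw [one_smul]
      exact mem_fixedPoints.1 (hfix.ge (Set.mem_univ P)) ⟨x, hx⟩
    · exfalso
      haveI := IsQuasiPreprimitive.isPretransitive_of_normal (G := PSLg 2 ↥(fixedField σ)) (N := M₀) hfix
      let P : ℙ ↥(fixedField σ) (Fin 2 → ↥(fixedField σ)) := Projectivization.mk _ (Pi.single 0 1) (by simp)
      have hP : Nat.card (ℙ ↥(fixedField σ) (Fin 2 → ↥(fixedField σ))) = Fintype.card ↥(fixedField σ) + 1 := by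
        rw [Projectivization.card'', Nat.card_fun, Nat.card_eq_fintype_card, Nat.card_eq_fintype_card,
          Fintype.card_fin]
        have := Fintype.one_lt_card (α := ↥(fixedField σ))
        rw [Nat.div_eq_iff_eq_mul_left (by omega)]
        · zify [Nat.one_le_pow 2 _ (by omega : 0 < Fintype.card ↥(fixedField σ)), (by omega : 1 ≤ Fintype.card ↥(fixedField σ))]
          ring
        · exact ⟨Fintype.card ↥(fixedField σ) + 1, by
            zify [Nat.one_le_pow 2 _ (by omega : 0 < Fintype.card ↥(fixedField σ)), (by omega : 1 ≤ Fintype.card ↥(fixedField σ))]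
            ring⟩
      have hdiv : Fintype.card ↥(fixedField σ) + 1 ∣ Nat.card ↥M₀ := by
        rw [← hP, ← MulAction.index_stabilizer_of_transitive (↥M₀) P]
        exact Subgroup.index_dvd_card _
      have hr : r ∣ Fintype.card ↥(fixedField σ) := by
        rw [← CharP.cast_eq_zero_iff ↥(fixedField σ) r]; exact FiniteField.cast_card_eq_zero _
      have hp : p ∣ Fintype.card ↥(fixedField σ) + 1 := by
        have h1 := Fintype.one_lt_card (α := ↥(fixedField σ))
        rw [Nat.card_eq_fintype_card] at hq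
        rw [Matrix.card_GL_field, Fin.prod_univ_two] at hGL
        have hpp : p.Prime := Fact.out
        have hrp : r.Prime := Fact.out
        rcases (show Fintype.card ↥(fixedField σ) = 2 ∨ Fintype.card ↥(fixedField σ) = 3 by omega) with h | h
        · rw [h] at hGL hr ⊢
          obtain rfl := (Nat.prime_dvd_prime_iff_eq hrp Nat.prime_two).mp hr
          norm_num at hGL
          rcases (Nat.Prime.dvd_mul hpp).mp (show p ∣ 2 * 3 by simpa using hGL) with h' | h'
          · exact absurd ((Nat.prime_dvd_prime_iff_eq hpp Nat.prime_two).mp h') hpr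
          · exact h'
        · rw [h] at hGL hr ⊢
          obtain rfl := (Nat.prime_dvd_prime_iff_eq hrp Nat.prime_three).mp hr
          norm_num at hGL
          rcases (Nat.Prime.dvd_mul hpp).mp (show p ∣ 16 * 3 by simpa using hGL) with h' | h'
          · exact (hpp.dvd_of_dvd_pow (show p ∣ 2 ^ 4 by simpa using h')).trans (by norm_num)
          · exact absurd ((Nat.prime_dvd_prime_iff_eq hpp Nat.prime_three).mp h') hpr
      exact (Fact.out : p.Prime).ne_one (Nat.eq_one_of_dvd_coprimes hcop₀ (hp.trans hdiv) dvd_rfl)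

theorem cent_base (hn : 2 ≤ n) (y : MulAut (PSLg n F)) (hy : ∀ l ∈ (baseSL (n := n) σ).range, y l = l) :
    y ∈ Subgroup.zpowers (fieldAut σ : MulAut (PSLg n F)) := by
  have hroot : ∀ (i k : Fin n) (hik : i ≠ k) (x : ↥(fixedField σ)),
      Matrix.SpecialLinearGroup.map (fixedField σ).subtype (Matrix.SpecialLinearGroup.transvection hik x) =
        Matrix.SpecialLinearGroup.transvection hik (x : F) := by
    intro i k hik x
    refine Subtype.ext ?_
    rw [baseSL_coe, Matrix.SpecialLinearGroup.transvection_coe, Matrix.SpecialLinearGroup.transvection_coe,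
      Matrix.map_add _ (map_add _), Matrix.map_one _ (map_zero _) (map_one _), Matrix.map_single]
    rfl
  have hyfix : ∀ (i k : Fin n) (hik : i ≠ k) (x : ↥(fixedField σ)),
      y (QuotientGroup.mk (Matrix.SpecialLinearGroup.transvection hik (x : F))) =
        QuotientGroup.mk (Matrix.SpecialLinearGroup.transvection hik (x : F)) := by
    intro i k hik x
    rw [← hroot]
    exact hy _ ⟨_, rfl⟩
  obtain ⟨g, τ, h | ⟨h3, h⟩⟩ := CfsgLib.AutPSL.aut_decomposition hn y
  · obtain ⟨e, he, hτ⟩ := scalar_of_elementary hn (fixedField σ).subtype τ g.1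
      (Matrix.GeneralLinearGroup.det_ne_zero g) (fun i k hik x => by
        have h1 := hyfix i k hik x
        rw [h] at h1
        obtain ⟨lam, hl⟩ := semi_fix_rel h1
        refine ⟨lam, ?_⟩
        rw [Matrix.SpecialLinearGroup.transvection_coe, Matrix.map_add τ (map_add τ),
          Matrix.map_one τ (map_zero τ) (map_one τ), Matrix.map_single] at hl
        exact hl)
    have hg : (diagAut g : MulAut (PSLg n F)) = 1 := by
      have h1 := semi_eq_one (τ := (1 : F ≃+* F)) he fun _ => rfl
      rwa [map_one, mul_one] at h1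
    rw [h, hg, one_mul, ← MonoidHom.map_zpowers]
    exact Subgroup.mem_map_of_mem _ (mem_zpowers_of_fix σ τ fun b hb => hτ ⟨b, hb⟩)
  · exfalso
    have hcol : ∀ (i k : Fin n), i ≠ k → g.1 * Matrix.single k i (-1 : F) = Matrix.single i k 1 * g.1 := by
      intro i k hik
      have h1 := hyfix i k hik 1
      rw [h, MulAut.mul_apply, CfsgLib.AutPSL.itAut_mk] at h1
      rw [MulAut.mul_apply, CfsgLib.AutPSL.fieldAut_mk, CfsgLib.AutPSL.diagAut_mk] at h1
      obtain ⟨lam, hlam, hl⟩ := psl_mk_eq h1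
      rw [conjSL_coe, CfsgLib.AutPSL.fieldSL_coe, CfsgLib.AutPSL.itSL_coe,
        Matrix.SpecialLinearGroup.transvection_inv] at hl
      simp only [Matrix.SpecialLinearGroup.transvection_coe, OneMemClass.coe_one, Matrix.transpose_add,
        Matrix.transpose_one, Matrix.transpose_single, Matrix.map_add τ (map_add τ),
        Matrix.map_one τ (map_zero τ) (map_one τ), Matrix.map_single, map_neg, map_one] at hl
      refine comm_unipotent (Matrix.GeneralLinearGroup.det_ne_zero g) (lam := lam⁻¹)
        (Matrix.single_mul_single_of_ne (h := Ne.symm hik) ..) (Matrix.single_mul_single_of_ne (h := hik) ..) ?_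
      conv_rhs => rw [hl, Matrix.smul_mul, smul_smul, inv_mul_cancel₀ hlam, one_smul, Matrix.mul_assoc,
        Units.inv_mul, Matrix.mul_one]
    let a : Fin n := ⟨0, by omega⟩
    let b : Fin n := ⟨1, by omega⟩
    let c : Fin n := ⟨2, by omega⟩
    have hz : ∀ x, g.1 x a = 0 := by
      intro x
      by_cases hx : x = b
      · have := congrFun (congrFun (hcol c a (by simp [a, c, Fin.ext_iff])) x) c
        rw [Matrix.mul_single_apply_same, Matrix.single_mul_apply_of_ne
          (h := by rw [hx]; simp [b, c, Fin.ext_iff])] at this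
        simpa using this
      · have := congrFun (congrFun (hcol b a (by simp [a, b, Fin.ext_iff])) x) b
        rw [Matrix.mul_single_apply_same, Matrix.single_mul_apply_of_ne (h := hx)] at this
        simpa using this
    have := congrFun (congrFun g.inv_mul a) a
    rw [Matrix.mul_apply, Finset.sum_eq_zero (fun k _ => by rw [hz k, mul_zero]), Matrix.one_apply_eq] at this
    exact zero_ne_one this

/-- The witness of a field automorphism of order `p` whose centraliser has order divisible by `p`. -/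
theorem witness_field (hn : 2 ≤ n) {r p : ℕ} [CharP F r] [Fact r.Prime] [Fact p.Prime] (hpr : p ≠ r)
    (hdvd : p ∣ Nat.card ↥(fixPts (fieldAut σ : MulAut (PSLg n F)))) :
    Witness p (fieldAut σ : MulAut (PSLg n F)) (baseSL (n := n) σ).range := by
  obtain ⟨h1, h2⟩ := prime_dvd_base σ hn hpr hdvd
  refine ⟨?_, fun k hk l hl => field_normal σ hn hk hl, core_base σ hn hpr h1 h2, fun y _ hy => cent_base σ hn y hy⟩
  rintro _ ⟨a, rfl⟩
  exact baseSL_fixed σ a

end CfsgLib.LocalBalance
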