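import Mathlib

/-!
Reflections of hermitian and symmetric forms in odd characteristic.

* `mem_scalars`: a group of isometries normalised by every reflection, without non-scalar elements whose
  square is scalar, consists of scalars (so the isometry group has no odd normal subgroup modulo scalars).
* `semilinear_scalar`: a semilinear map commuting up to scalars with every product of two reflections of a
  form over a subfield is a scalar fixing the subfield.
-/

set_option autoImplicit false
set_option maxHeartbeats 800000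

namespace CfsgLib.LocalBalance

open Matrix

variable {n : ℕ} {F : Type*} [Field F]

/-- A nondegenerate hermitian (or symmetric, for trivial `σ`) form in characteristic not two, together with
the representation property of finite fields. -/
structure HForm (n : ℕ) (F : Type*) [Field F] where
  σ : F ≃+* F
  invol : ∀ a, σ (σ a) = a
  M : Matrix (Fin n) (Fin n) F
  herm : Mᵀ = M.map σ
  det_ne : M.det ≠ 0
  two : (2 : F) ≠ 0
  rep : ∀ t c d e : F, σ c = c → σ d = d → σ e = e → c ≠ 0 → d ≠ 0 → e ≠ 0 →
    ∃ α β : F, α * σ α * c + β * σ β * d = e ∧ σ (α * σ β * t) = α * σ β * t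

namespace HForm

variable (H : HForm n F)

/-- The form. -/
def form (x y : Fin n → F) : F := x ⬝ᵥ (H.M *ᵥ fun i => H.σ (y i))

theorem add_left (x x' y : Fin n → F) : H.form (x + x') y = H.form x y + H.form x' y := add_dotProduct _ _ _

theorem smul_left (a : F) (x y : Fin n → F) : H.form (a • x) y = a * H.form x y := smul_dotProduct _ _ _

theorem sub_left (x x' y : Fin n → F) : H.form (x - x') y = H.form x y - H.form x' y := sub_dotProduct _ _ _

theorem zero_left (y : Fin n → F) : H.form 0 y = 0 := zero_dotProduct _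

theorem conj_symm (x y : Fin n → F) : H.form y x = H.σ (H.form x y) := by
  have h : ∀ i j, H.σ (H.M i j) = H.M j i := fun i j => (congrFun (congrFun H.herm i) j).symm
  simp only [form, dotProduct, Matrix.mulVec, map_sum, map_mul, Finset.mul_sum, H.invol, h]
  rw [Finset.sum_comm]
  exact Finset.sum_congr rfl fun i _ => Finset.sum_congr rfl fun j _ => by ring

theorem add_right (x y y' : Fin n → F) : H.form x (y + y') = H.form x y + H.form x y' := by
  rw [H.conj_symm (y + y') x, H.add_left, map_add, ← H.conj_symm, ← H.conj_symm]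

theorem sub_right (x y y' : Fin n → F) : H.form x (y - y') = H.form x y - H.form x y' := by
  rw [H.conj_symm (y - y') x, H.sub_left, map_sub, ← H.conj_symm, ← H.conj_symm]

theorem smul_right (a : F) (x y : Fin n → F) : H.form x (a • y) = H.σ a * H.form x y := by
  rw [H.conj_symm (a • y) x, H.smul_left, map_mul, ← H.conj_symm]

theorem neg_left (x y : Fin n → F) : H.form (-x) y = -H.form x y := neg_dotProduct _ _

theorem neg_right (x y : Fin n → F) : H.form x (-y) = -H.form x y := by
  rw [H.conj_symm (-y) x, H.neg_left, map_neg, ← H.conj_symm]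

theorem zero_right (x : Fin n → F) : H.form x 0 = 0 := by rw [H.conj_symm 0 x, H.zero_left, map_zero]

theorem diag_fixed (x : Fin n → F) : H.σ (H.form x x) = H.form x x := (H.conj_symm x x).symm

theorem exists_form_ne_zero {x : Fin n → F} (hx : x ≠ 0) : ∃ y, H.form x y ≠ 0 := by
  by_contra! h
  refine hx (Matrix.eq_zero_of_vecMul_eq_zero H.det_ne (funext fun i => ?_))
  have h1 := h (Pi.single i 1)
  have e : (fun k => H.σ ((Pi.single i (1 : F) : Fin n → F) k)) = Pi.single i 1 := by
    funext k
    by_cases hk : k = i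
    · subst hk; simp
    · simp [hk]
  rw [form, e, Matrix.dotProduct_mulVec, dotProduct_single, mul_one] at h1
  exact h1

theorem exists_form_eq_one {x : Fin n → F} (hx : x ≠ 0) : ∃ y, H.form y x = 1 := by
  obtain ⟨y, hy⟩ := H.exists_form_ne_zero hx
  have : H.form y x ≠ 0 := by rw [H.conj_symm x y]; exact (map_ne_zero H.σ).mpr hy
  exact ⟨(H.form y x)⁻¹ • y, by rw [H.smul_left, inv_mul_cancel₀ this]⟩

/-- A totally isotropic subspace: the form vanishes on it. -/
theorem form_zero_of_isotropic (W : Submodule F (Fin n → F)) (hW : ∀ x ∈ W, H.form x x = 0) {x y : Fin n → F}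
    (hx : x ∈ W) (hy : y ∈ W) : H.form x y = 0 := by
  by_contra hne
  have h := hW _ (W.add_mem hy (W.smul_mem ((H.form x y)⁻¹) hx))
  rw [H.add_left, H.add_right, H.add_right, H.smul_left, H.smul_left, H.smul_right, H.smul_right, hW x hx, hW y hy,
    inv_mul_cancel₀ hne, H.conj_symm x y, ← map_mul, inv_mul_cancel₀ hne, map_one, mul_zero, mul_zero, zero_add,
    add_zero] at h
  exact H.two (by linear_combination h)

/-- A subspace orthogonal to few vectors contains an anisotropic vector. -/
theorem exists_aniso_perp (hn : 3 ≤ n) (v v' : Fin n → F) (hv : H.form v v ≠ 0) (hort : H.form v' v = 0)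
    (hv' : H.form v' v' ≠ 0 ∨ v' = 0) :
    ∃ x, H.form x v = 0 ∧ H.form x v' = 0 ∧ H.form x x ≠ 0 := by
  by_contra! hall
  let W : Submodule F (Fin n → F) :=
    { carrier := {x | H.form x v = 0 ∧ H.form x v' = 0}
      add_mem' := fun {a b} ha hb => ⟨by rw [H.add_left, ha.1, hb.1, add_zero], by rw [H.add_left, ha.2, hb.2, add_zero]⟩
      zero_mem' := ⟨H.zero_left _, H.zero_left _⟩
      smul_mem' := fun a x hx => ⟨by rw [H.smul_left, hx.1, mul_zero], by rw [H.smul_left, hx.2, mul_zero]⟩ }
  have hW : ∀ x ∈ W, H.form x x = 0 := fun x hx => hall x hx.1 hx.2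
  let π : (Fin n → F) → (Fin n → F) := fun x =>
    x - (H.form x v / H.form v v) • v - (H.form x v' / H.form v' v') • v'
  have hπ : ∀ x, π x ∈ W := fun x => by
    refine ⟨?_, ?_⟩
    · show H.form (π x) v = 0
      rw [H.sub_left, H.sub_left, H.smul_left, H.smul_left, hort, div_mul_cancel₀ _ hv]
      ring
    · show H.form (π x) v' = 0
      rw [H.sub_left, H.sub_left, H.smul_left, H.smul_left, H.conj_symm v' v, hort, map_zero]
      rcases hv' with h | h
      · rw [div_mul_cancel₀ _ h]; ring
      · rw [h, H.zero_right, H.zero_right]; ring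
  have hzero : ∀ x, π x = 0 := fun x => by
    by_contra hne
    obtain ⟨y, hy⟩ := H.exists_form_ne_zero hne
    apply hy
    have hy' : y = π y + ((H.form y v / H.form v v) • v + (H.form y v' / H.form v' v') • v') := by
      simp only [π]; abel
    rw [hy', H.add_right, H.add_right, H.smul_right, H.smul_right, H.form_zero_of_isotropic W hW (hπ x) (hπ y),
      (hπ x).1, (hπ x).2]
    ring
  have hspan : ∀ x, x ∈ Submodule.span F (Set.range ![v, v']) := fun x => by
    rw [show x = (H.form x v / H.form v v) • v + (H.form x v' / H.form v' v') • v' by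
      have h := hzero x
      simp only [π, sub_sub, sub_eq_zero] at h
      exact h]
    exact add_mem (Submodule.smul_mem _ _ (Submodule.subset_span ⟨0, rfl⟩))
      (Submodule.smul_mem _ _ (Submodule.subset_span ⟨1, rfl⟩))
  have h2 := finrank_range_le_card (R := F) ![v, v']
  rw [Set.finrank, Submodule.eq_top_iff'.mpr hspan, finrank_top, Module.finrank_pi, Fintype.card_fin,
    Fintype.card_fin] at h2
  omega

theorem exists_isotropic (hn : 3 ≤ n) : ∃ e, e ≠ 0 ∧ H.form e e = 0 := by
  by_contra! hno
  let v : Fin n → F := Pi.single ⟨0, by omega⟩ 1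
  have hv : H.form v v ≠ 0 := hno v (by simp [v])
  obtain ⟨v', hv'1, -, hv'2⟩ := H.exists_aniso_perp hn v 0 hv (H.zero_left _) (Or.inr rfl)
  obtain ⟨r, hr1, hr2, hr3⟩ := H.exists_aniso_perp hn v v' hv hv'1 (Or.inl hv'2)
  obtain ⟨α, β, hab, -⟩ := H.rep 0 (H.form v v) (H.form v' v') (-H.form r r) (H.diag_fixed v) (H.diag_fixed v')
    (by rw [map_neg, H.diag_fixed]) hv hv'2 (neg_ne_zero.mpr hr3)
  have hvr : H.form v r = 0 := by rw [H.conj_symm r v, hr1, map_zero]
  have hv'r : H.form v' r = 0 := by rw [H.conj_symm r v', hr2, map_zero]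
  have hvv' : H.form v v' = 0 := by rw [H.conj_symm v' v, hv'1, map_zero]
  refine hno (α • v + β • v' + r) (fun h0 => hr3 ?_) ?_
  · have := congrArg (fun x => H.form x r) h0
    simp only [H.add_left, H.smul_left, hvr, hv'r, H.zero_left, mul_zero, zero_add] at this
    exact this
  · simp only [H.add_left, H.add_right, H.smul_left, H.smul_right, hv'1, hr1, hr2, hvr, hv'r, hvv']
    linear_combination hab

/-! ### Reflections -/

/-- The matrix of the reflection in `v`. -/
def reflMat (v : Fin n → F) : Matrix (Fin n) (Fin n) F :=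
  1 + Matrix.vecMulVec ((-(2 / H.form v v)) • v) (H.M *ᵥ fun i => H.σ (v i))

theorem reflMat_apply (v x : Fin n → F) : H.reflMat v *ᵥ x = x - (2 / H.form v v * H.form x v) • v := by
  rw [reflMat, Matrix.add_mulVec, Matrix.one_mulVec, Matrix.vecMulVec_mulVec]
  funext i
  simp only [Pi.add_apply, Pi.smul_apply, Pi.sub_apply, smul_eq_mul, op_smul_eq_smul, form]
  rw [dotProduct_comm (H.M *ᵥ fun i => H.σ (v i)) x]
  ring

theorem reflMat_sq {v : Fin n → F} (hv : H.form v v ≠ 0) : H.reflMat v * H.reflMat v = 1 := by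
  refine Matrix.ext_iff_mulVec.mpr fun x => ?_
  rw [← Matrix.mulVec_mulVec, H.reflMat_apply, H.reflMat_apply, Matrix.one_mulVec, H.sub_left, H.smul_left]
  funext i
  simp only [Pi.sub_apply, Pi.smul_apply, smul_eq_mul]
  field_simp
  ring

/-- The reflection in an anisotropic vector. -/
def refl (v : Fin n → F) (hv : H.form v v ≠ 0) : GL (Fin n) F :=
  ⟨H.reflMat v, H.reflMat v, H.reflMat_sq hv, H.reflMat_sq hv⟩

theorem refl_apply {v : Fin n → F} (hv : H.form v v ≠ 0) (x : Fin n → F) :
    (H.refl v hv).1 *ᵥ x = x - (2 / H.form v v * H.form x v) • v := H.reflMat_apply v x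

theorem refl_inv {v : Fin n → F} (hv : H.form v v ≠ 0) : (H.refl v hv)⁻¹ = H.refl v hv := Units.ext rfl

theorem refl_mul_self {v : Fin n → F} (hv : H.form v v ≠ 0) : H.refl v hv * H.refl v hv = 1 :=
  Units.ext (H.reflMat_sq hv)

theorem det_refl {v : Fin n → F} (hv : H.form v v ≠ 0) : (H.refl v hv).1.det = -1 := by
  show (H.reflMat v).det = -1
  rw [reflMat, Matrix.vecMulVec_eq Unit, Matrix.det_one_add_replicateCol_mul_replicateRow, dotProduct_smul,
    smul_eq_mul, dotProduct_comm]
  show 1 + -(2 / H.form v v) * H.form v v = -1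
  rw [neg_mul, div_mul_cancel₀ _ hv]
  ring

/-- The isometry group. -/
def iso : Subgroup (GL (Fin n) F) where
  carrier := {g | ∀ x y, H.form (g.1 *ᵥ x) (g.1 *ᵥ y) = H.form x y}
  one_mem' := fun x y => by rw [Units.val_one, Matrix.one_mulVec, Matrix.one_mulVec]
  mul_mem' := fun {a b} ha hb x y => by
    rw [Units.val_mul, ← Matrix.mulVec_mulVec, ← Matrix.mulVec_mulVec, ha, hb]
  inv_mem' := fun {a} ha x y => by
    conv_rhs => rw [← Matrix.one_mulVec x, ← Matrix.one_mulVec y, ← Units.mul_inv a, ← Matrix.mulVec_mulVec,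
      ← Matrix.mulVec_mulVec, ha]

theorem mem_iso {g : GL (Fin n) F} : g ∈ H.iso ↔ ∀ x y, H.form (g.1 *ᵥ x) (g.1 *ᵥ y) = H.form x y := Iff.rfl

/-- The isometries of determinant one. -/
def isoSL : Subgroup (GL (Fin n) F) := H.iso ⊓ (Matrix.GeneralLinearGroup.det (n := Fin n) (R := F)).ker

theorem refl_mem {v : Fin n → F} (hv : H.form v v ≠ 0) : H.refl v hv ∈ H.iso := fun x y => by
  rw [H.refl_apply, H.refl_apply]
  simp only [H.sub_left, H.sub_right, H.smul_left, H.smul_right, map_mul, map_div₀, H.diag_fixed, map_ofNat]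
  rw [← H.conj_symm y v]
  field_simp
  ring

theorem refl_mul_mem {v w : Fin n → F} (hv : H.form v v ≠ 0) (hw : H.form w w ≠ 0) :
    H.refl w hw * H.refl v hv ∈ H.isoSL :=
  ⟨mul_mem (H.refl_mem hw) (H.refl_mem hv), MonoidHom.mem_ker.mpr (Units.ext (by
    rw [Matrix.GeneralLinearGroup.val_det_apply, Units.val_mul, Matrix.det_mul, H.det_refl, H.det_refl, Units.val_one]
    ring))⟩

theorem conj_refl {g : GL (Fin n) F} (hg : g ∈ H.iso) {v : Fin n → F} (hv : H.form v v ≠ 0) :
    g * H.refl v hv * g⁻¹ = H.refl (g.1 *ᵥ v) (by rw [hg]; exact hv) := by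
  refine Units.ext (Matrix.ext_iff_mulVec.mpr fun x => ?_)
  rw [Units.val_mul, Units.val_mul, ← Matrix.mulVec_mulVec, ← Matrix.mulVec_mulVec, H.refl_apply, H.refl_apply, hg,
    Matrix.mulVec_sub, Matrix.mulVec_smul, Matrix.mulVec_mulVec, Units.mul_inv, Matrix.one_mulVec,
    show H.form ((g⁻¹).1 *ᵥ x) v = H.form x (g.1 *ᵥ v) by
      rw [← hg, Matrix.mulVec_mulVec, Units.mul_inv, Matrix.one_mulVec]]

theorem refl_smul {v : Fin n → F} (hv : H.form v v ≠ 0) {a : F} (ha : H.form (a • v) (a • v) ≠ 0) :
    H.refl (a • v) ha = H.refl v hv := by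
  have ha0 : a ≠ 0 := fun h => ha (by rw [h, zero_smul, H.zero_left])
  have hσ : H.σ a ≠ 0 := (map_ne_zero H.σ).mpr ha0
  refine Units.ext (Matrix.ext_iff_mulVec.mpr fun x => ?_)
  rw [H.refl_apply, H.refl_apply, smul_smul]
  congr 2
  simp only [H.smul_left, H.smul_right]
  field_simp

/-- Two non-proportional reflections: some anisotropic vector is moved to an orthogonal one. -/
theorem key (hn : 3 ≤ n) {v w : Fin n → F} (hv : H.form v v ≠ 0) (hw : H.form w w = H.form v v)
    (hpar : ∀ a : F, w ≠ a • v) :
    ∃ u, H.form u u ≠ 0 ∧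
      H.form u ((H.refl w (by rw [hw]; exact hv) * H.refl v hv).1 *ᵥ u) = 0 := by
  set c := H.form v v with hc
  set t := H.form w v with ht
  have hσc : H.σ c = c := H.diag_fixed v
  have hvw : H.form v w = H.σ t := by rw [ht, H.conj_symm w v]
  have hE : ∀ u : Fin n → F, H.form u ((H.refl w (by rw [hw]; exact hv) * H.refl v hv).1 *ᵥ u) =
      H.form u u - 2 / c * H.σ (H.form u v) * H.form u v -
        2 / c * (H.σ (H.form u w) - 2 / c * H.σ (H.form u v) * t) * H.form u w := by
    intro u
    rw [Units.val_mul, ← Matrix.mulVec_mulVec, H.refl_apply, H.refl_apply, hw, ← hc]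
    simp only [H.sub_left, H.sub_right, H.smul_left, H.smul_right, map_mul, map_sub, map_div₀, hσc, map_ofNat, hvw,
      H.invol]
  by_cases hD : c * c - t * H.σ t = 0
  · set e := w - (t / c) • v with he
    have hev : H.form e v = 0 := by rw [he, H.sub_left, H.smul_left, ← hc, ← ht, div_mul_cancel₀ _ hv, sub_self]
    have hve : H.form v e = 0 := by rw [H.conj_symm e v, hev, map_zero]
    have he0 : e ≠ 0 := fun h => hpar (t / c) (sub_eq_zero.mp h)
    have hee : H.form e e = 0 := by
      conv_lhs => arg 3; rw [he]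
      rw [H.sub_right, H.smul_right, hev, he, H.sub_left, H.smul_left, hw, hvw]
      field_simp
      linear_combination hD
    obtain ⟨x, hx⟩ := H.exists_form_eq_one he0
    set z := x - (H.form x v / c) • v with hz
    have hzv : H.form z v = 0 := by rw [hz, H.sub_left, H.smul_left, ← hc, div_mul_cancel₀ _ hv, sub_self]
    have hze : H.form z e = 1 := by rw [hz, H.sub_left, H.smul_left, hve, hx, mul_zero, sub_zero]
    have hez : H.form e z = 1 := by rw [H.conj_symm z e, hze, map_one]
    set l := (2 / c - H.form z z) / 2 with hl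
    have hσl : H.σ l = l := by rw [hl, map_div₀, map_sub, map_div₀, hσc, H.diag_fixed, map_ofNat]
    set u := z + l • e with hu
    have huu : H.form u u = 2 / c := by
      simp only [hu, H.add_left, H.add_right, H.smul_left, H.smul_right, hze, hez, hee, hσl]
      have h2 := H.two
      rw [hl]; field_simp; ring
    have huv : H.form u v = 0 := by rw [hu, H.add_left, H.smul_left, hev, hzv, mul_zero, add_zero]
    have hwe : w = e + (t / c) • v := by rw [he]; abel
    have huw : H.form u w = 1 := by
      rw [hwe, H.add_right, H.smul_right, huv, mul_zero, add_zero, hu, H.add_left, H.smul_left, hze, hee, mul_zero,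
        add_zero]
    refine ⟨u, by rw [huu]; exact div_ne_zero H.two hv, ?_⟩
    rw [hE, huu, huv, huw, map_zero, map_one]
    ring
  · set D := c * c - t * H.σ t with hDdef
    have hσD : H.σ D = D := by rw [hDdef, map_sub, map_mul, map_mul, H.invol, hσc]; ring
    set v' := c • w - t • v with hv'
    have hv'v : H.form v' v = 0 := by rw [hv', H.sub_left, H.smul_left, H.smul_left, ← hc, ← ht]; ring
    have hvv' : H.form v v' = 0 := by rw [H.conj_symm v' v, hv'v, map_zero]
    have hv'w : H.form v' w = D := by rw [hv', H.sub_left, H.smul_left, H.smul_left, hw, hvw, hDdef]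
    have hv'v' : H.form v' v' = c * D := by
      conv_lhs => arg 3; rw [hv']
      rw [H.sub_right, H.smul_right, H.smul_right, hv'w, hv'v, hσc, mul_zero, sub_zero]
    by_cases hT : 2 * (t * H.σ t) - c * c = 0
    · refine ⟨v, hv, ?_⟩
      rw [hE, hvw, hσc, H.invol]
      field_simp
      linear_combination hT
    obtain ⟨A, hAv, hAv', hAA⟩ := H.exists_aniso_perp hn v v' hv hv'v (Or.inl (by rw [hv'v']; exact mul_ne_zero hv hD))
    have hvA : H.form v A = 0 := by rw [H.conj_symm A v, hAv, map_zero]
    have hv'A : H.form v' A = 0 := by rw [H.conj_symm A v', hAv', map_zero]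
    have hAw : H.form A w = 0 := by
      have h := hAv'
      rw [hv', H.sub_right, H.smul_right, H.smul_right, hAv, mul_zero, sub_zero] at h
      exact (mul_eq_zero.mp h).resolve_left ((map_ne_zero H.σ).mpr hv)
    have hσA : H.σ (H.form A A) = H.form A A := H.diag_fixed A
    set T := (2 * (t * H.σ t) - c * c) / (c * c) with hTdef
    have hT0 : T ≠ 0 := div_ne_zero hT (mul_ne_zero hv hv)
    have hσT : H.σ T = T := by
      rw [hTdef, map_div₀, map_sub, map_mul, map_mul, map_mul, H.invol, hσc, map_ofNat]; ring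
    obtain ⟨α, β, hab, hre⟩ := H.rep (H.σ t) c (c * D) (-(H.form A A) / T) hσc (by rw [map_mul, hσc, hσD])
      (by rw [map_div₀, map_neg, hσA, hσT]) hv (mul_ne_zero hv hD) (div_ne_zero (neg_ne_zero.mpr hAA) hT0)
    set u := A + α • v + β • v' with hu
    have huu : H.form u u = H.form A A * (1 - 1 / T) := by
      simp only [hu, H.add_left, H.add_right, H.smul_left, H.smul_right, hAv, hAv', hvA, hv'A, hv'v, hvv', hv'v', ← hc]
      linear_combination hab
    have huv : H.form u v = α * c := by
      simp only [hu, H.add_left, H.smul_left, hAv, hv'v, ← hc]; ring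
    have huw : H.form u w = α * H.σ t + β * D := by
      simp only [hu, H.add_left, H.smul_left, hAw, hvw, hv'w]; ring
    have hT1 : T ≠ 1 := by
      intro h
      rw [hTdef, div_eq_one_iff_eq (mul_ne_zero hv hv)] at h
      exact (mul_ne_zero H.two hD) (by rw [hDdef]; linear_combination -h)
    refine ⟨u, by rw [huu]; exact mul_ne_zero hAA (sub_ne_zero.mpr fun h => hT1 (by rw [eq_comm, one_div, inv_eq_one] at h; exact h)), ?_⟩
    rw [hE, huu, huv, huw, map_add, map_mul, map_mul, map_mul, H.invol, hσc, hσD]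
    have hre' : H.σ α * β * t = α * H.σ β * H.σ t := by
      rw [← hre, map_mul, map_mul, H.invol, H.invol]
    have hA : H.form A A = -T * (α * H.σ α * c + β * H.σ β * (c * D)) := by
      rw [hab]; field_simp
    have hS : H.form A A * (1 - 1 / T) = (1 - T) * (α * H.σ α * c + β * H.σ β * (c * D)) := by
      rw [hA]; field_simp; ring
    rw [hS, hTdef]
    field_simp
    rw [hDdef]
    linear_combination (2 * (c * c - t * H.σ t)) * hre'

/-- An invertible linear map fixing every anisotropic line commutes with reflections. -/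
theorem commute_refl {g : GL (Fin n) F} (hg : g ∈ H.iso) {v : Fin n → F} (hv : H.form v v ≠ 0)
    (h : ∃ a : F, g.1 *ᵥ v = a • v) : g * H.refl v hv = H.refl v hv * g := by
  obtain ⟨a, ha⟩ := h
  rw [← mul_inv_eq_iff_eq_mul, H.conj_refl hg hv]
  have h2 : H.form (a • v) (a • v) ≠ 0 := by rw [← ha, hg]; exact hv
  calc H.refl (g.1 *ᵥ v) _ = H.refl (a • v) h2 := by congr 1
    _ = H.refl v hv := H.refl_smul hv h2

/-! ### Semilinear maps commuting with products of reflections -/

variable {E : Type*} [Field E] (j : F →+* E)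

/-- The extension of scalars of a vector. -/
def jv (x : Fin n → F) : Fin n → E := fun i => j (x i)

theorem jv_add (x y : Fin n → F) : jv j (x + y) = jv j x + jv j y := funext fun i => map_add j _ _

theorem jv_sub (x y : Fin n → F) : jv j (x - y) = jv j x - jv j y := funext fun i => map_sub j _ _

theorem jv_smul (a : F) (x : Fin n → F) : jv j (a • x) = j a • jv j x := funext fun i => map_mul j _ _

theorem jv_mulVec (A : Matrix (Fin n) (Fin n) F) (x : Fin n → F) : jv j (A *ᵥ x) = A.map j *ᵥ jv j x :=
  funext fun i => RingHom.map_mulVec j A x i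

/-- The functional `form · y` extended to the bigger field. -/
def jform (y : Fin n → F) (X : Fin n → E) : E := X ⬝ᵥ jv j (H.M *ᵥ fun i => H.σ (y i))

theorem jform_jv (x y : Fin n → F) : H.jform j y (jv j x) = j (H.form x y) := by
  rw [jform, form, RingHom.map_dotProduct]; rfl

theorem jform_smul (y : Fin n → F) (a : E) (X : Fin n → E) : H.jform j y (a • X) = a * H.jform j y X :=
  smul_dotProduct _ _ _

theorem jform_add (y : Fin n → F) (X X' : Fin n → E) : H.jform j y (X + X') = H.jform j y X + H.jform j y X' :=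
  add_dotProduct _ _ _

/-- A semilinear map commuting up to scalars with the products of two reflections in vectors of equal norm is
a scalar. -/
theorem semilinear_scalar_eq (hn : 3 ≤ n) (τ : E ≃+* E) (G : Matrix (Fin n) (Fin n) E) (hG : G.det ≠ 0)
    (hcomm : ∀ (v w : Fin n → F) (hv : H.form v v ≠ 0) (hw : H.form w w ≠ 0), H.form w w = H.form v v →
      ∃ lam : E,
      G * ((H.refl w hw * H.refl v hv).1.map j).map τ = lam • ((H.refl w hw * H.refl v hv).1.map j * G)) :
    ∃ a : E, G = a • 1 ∧ ∀ x, τ (j x) = j x := by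
  let Ψ : (Fin n → F) → (Fin n → E) := fun x => G *ᵥ fun i => τ (j (x i))
  have hΨadd : ∀ x y, Ψ (x + y) = Ψ x + Ψ y := fun x y => by
    simp only [Ψ, Pi.add_apply, map_add]; rw [← Matrix.mulVec_add]; rfl
  have hΨsmul : ∀ (a : F) x, Ψ (a • x) = τ (j a) • Ψ x := fun a x => by
    simp only [Ψ, Pi.smul_apply, smul_eq_mul, map_mul]; rw [← Matrix.mulVec_smul]; rfl
  haveI : Nonempty (Fin n) := ⟨⟨0, by omega⟩⟩
  have hj2 : (2 : E) ≠ 0 := by rw [← map_ofNat j 2]; exact (map_ne_zero j).mpr H.two
  -- every isotropic line is fixed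
  have hiso : ∀ e : Fin n → F, e ≠ 0 → H.form e e = 0 → ∃ a : E, Ψ e = a • jv j e := by
    intro e he hee
    obtain ⟨v, hve, hvv⟩ : ∃ v, H.form v e = 0 ∧ H.form v v ≠ 0 := by
      by_contra! hall
      let W : Submodule F (Fin n → F) :=
        { carrier := {x | H.form x e = 0}
          add_mem' := fun {a b} ha hb => by show H.form (a + b) e = 0; rw [H.add_left, ha, hb, add_zero]
          zero_mem' := H.zero_left _
          smul_mem' := fun a x hx => by show H.form (a • x) e = 0; rw [H.smul_left, hx, mul_zero] }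
      obtain ⟨z, hz⟩ := H.exists_form_eq_one he
      have hspan : ∀ x, x ∈ Submodule.span F (Set.range ![e, z]) := fun x => by
        set y := x - H.form x e • z with hy
        have hyW : y ∈ W := by show H.form y e = 0; rw [hy, H.sub_left, H.smul_left, hz, mul_one, sub_self]
        set y' := y - H.form y z • e with hy'
        have hez : H.form e z = 1 := by rw [H.conj_symm z e, hz, map_one]
        have hy'0 : y' = 0 := by
          by_contra hne
          obtain ⟨w, hw⟩ := H.exists_form_ne_zero hne
          apply hw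
          have hwW : w - H.form w e • z ∈ W := by
            show H.form _ e = 0; rw [H.sub_left, H.smul_left, hz, mul_one, sub_self]
          have heW : e ∈ W := hee
          have hy'W : y' ∈ W := W.sub_mem hyW (W.smul_mem _ heW)
          have h0 := H.form_zero_of_isotropic W (fun x hx => hall x hx) hy'W hwW
          have h1 : H.form y' z = 0 := by rw [hy', H.sub_left, H.smul_left, hez, mul_one, sub_self]
          rw [H.sub_right, H.smul_right, h1, mul_zero, sub_zero] at h0
          exact h0
        rw [show x = H.form y z • e + H.form x e • z by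
          rw [← sub_eq_zero]; rw [hy'] at hy'0; rw [hy] at hy'0 ⊢; rw [← hy'0]; abel]
        exact add_mem (Submodule.smul_mem _ _ (Submodule.subset_span ⟨0, rfl⟩))
          (Submodule.smul_mem _ _ (Submodule.subset_span ⟨1, rfl⟩))
      have h2 := finrank_range_le_card (R := F) ![e, z]
      rw [Set.finrank, Submodule.eq_top_iff'.mpr hspan, finrank_top, Module.finrank_pi, Fintype.card_fin,
        Fintype.card_fin] at h2
      omega
    have hev : H.form e v = 0 := by rw [H.conj_symm v e, hve, map_zero]
    have hww : H.form (v + e) (v + e) ≠ 0 := by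
      simpa only [H.add_left, H.add_right, hve, hev, hee, add_zero] using hvv
    set a := (H.refl (v + e) hww * H.refl v hvv).1 with ha
    set N := a - 1 with hN
    set c := H.form v v with hc
    have hw' : H.form (v + e) (v + e) = c := by
      simp only [H.add_left, H.add_right, hve, hev, hee, add_zero, hc]
    have hNx : ∀ x, N *ᵥ x = (2 / c * H.form x v) • e - (2 / c * H.form x e) • (v + e) := by
      intro x
      rw [hN, Matrix.sub_mulVec, Matrix.one_mulVec, ha, Units.val_mul, ← Matrix.mulVec_mulVec, H.refl_apply,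
        H.refl_apply, hw', H.sub_left, H.smul_left, H.add_right, H.add_right, hve, ← hc]
      funext i
      simp only [Pi.sub_apply, Pi.add_apply, Pi.smul_apply, smul_eq_mul]
      field_simp
      ring
    have hN2 : ∀ x, (N * N) *ᵥ x = (-(4 * H.form x e) / c) • e := by
      intro x
      have h1 : H.form (N *ᵥ x) e = 0 := by
        rw [hNx, H.sub_left, H.smul_left, H.smul_left, H.add_left, hee, hve]; ring
      have h2 : H.form (N *ᵥ x) v = -(2 * H.form x e) := by
        rw [hNx, H.sub_left, H.smul_left, H.smul_left, H.add_left, hev, ← hc]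
        field_simp
        ring
      rw [← Matrix.mulVec_mulVec, hNx (N *ᵥ x), h1, h2]
      funext i
      simp only [Pi.sub_apply, Pi.smul_apply, smul_eq_mul]
      field_simp
      ring
    have hN3 : N * (N * N) = 0 := by
      refine Matrix.ext_iff_mulVec.mpr fun x => ?_
      rw [← Matrix.mulVec_mulVec, hN2, Matrix.mulVec_smul, hNx, hev, hee]
      simp
    obtain ⟨lam, hlam⟩ := hcomm v (v + e) hvv hww hw'
    set N' := (N.map j).map τ with hN'
    set M' := N.map j with hM'
    have hmapa : a.map j = 1 + M' := by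
      rw [hM', hN, Matrix.map_sub j (map_sub j), Matrix.map_one j (map_zero j) (map_one j), add_sub_cancel]
    have hmapa' : (a.map j).map τ = 1 + N' := by
      rw [hmapa, Matrix.map_add τ (map_add τ), Matrix.map_one τ (map_zero τ) (map_one τ)]
    rw [← ha, hmapa', hmapa] at hlam
    have hN'3 : N' * (N' * N') = 0 := by
      rw [hN', ← Matrix.map_mul, ← Matrix.map_mul, ← Matrix.map_mul, ← Matrix.map_mul, hN3,
        Matrix.map_zero j (map_zero j), Matrix.map_zero τ (map_zero τ)]
    have hM'3 : M' * (M' * M') = 0 := by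
      rw [hM', ← Matrix.map_mul, ← Matrix.map_mul, hN3, Matrix.map_zero j (map_zero j)]
    have e1 : G * N' = (lam - 1) • G + lam • (M' * G) := by
      rw [Matrix.mul_add, Matrix.mul_one, Matrix.add_mul, Matrix.one_mul, smul_add] at hlam
      rw [sub_smul, one_smul]
      linear_combination (norm := module) hlam
    have hl1 : lam = 1 := by
      by_contra hne
      have h3 : G * (N' * (N' * N')) = ((lam - 1) • (1 : Matrix (Fin n) (Fin n) E) + lam • M') *
          ((((lam - 1) • (1 : Matrix (Fin n) (Fin n) E) + lam • M') *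
            (((lam - 1) • (1 : Matrix (Fin n) (Fin n) E) + lam • M') * G))) := by
        have hG1 : G * N' = ((lam - 1) • (1 : Matrix (Fin n) (Fin n) E) + lam • M') * G := by
          rw [e1, Matrix.add_mul, Matrix.smul_mul, Matrix.one_mul, Matrix.smul_mul]
        rw [← Matrix.mul_assoc, hG1, Matrix.mul_assoc, ← Matrix.mul_assoc G, hG1, Matrix.mul_assoc, hG1]
      rw [hN'3, Matrix.mul_zero] at h3
      have hnil : M' ^ 3 = 0 := by rw [pow_succ, pow_two, Matrix.mul_assoc]; exact hM'3
      have hu : IsUnit ((lam - 1) • (1 : Matrix (Fin n) (Fin n) E) + lam • M') := by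
        have hnil' : IsNilpotent (lam • M') := ⟨3, by rw [smul_pow, hnil, smul_zero]⟩
        refine hnil'.isUnit_add_left_of_commute ?_ ?_
        · rw [← Algebra.algebraMap_eq_smul_one]
          exact (Ne.isUnit (sub_ne_zero.mpr hne)).map _
        · exact ((Commute.one_right _).smul_right _)
      have : G = 0 := by
        have h4 := h3.symm
        obtain ⟨U, hU⟩ := hu
        rw [← hU] at h4
        simpa using h4
      exact hG (by rw [this, Matrix.det_zero])
    rw [hl1, sub_self, zero_smul, zero_add, one_smul] at e1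
    have e2 : G * (N' * N') = M' * M' * G := by
      rw [← Matrix.mul_assoc, e1, Matrix.mul_assoc, e1, ← Matrix.mul_assoc]
    obtain ⟨z, hz⟩ := H.exists_form_eq_one he
    refine ⟨(τ (j (-(4 * H.form z e) / c)))⁻¹ * H.jform j e (Ψ z) * j (-4 / c), ?_⟩
    have h1 : (N' * N') *ᵥ (fun i => τ (j (z i))) = fun i => τ (j (((N * N) *ᵥ z) i)) := by
      funext i
      rw [hN', ← Matrix.map_mul, ← Matrix.map_mul]
      exact ((congrArg τ (RingHom.map_mulVec j (N * N) z i)).trans
        (RingHom.map_mulVec τ.toRingHom ((N * N).map j) (fun i => j (z i)) i)).symm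
    have h2 : Ψ ((N * N) *ᵥ z) = (M' * M') *ᵥ Ψ z := by
      show G *ᵥ _ = _
      rw [← h1, Matrix.mulVec_mulVec, e2, ← Matrix.mulVec_mulVec]
    rw [hN2, hΨsmul, hM', ← Matrix.map_mul] at h2
    have hz0 : τ (j (-(4 * H.form z e) / c)) ≠ 0 := by
      rw [map_ne_zero, map_ne_zero, hz, mul_one]
      refine div_ne_zero (neg_ne_zero.mpr ?_) hvv
      rw [show (4 : F) = 2 * 2 by norm_num]; exact mul_ne_zero H.two H.two
    have h5 : ∀ X : Fin n → E, (N * N).map j *ᵥ X = (H.jform j e X * j (-4 / c)) • jv j e := by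
      have hmat : N * N = Matrix.vecMulVec ((-4 / c) • e) (H.M *ᵥ fun i => H.σ (e i)) := by
        refine Matrix.ext_iff_mulVec.mpr fun x => ?_
        rw [hN2, Matrix.vecMulVec_mulVec]
        funext i
        simp only [Pi.smul_apply, smul_eq_mul, op_smul_eq_smul, form,
          dotProduct_comm (H.M *ᵥ fun i => H.σ (e i)) x]
        ring
      intro X
      have : (N * N).map j = Matrix.vecMulVec (jv j ((-4 / c) • e)) (jv j (H.M *ᵥ fun i => H.σ (e i))) := by
        rw [hmat]; ext a b; simp [Matrix.vecMulVec_apply, jv]; ring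
      rw [this, Matrix.vecMulVec_mulVec, jv_smul, jform, dotProduct_comm]
      funext i
      simp only [Pi.smul_apply, smul_eq_mul, op_smul_eq_smul]
      ring
    rw [h5] at h2
    rw [mul_assoc, ← smul_smul, ← h2, inv_smul_smul₀ hz0]
  -- a hyperbolic pair
  obtain ⟨e, he, hee⟩ := H.exists_isotropic hn
  obtain ⟨z, hz⟩ := H.exists_form_eq_one he
  obtain ⟨f, hf⟩ : ∃ f, f = z + (-(H.form z z) / 2) • e := ⟨_, rfl⟩
  have hez : H.form e z = 1 := by rw [H.conj_symm z e, hz, map_one]
  have hff : H.form f f = 0 := by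
    simp only [hf, H.add_left, H.add_right, H.smul_left, H.smul_right, hee, hz, hez, map_div₀, map_neg, H.diag_fixed,
      map_ofNat]
    have := H.two
    field_simp
    ring
  have hfe : H.form f e = 1 := by rw [hf, H.add_left, H.smul_left, hee, hz, mul_zero, add_zero]
  have hef : H.form e f = 1 := by rw [H.conj_symm f e, hfe, map_one]
  have hf0 : f ≠ 0 := fun h => by rw [h, H.zero_left] at hfe; exact zero_ne_one hfe
  obtain ⟨ae, hae⟩ := hiso e he hee
  obtain ⟨af, haf⟩ := hiso f hf0 hff
  -- anisotropic vectors orthogonal to the pair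
  have hperp : ∀ x : Fin n → F, H.form x e = 0 → H.form x f = 0 → H.form x x ≠ 0 →
      Ψ x = ae • jv j x ∧ τ (j (-(H.form x x) / 2)) * af = ae * j (-(H.form x x) / 2) := by
    intro x hxe hxf hxx
    have hex : H.form e x = 0 := by rw [H.conj_symm x e, hxe, map_zero]
    have hfx : H.form f x = 0 := by rw [H.conj_symm x f, hxf, map_zero]
    set k := -(H.form x x) / 2 with hk
    have hk0 : k ≠ 0 := div_ne_zero (neg_ne_zero.mpr hxx) H.two
    have hσk : H.σ k = k := by rw [hk, map_div₀, map_neg, H.diag_fixed, map_ofNat]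
    have hw : ∀ y : Fin n → F, (y = x ∨ y = -x) → ∃ a : E, Ψ (e + y + k • f) = a • jv j (e + y + k • f) := by
      intro y hy
      have hyy : H.form y y = H.form x x ∧ H.form y e = 0 ∧ H.form y f = 0 ∧ H.form e y = 0 ∧ H.form f y = 0 := by
        rcases hy with rfl | rfl
        · exact ⟨rfl, hxe, hxf, hex, hfx⟩
        · simp only [H.neg_left, H.neg_right, hxe, hxf, hex, hfx, neg_neg, neg_zero, and_self]
      refine hiso _ (fun h0 => ?_) ?_
      · have := congrArg (fun X => H.form X f) h0
        simp only [H.add_left, H.smul_left, hef, hyy.2.2.1, hff, H.zero_left, mul_zero, add_zero] at this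
        exact one_ne_zero this
      · simp only [H.add_left, H.add_right, H.smul_left, H.smul_right, hee, hff, hef, hfe, hyy.1, hyy.2.1, hyy.2.2.1,
          hyy.2.2.2.1, hyy.2.2.2.2, hσk]
        rw [hk]
        have := H.two
        field_simp
        ring
    obtain ⟨a, ha⟩ := hw x (Or.inl rfl)
    obtain ⟨b, hb⟩ := hw (-x) (Or.inr rfl)
    have hx' : jv j (-x) = -jv j x := funext fun i => map_neg j _
    have hΨx' : Ψ (-x) = -Ψ x := by
      rw [show -x = (-1 : F) • x by simp, hΨsmul, map_neg, map_neg, map_one, map_one]; simp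
    rw [hΨadd, hΨadd, hΨsmul, hae, haf, jv_add, jv_add, jv_smul] at ha hb
    rw [hΨx'] at hb
    simp only [hx'] at hb
    have sum : (2 * ae) • jv j e + (2 * τ (j k) * af) • jv j f =
        (a + b) • jv j e + (a - b) • jv j x + ((a + b) * j k) • jv j f := by
      linear_combination (norm := module) ha + hb
    have p1 := congrArg (H.jform j f) sum
    have p2 := congrArg (H.jform j e) sum
    have p3 := congrArg (H.jform j x) sum
    simp only [H.jform_add, H.jform_smul, H.jform_jv, hef, hff, hxf, hee, hfe, hxe, hex, hfx, map_one, map_zero,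
      mul_one, mul_zero, add_zero, zero_add] at p1 p2 p3
    have hjxx : j (H.form x x) ≠ 0 := (map_ne_zero j).mpr hxx
    have hab : a = b := sub_eq_zero.mp ((mul_eq_zero.mp p3.symm).resolve_right hjxx)
    subst hab
    have hae' : a = ae := mul_left_cancel₀ hj2 (by linear_combination -p1)
    subst hae'
    have hkf : τ (j k) * af = a * j k := mul_left_cancel₀ hj2 (by linear_combination p2)
    have hΨx : Ψ x = a • jv j x := by
      rw [smul_smul, hkf] at ha
      linear_combination (norm := module) ha
    exact ⟨hΨx, hkf⟩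
  have hvv0 : H.form (e + f) (e + f) ≠ 0 := by
    simp only [H.add_left, H.add_right, hee, hff, hef, hfe, add_zero, zero_add]
    rw [show (1 : F) + 1 = 2 by norm_num]; exact H.two
  obtain ⟨x₀, hx₀1, hx₀2, hx₀⟩ := H.exists_aniso_perp hn (e + f) (e - f) hvv0
    (by simp only [H.sub_left, H.add_right, hee, hff, hef, hfe]; ring)
    (Or.inl (by
      simp only [H.sub_left, H.sub_right, hee, hff, hef, hfe]
      rw [show (0 : F) - 1 - (1 - 0) = -2 by ring]; exact neg_ne_zero.mpr H.two))
  rw [H.add_right] at hx₀1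
  rw [H.sub_right] at hx₀2
  have hx₀e : H.form x₀ e = 0 := mul_left_cancel₀ H.two (by linear_combination hx₀1 + hx₀2)
  have hx₀f : H.form x₀ f = 0 := by linear_combination hx₀1 - hx₀e
  obtain ⟨hΨ₀, hk₀⟩ := hperp x₀ hx₀e hx₀f hx₀
  have hjx₀ : j (H.form x₀ x₀) ≠ 0 := (map_ne_zero j).mpr hx₀
  have hae0 : ae ≠ 0 := by
    intro h0
    rw [h0, zero_smul] at hae
    have h1 := congrArg (fun X => Ring.inverse G *ᵥ X) hae
    simp only [Ψ, Matrix.mulVec_mulVec, Ring.inverse_mul_cancel _ ((Matrix.isUnit_iff_isUnit_det G).mpr hG.isUnit),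
      Matrix.one_mulVec, Matrix.mulVec_zero] at h1
    exact he (funext fun i => j.injective (τ.injective (by
      rw [congrFun h1 i]; simp)))
  have hτ : ∀ r : F, τ (j r) = j r := by
    intro r
    by_cases hr : r = 0
    · simp [hr]
    obtain ⟨hr1, -⟩ := hperp (r • x₀) (by rw [H.smul_left, hx₀e, mul_zero]) (by rw [H.smul_left, hx₀f, mul_zero])
      (by rw [H.smul_left, H.smul_right]; exact mul_ne_zero hr (mul_ne_zero ((map_ne_zero H.σ).mpr hr) hx₀))
    rw [hΨsmul, hΨ₀, jv_smul, smul_smul, smul_smul] at hr1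
    have := congrArg (H.jform j x₀) hr1
    rw [H.jform_smul, H.jform_smul, H.jform_jv] at this
    exact mul_right_cancel₀ hae0 ((mul_right_cancel₀ hjx₀ this).trans (mul_comm _ _))
  have haf' : af = ae := mul_left_cancel₀
    ((map_ne_zero j).mpr (div_ne_zero (neg_ne_zero.mpr hx₀) H.two)) (by rw [hτ] at hk₀; rw [hk₀, mul_comm])
  have hall : ∀ y, Ψ y = ae • jv j y := by
    intro y
    set y' := y - H.form y f • e - H.form y e • f with hy'
    have hy'e : H.form y' e = 0 := by
      rw [hy', H.sub_left, H.sub_left, H.smul_left, H.smul_left, hee, hfe]; ring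
    have hy'f : H.form y' f = 0 := by
      rw [hy', H.sub_left, H.sub_left, H.smul_left, H.smul_left, hef, hff]; ring
    have hy'' : Ψ y' = ae • jv j y' := by
      by_cases hplus : H.form (y' + x₀) (y' + x₀) = 0
      · by_cases hminus : H.form (y' - x₀) (y' - x₀) = 0
        · have hne : H.form y' y' ≠ 0 := by
            intro h0
            simp only [H.add_left, H.add_right, H.sub_left, H.sub_right, h0] at hplus hminus
            exact hx₀ (mul_left_cancel₀ H.two (by linear_combination hplus + hminus))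
          exact (hperp y' hy'e hy'f hne).1
        · have h1 := (hperp (y' - x₀) (by rw [H.sub_left, hy'e, hx₀e, sub_zero])
            (by rw [H.sub_left, hy'f, hx₀f, sub_zero]) hminus).1
          rw [show y' = (y' - x₀) + x₀ by abel, hΨadd, h1, hΨ₀, ← smul_add, ← jv_add]
      · have h1 := (hperp (y' + x₀) (by rw [H.add_left, hy'e, hx₀e, add_zero])
          (by rw [H.add_left, hy'f, hx₀f, add_zero]) hplus).1
        have h2 := hΨadd y' x₀
        rw [h1, hΨ₀, jv_add, smul_add] at h2
        exact (add_right_cancel h2).symm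
    rw [show y = y' + (H.form y f • e + H.form y e • f) by rw [hy']; abel, hΨadd, hΨadd, hΨsmul, hΨsmul, hy'', hae,
      haf, haf', hτ, hτ, jv_add, jv_add, jv_smul, jv_smul]
    module
  refine ⟨ae, Matrix.ext fun i l => ?_, hτ⟩
  have h := congrFun (hall (Pi.single l 1)) i
  have e1 : (fun k => τ (j ((Pi.single l (1 : F) : Fin n → F) k))) = Pi.single l 1 := by
    funext k
    by_cases hk : k = l
    · subst hk; simp
    · simp [hk]
  simp only [Ψ] at h
  rw [e1, Matrix.mulVec_single_one] at h
  simp only [Matrix.col_apply, Pi.smul_apply, smul_eq_mul, jv] at h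
  rw [h, Matrix.smul_apply, Matrix.one_apply, Pi.single_apply, apply_ite j, map_one, map_zero, smul_eq_mul]

/-- A semilinear map commuting up to scalars with all products of two reflections is a scalar. -/
theorem semilinear_scalar (hn : 3 ≤ n) (τ : E ≃+* E) (G : Matrix (Fin n) (Fin n) E) (hG : G.det ≠ 0)
    (hcomm : ∀ (v w : Fin n → F) (hv : H.form v v ≠ 0) (hw : H.form w w ≠ 0), ∃ lam : E,
      G * ((H.refl w hw * H.refl v hv).1.map j).map τ = lam • ((H.refl w hw * H.refl v hv).1.map j * G)) :
    ∃ a : E, G = a • 1 ∧ ∀ x, τ (j x) = j x :=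
  H.semilinear_scalar_eq j hn τ G hG fun v w hv hw _ => hcomm v w hv hw

/-- An isometry group normalised by the reflections in which only scalars square to scalars is scalar. -/
theorem mem_scalars (hn : 3 ≤ n) (P : Subgroup (GL (Fin n) F)) (hP : P ≤ H.iso)
    (hnorm : ∀ (v : Fin n → F) (hv : H.form v v ≠ 0), ∀ g ∈ P, H.refl v hv * g * H.refl v hv ∈ P)
    (hodd : ∀ g ∈ P, (∃ a : F, g.1 * g.1 = a • (1 : Matrix (Fin n) (Fin n) F)) →
      ∃ a : F, g.1 = a • (1 : Matrix (Fin n) (Fin n) F)) :
    ∀ g ∈ P, ∃ a : F, g.1 = a • (1 : Matrix (Fin n) (Fin n) F) := by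
  intro m hm
  by_cases hall : ∀ v, H.form v v ≠ 0 → ∃ a : F, m.1 *ᵥ v = a • v
  · obtain ⟨a, ha, -⟩ := H.semilinear_scalar (RingHom.id F) hn 1 m.1 (Matrix.GeneralLinearGroup.det_ne_zero m) (by
      intro v w hv hw
      refine ⟨1, ?_⟩
      have h1 := H.commute_refl (hP hm) hw (hall w hw)
      have h2 := H.commute_refl (hP hm) hv (hall v hv)
      have h3 : m * (H.refl w hw * H.refl v hv) = H.refl w hw * H.refl v hv * m := by
        rw [← mul_assoc, h1, mul_assoc, h2, ← mul_assoc]
      have h4 := congrArg Units.val h3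
      rw [Units.val_mul, Units.val_mul _ m] at h4
      rw [one_smul]
      exact h4)
    exact ⟨a, ha⟩
  push Not at hall
  obtain ⟨v, hv, hmv⟩ := hall
  exfalso
  have hiso := hP hm
  have hw : H.form (m.1 *ᵥ v) (m.1 *ᵥ v) = H.form v v := hiso v v
  have ha : H.refl (m.1 *ᵥ v) (by rw [hw]; exact hv) * H.refl v hv ∈ P := by
    rw [← H.conj_refl hiso hv, show m * H.refl v hv * m⁻¹ * H.refl v hv = m * (H.refl v hv * m⁻¹ * H.refl v hv) by group]
    exact P.mul_mem hm (hnorm v hv _ (P.inv_mem hm))
  obtain ⟨u, hu, huu⟩ := H.key hn hv hw hmv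
  set a := H.refl (m.1 *ᵥ v) (by rw [hw]; exact hv) * H.refl v hv
  have hb : a * H.refl u hu * a⁻¹ * H.refl u hu ∈ P := by
    rw [show a * H.refl u hu * a⁻¹ * H.refl u hu = a * (H.refl u hu * a⁻¹ * H.refl u hu) by group]
    exact P.mul_mem ha (hnorm u hu _ (P.inv_mem ha))
  rw [H.conj_refl (hP ha) hu] at hb
  set u' := a.1 *ᵥ u with hu'
  have hu'0 : H.form u' u' ≠ 0 := by rw [hu', hP ha]; exact hu
  have huu' : H.form u' u = 0 := by rw [H.conj_symm u u', huu, map_zero]
  obtain ⟨z, hz1, hz2, hz3⟩ := H.exists_aniso_perp hn u u' hu huu' (Or.inl hu'0)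
  have hzu : ∀ x, H.form x u = 0 → H.form x u' = 0 → (H.refl u' hu'0 * H.refl u hu).1 *ᵥ x = x := fun x h1 h2 => by
    rw [Units.val_mul, ← Matrix.mulVec_mulVec, H.refl_apply hu, h1, mul_zero, zero_smul, sub_zero, H.refl_apply hu'0, h2,
      mul_zero, zero_smul, sub_zero]
  have hbu : (H.refl u' hu'0 * H.refl u hu).1 *ᵥ u = -u := by
    rw [Units.val_mul, ← Matrix.mulVec_mulVec, H.refl_apply hu, div_mul_cancel₀ _ hu, H.refl_apply hu'0, H.sub_left,
      H.smul_left, huu, mul_zero, sub_zero, mul_zero, zero_smul, sub_zero]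
    module
  have hsq : (H.refl u' hu'0 * H.refl u hu) * (H.refl u' hu'0 * H.refl u hu) = 1 := by
    have h1 := H.conj_refl (H.refl_mem hu'0) hu
    rw [H.refl_inv] at h1
    have h2 : (H.refl u' hu'0).1 *ᵥ u = u := by rw [H.refl_apply, huu, mul_zero, zero_smul, sub_zero]
    have h3 : H.refl u' hu'0 * H.refl u hu * H.refl u' hu'0 = H.refl u hu := by rw [h1]; congr 1
    rw [← mul_assoc, h3, H.refl_mul_self]
  obtain ⟨c, hc⟩ := hodd _ hb ⟨1, by rw [← Units.val_mul, hsq, one_smul, Units.val_one]⟩
  rw [hc] at hbu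
  have hzfix := hzu z hz1 hz2
  rw [hc] at hzfix
  rw [Matrix.smul_mulVec, Matrix.one_mulVec] at hbu hzfix
  have h1 := congrArg (fun X => H.form X u) hbu
  have h2 := congrArg (fun X => H.form X z) hzfix
  simp only [H.smul_left] at h1 h2
  rw [show -u = (-1 : F) • u by simp, H.smul_left] at h1
  exact H.two (by linear_combination mul_right_cancel₀ hu h1 - mul_right_cancel₀ hz3 (h2.trans (one_mul _).symm))

end HForm

end CfsgLib.LocalBalance
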