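import Mathlib
import Cfsg.Agent.Lib.LocalBalance.Reflection
import Cfsg.Agent.Lib.Solvable.Core

/-!
The isometry group modulo scalars has no nontrivial normal subgroup of odd order.
-/

set_option autoImplicit false
set_option maxHeartbeats 800000

namespace CfsgLib.LocalBalance.HForm

open Matrix

variable {n : ℕ} {F : Type*} [Field F] (H : HForm n F)

theorem conj_mem_isoSL {A : GL (Fin n) F} {e : F} (he : e ≠ 0)
    (hA : ∀ x y, H.form (A.1 *ᵥ x) (A.1 *ᵥ y) = e * H.form x y) {g : GL (Fin n) F} (hg : g ∈ H.isoSL) :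
    A * g * A⁻¹ ∈ H.isoSL := by
  have hinv : ∀ x y, H.form ((A⁻¹).1 *ᵥ x) ((A⁻¹).1 *ᵥ y) = e⁻¹ * H.form x y := fun x y => by
    have h := hA ((A⁻¹).1 *ᵥ x) ((A⁻¹).1 *ᵥ y)
    rw [Matrix.mulVec_mulVec, Matrix.mulVec_mulVec, Units.mul_inv, Matrix.one_mulVec, Matrix.one_mulVec] at h
    rw [h, inv_mul_cancel_left₀ he]
  refine ⟨fun x y => ?_, MonoidHom.mem_ker.mpr ?_⟩
  · rw [Units.val_mul, Units.val_mul, ← Matrix.mulVec_mulVec, ← Matrix.mulVec_mulVec, ← Matrix.mulVec_mulVec,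
      ← Matrix.mulVec_mulVec, hA, hg.1, hinv, mul_inv_cancel_left₀ he]
  · rw [map_mul, map_mul, MonoidHom.mem_ker.mp hg.2, mul_one, map_inv, mul_inv_cancel]

theorem iso_eigen {v : Fin n → F} (hv : H.form v v ≠ 0) :
    ∀ x y, H.form ((H.refl v hv).1 *ᵥ x) ((H.refl v hv).1 *ᵥ y) = 1 * H.form x y :=
  fun x y => by rw [one_mul]; exact H.refl_mem hv x y

/-- Conjugation by a reflection on the special isometry group. -/
noncomputable def reflConj (v : Fin n → F) (hv : H.form v v ≠ 0) : ↥H.isoSL →* ↥H.isoSL :=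
  ((MulAut.conj (H.refl v hv)).toMonoidHom.comp H.isoSL.subtype).codRestrict _ fun g =>
    H.conj_mem_isoSL one_ne_zero (H.iso_eigen hv) g.2

theorem reflConj_coe {v : Fin n → F} (hv : H.form v v ≠ 0) (g : ↥H.isoSL) :
    (H.reflConj v hv g : GL (Fin n) F) = H.refl v hv * g * H.refl v hv := by
  show H.refl v hv * g.1 * (H.refl v hv)⁻¹ = _
  rw [H.refl_inv]

theorem core_refl [Finite F] (hn : 3 ≤ n) {K : Type*} [Group K] (θ : ↥H.isoSL →* K)
    (hker : ∀ g, θ g = 1 ↔ ∃ a : F, g.1.1 = a • (1 : Matrix (Fin n) (Fin n) F)) (M : Subgroup ↥θ.range)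
    (hM : M.Normal) (hcop : (Nat.card ↥M).Coprime 2) : M = ⊥ := by
  haveI : Finite (GL (Fin n) F) := inferInstance
  haveI : Finite ↥θ.range := Finite.of_surjective _ θ.rangeRestrict_surjective
  obtain ⟨v₀, hv₀⟩ : ∃ v, H.form v v ≠ 0 := by
    by_contra! h
    obtain ⟨e, he, -⟩ := H.exists_isotropic hn
    obtain ⟨z, hz⟩ := H.exists_form_eq_one he
    exact zero_ne_one ((H.form_zero_of_isotropic ⊤ (fun x _ => h x) (Submodule.mem_top (x := z))
      (Submodule.mem_top (x := e))).symm.trans hz)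
  set φ := H.reflConj v₀ hv₀
  have hφ2 : ∀ g, φ (φ g) = g := fun g => Subtype.ext (by
    rw [H.reflConj_coe, H.reflConj_coe, ← mul_assoc, ← mul_assoc, H.refl_mul_self, one_mul, mul_assoc,
      H.refl_mul_self, mul_one])
  have hr : ∀ g, θ.rangeRestrict g = 1 ↔ θ g = 1 := fun g =>
    ⟨fun h => congrArg Subtype.val h, fun h => Subtype.ext h⟩
  have hker' : θ.rangeRestrict.ker ≤ (θ.rangeRestrict.comp φ).ker := fun g hg => by
    obtain ⟨a, ha⟩ := (hker g).mp ((hr g).mp hg)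
    refine (hr _).mpr ((hker _).mpr ⟨a, ?_⟩)
    rw [H.reflConj_coe, Units.val_mul, Units.val_mul, ha, Matrix.mul_smul, Matrix.mul_one, Matrix.smul_mul,
      ← Units.val_mul, H.refl_mul_self, Units.val_one]
  let ψ : ↥θ.range →* ↥θ.range :=
    θ.rangeRestrict.liftOfSurjective θ.rangeRestrict_surjective ⟨θ.rangeRestrict.comp φ, hker'⟩
  have hψ : ∀ g, ψ (θ.rangeRestrict g) = θ.rangeRestrict (φ g) := fun g =>
    MonoidHom.liftOfRightInverse_comp_apply _ _ _ _ g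
  have hψ2 : ∀ x, ψ (ψ x) = x := fun x => by
    obtain ⟨g, rfl⟩ := θ.rangeRestrict_surjective x
    rw [hψ, hψ, hφ2]
  haveI := hM
  set N := M ⊔ M.map ψ with hN
  haveI hMψ : (M.map ψ).Normal := hM.map ψ (fun x => ⟨ψ x, hψ2 x⟩)
  haveI hNn : N.Normal := Subgroup.sup_normal M (M.map ψ)
  have hNcop : (Nat.card ↥N).Coprime 2 :=
    Nat.Coprime.coprime_dvd_left (CfsgLib.Solvable.card_sup_dvd_mul M (M.map ψ))
      (hcop.mul_left (Nat.Coprime.coprime_dvd_left (Subgroup.card_map_dvd _ _) hcop))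
  have hNψ : ∀ x ∈ N, ψ x ∈ N := fun x hx => by
    have h1 : N.map ψ = N := by
      rw [hN, Subgroup.map_sup, Subgroup.map_map, show ψ.comp ψ = MonoidHom.id _ from MonoidHom.ext hψ2,
        Subgroup.map_id, sup_comm]
    rw [← h1]; exact Subgroup.mem_map_of_mem ψ hx
  have key : ∀ g ∈ N.comap θ.rangeRestrict, θ g = 1 := by
    intro g hg
    refine (hker g).mpr (H.mem_scalars hn ((N.comap θ.rangeRestrict).map H.isoSL.subtype) ?_ ?_ ?_ g.1 ⟨g, hg, rfl⟩)
    · rintro _ ⟨x, -, rfl⟩; exact x.2.1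
    · rintro v hv _ ⟨x, hx, rfl⟩
      have hr' : H.refl v hv * H.refl v₀ hv₀ ∈ H.isoSL := H.refl_mul_mem hv₀ hv
      refine ⟨⟨_, hr'⟩ * φ x * (⟨_, hr'⟩ : ↥H.isoSL)⁻¹, ?_, ?_⟩
      · show θ.rangeRestrict _ ∈ N
        rw [map_mul, map_mul, map_inv]
        exact hNn.conj_mem _ (by rw [← hψ]; exact hNψ _ hx) _
      · show H.refl v hv * H.refl v₀ hv₀ * (φ x : GL (Fin n) F) * (H.refl v hv * H.refl v₀ hv₀)⁻¹ = _
        rw [H.reflConj_coe, _root_.mul_inv_rev, H.refl_inv, H.refl_inv]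
        simp only [mul_assoc]
        rw [← mul_assoc (H.refl v₀ hv₀) (H.refl v₀ hv₀), H.refl_mul_self, one_mul,
          ← mul_assoc (H.refl v₀ hv₀) (H.refl v₀ hv₀), H.refl_mul_self, one_mul]
        rfl
    · rintro _ ⟨x, hx, rfl⟩ ⟨a, ha⟩
      refine (hker x).mp ((hr x).mp ?_)
      have h2 : θ.rangeRestrict x ^ 2 = 1 := by
        rw [← map_pow]
        exact (hr _).mpr ((hker _).mpr ⟨a, by rw [pow_two, Subgroup.coe_mul, Units.val_mul]; exact ha⟩)
      refine orderOf_eq_one_iff.mp (Nat.eq_one_of_dvd_coprimes hNcop ?_ (orderOf_dvd_of_pow_eq_one h2))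
      exact Subgroup.orderOf_dvd_natCard N hx
  refine (Subgroup.eq_bot_iff_forall _).mpr fun x hx => ?_
  obtain ⟨g, rfl⟩ := θ.rangeRestrict_surjective x
  exact (hr g).mpr (key g (Subgroup.mem_sup_left hx))

end CfsgLib.LocalBalance.HForm
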