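import Mathlib
import Cfsg.Agent.Lib.LocalBalance.PSLBasic
import Cfsg.Agent.Lib.LocalBalance.ReflCore
import Cfsg.Agent.Lib.AutPSL.GraphClass
import Cfsg.Agent.Lib.AutPSL.FieldAut
import Cfsg.Agent.Lib.Linear.SympSimple
import Cfsg.Agent.Lib.MinDeg.SymOrbit

/-!
Local balance witnesses for graph and graph-field involutions of `PSL_n`.
-/

set_option autoImplicit false
set_option maxHeartbeats 800000

namespace CfsgLib.LocalBalance

open Matrix Cfsg
open CfsgLib.AutPSL (SLg PSLg diagAut fieldAut itAut conjSL conjSL_coe itGL)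

variable {n : ℕ} {F : Type*} [Field F]

/-- The form attached to a symmetric invertible matrix. -/
noncomputable def orthForm [Fintype F] (M : Matrix (Fin n) (Fin n) F) (hM : Mᵀ = M) (hdet : M.det ≠ 0)
    (h2 : (2 : F) ≠ 0) : HForm n F where
  σ := RingEquiv.refl F
  invol _ := rfl
  M := M
  herm := by rw [hM]; rfl
  det_ne := hdet
  two := h2
  rep t c d e _ _ _ hc hd _ := by
    obtain ⟨x, y, h⟩ := CfsgLib.MinDeg.exists_sq_add h2 hc hd e
    exact ⟨x, y, by simp only [RingEquiv.refl_apply]; linear_combination h, rfl⟩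

/-- The standard hermitian form. -/
noncomputable def stdHermForm [Fintype F] (σ : F ≃+* F) (hσ : orderOf σ = 2) (h2 : (2 : F) ≠ 0) : HForm n F where
  σ := σ
  invol a := DFunLike.congr_fun (show σ * σ = 1 by rw [← pow_two, ← hσ]; exact pow_orderOf_eq_one σ) a
  M := 1
  herm := by rw [Matrix.transpose_one, Matrix.map_one _ (map_zero σ) (map_one σ)]
  det_ne := by rw [Matrix.det_one]; exact one_ne_zero
  two := h2
  rep t c d e hc _ he hc0 _ _ := by
    obtain ⟨x, hx⟩ := CfsgLib.AutPSL.exists_norm_eq σ hσ (c := e / c) (by rw [map_div₀, he, hc])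
    rw [Finset.prod_range_succ, Finset.prod_range_one, pow_zero, pow_one] at hx
    change x * σ x = e / c at hx
    exact ⟨x, 0, by rw [hx, div_mul_cancel₀ _ hc0]; simp, by simp⟩

namespace HForm

variable (H : HForm n F)

theorem form_mulVec (A : Matrix (Fin n) (Fin n) F) (x y : Fin n → F) :
    H.form (A *ᵥ x) (A *ᵥ y) = x ⬝ᵥ ((Aᵀ * H.M * A.map H.σ) *ᵥ fun i => H.σ (y i)) := by
  have h1 : (fun i => H.σ ((A *ᵥ y) i)) = A.map H.σ *ᵥ fun i => H.σ (y i) :=
    funext fun i => RingHom.map_mulVec H.σ.toRingHom A y i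
  rw [form, h1, ← Matrix.vecMul_transpose, ← Matrix.dotProduct_mulVec, Matrix.mulVec_mulVec, Matrix.mulVec_mulVec,
    Matrix.mul_assoc]

theorem form_scaled_of_mat {A : Matrix (Fin n) (Fin n) F} {e : F} (h : Aᵀ * H.M * A.map H.σ = e • H.M)
    (x y : Fin n → F) : H.form (A *ᵥ x) (A *ᵥ y) = e * H.form x y := by
  rw [H.form_mulVec, h, Matrix.smul_mulVec, dotProduct_smul, smul_eq_mul]
  rfl

theorem mat_of_iso {g : GL (Fin n) F} (hg : g ∈ H.iso) : g.1ᵀ * H.M * g.1.map H.σ = H.M := by
  refine Matrix.ext fun i j => ?_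
  have h := hg (Pi.single i 1) (Pi.single j 1)
  rw [H.form_mulVec, form] at h
  have e : (fun k => H.σ ((Pi.single j (1 : F) : Fin n → F) k)) = Pi.single j 1 := by
    funext k
    by_cases hk : k = j
    · subst hk; simp
    · simp [hk]
  simpa [e, Matrix.mulVec_single_one, single_one_dotProduct] using h

/-- The special isometries inside `SL_n`. -/
def toSL : ↥H.isoSL →* SLg n F where
  toFun g := ⟨g.1.1, by
    have h := congrArg Units.val (MonoidHom.mem_ker.mp g.2.2)
    rwa [Matrix.GeneralLinearGroup.val_det_apply] at h⟩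
  map_one' := rfl
  map_mul' _ _ := rfl

/-- The special isometries inside `PSL_n`. -/
def toPSL : ↥H.isoSL →* PSLg n F :=
  (QuotientGroup.mk' (Subgroup.center (SLg n F))).comp H.toSL

theorem toPSL_apply (g : ↥H.isoSL) : H.toPSL g = QuotientGroup.mk (H.toSL g) := rfl

theorem toPSL_eq_one_iff (g : ↥H.isoSL) :
    H.toPSL g = 1 ↔ ∃ a : F, g.1.1 = a • (1 : Matrix (Fin n) (Fin n) F) :=
  psl_mk_one_iff (H.toSL g)

end HForm

variable [Fintype F]

/-- The witness of an involution `diagAut B * fieldAut σ * itAut` preserving the form `(B⁻¹)ᵀ`. -/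
theorem witness_refl (hn : 3 ≤ n) (H : HForm n F) (B : GL (Fin n) F) (σ : F ≃+* F) (hσ : H.σ = σ)
    (hB : H.M = (B⁻¹).1ᵀ) :
    Witness 2 (diagAut B * fieldAut σ * itAut : MulAut (PSLg n F)) H.toPSL.range := by
  have hle : H.toPSL.range ≤ fixPts (diagAut B * fieldAut σ * itAut : MulAut (PSLg n F)) := by
    rintro _ ⟨g, rfl⟩
    rw [mem_fixPts, H.toPSL_apply]
    refine graph_fix_of_rel ?_
    have h := congrArg Matrix.transpose (H.mat_of_iso g.2.1)
    rw [Matrix.transpose_mul, Matrix.transpose_mul, Matrix.transpose_transpose, hσ, hB, Matrix.transpose_transpose,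
      ← Matrix.mul_assoc] at h
    exact h
  refine ⟨hle, ?_, fun M hM hc => H.core_refl hn H.toPSL H.toPSL_eq_one_iff M hM hc, fun y _ hy => ?_⟩
  · rintro k hk _ ⟨g, rfl⟩
    obtain ⟨a, rfl⟩ := QuotientGroup.mk_surjective k
    obtain ⟨e, he0, he⟩ := graph_fix_rel (mem_fixPts.mp hk)
    have h := congrArg Matrix.transpose he
    rw [Matrix.transpose_mul, Matrix.transpose_mul, Matrix.transpose_transpose, Matrix.transpose_smul,
      ← Matrix.mul_assoc, ← hB, ← hσ] at h
    let A := Matrix.SpecialLinearGroup.toGL a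
    have hmem : A * g.1 * A⁻¹ ∈ H.isoSL :=
      H.conj_mem_isoSL he0 (H.form_scaled_of_mat (A := A.1) h) g.2
    refine ⟨⟨_, hmem⟩, ?_⟩
    rw [H.toPSL_apply, H.toPSL_apply, ← QuotientGroup.mk_mul, ← QuotientGroup.mk_inv, ← QuotientGroup.mk_mul]
    refine congrArg _ (Subtype.ext ?_)
    show (A * g.1 * A⁻¹).1 = _
    rw [Units.val_mul, Units.val_mul, Matrix.SpecialLinearGroup.coe_mul, Matrix.SpecialLinearGroup.coe_mul,
      show (A⁻¹).1 = (a⁻¹ : SLg n F).1 by rw [← map_inv]; rfl]
    rfl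
  · refine cent_graph (by omega) B σ _ hle (fun Z τ hZ => ?_) y hy
    obtain ⟨e, he, hτ⟩ := H.semilinear_scalar (RingHom.id F) hn τ Z.1 (Matrix.GeneralLinearGroup.det_ne_zero Z)
      (by
        intro v w hv hw
        have h := hZ _ ⟨⟨_, H.refl_mul_mem hv hw⟩, rfl⟩
        rw [H.toPSL_apply] at h
        obtain ⟨lam, hl⟩ := semi_fix_rel h
        exact ⟨lam, hl⟩)
    exact semi_eq_one he hτ

open CfsgLib.Linear.Symp in
/-- The witness of a symplectic type graph involution. -/
theorem witness_symp (hn : 3 ≤ n) (h2 : (2 : F) ≠ 0) (B : GL (Fin n) F)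
    (hB : (B : Matrix (Fin n) (Fin n) F)ᵀ = -(B : Matrix (Fin n) (Fin n) F)) :
    ∃ L, Witness 2 (diagAut B * fieldAut 1 * itAut : MulAut (PSLg n F)) L := by
  classical
  have hd : ((B⁻¹).1 : Matrix (Fin n) (Fin n) F).det ≠ 0 := Matrix.GeneralLinearGroup.det_ne_zero _
  have hB' : (B⁻¹).1ᵀ = -(B⁻¹).1 := by
    have h1 : (B⁻¹).1ᵀ * B.1ᵀ = 1 := by rw [← Matrix.transpose_mul, Units.mul_inv, Matrix.transpose_one]
    rw [hB, Matrix.mul_neg, ← Matrix.neg_mul] at h1
    calc (B⁻¹).1ᵀ = -(-(B⁻¹).1ᵀ * B.1 * (B⁻¹).1) := by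
          rw [Matrix.mul_assoc, Units.mul_inv, Matrix.mul_one, neg_neg]
      _ = _ := by rw [h1, Matrix.one_mul]
  obtain ⟨m, hm, P, P', hPP, hPP', hP⟩ :=
    CfsgLib.AutPSL.congr_alternating (CfsgLib.AutPSL.diag_zero_of_skew h2 hB') hB' hd
  rw [Fintype.card_fin] at hm
  have hm2 : 2 ≤ m := by omega
  let θ₀ : ↥(symplecticGroup (Fin m) F) →* SLg n F :=
    { toFun := fun s => ⟨P * s.1 * P', by
        rw [Matrix.det_conj_of_mul_eq_one hPP hPP', SymplecticGroup.det_eq_one s.2]⟩
      map_one' := Subtype.ext (by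
        show P * (1 : Matrix _ _ F) * P' = 1
        rw [Matrix.mul_one, hPP])
      map_mul' := fun s t => Subtype.ext (by
        show P * (s.1 * t.1) * P' = (P * s.1 * P') * (P * t.1 * P')
        calc P * (s.1 * t.1) * P' = P * s.1 * ((P' * P) * t.1) * P' := by
              rw [hPP', Matrix.one_mul]; simp only [Matrix.mul_assoc]
          _ = _ := by simp only [Matrix.mul_assoc]) }
  let θ : ↥(symplecticGroup (Fin m) F) →* PSLg n F := (QuotientGroup.mk' (Subgroup.center (SLg n F))).comp θ₀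
  have hθ₀ : ∀ s, (θ₀ s).1 = P * s.1 * P' := fun _ => rfl
  have hPJ : P'ᵀ * Matrix.J (Fin m) F * P' = (B⁻¹).1 := by
    rw [← hP]
    calc P'ᵀ * (Pᵀ * (B⁻¹).1 * P) * P' = (P * P')ᵀ * (B⁻¹).1 * (P * P') := by
          simp only [Matrix.transpose_mul, Matrix.mul_assoc]
      _ = _ := by rw [hPP, Matrix.transpose_one, Matrix.one_mul, Matrix.mul_one]
  have hle : θ.range ≤ fixPts (diagAut B * fieldAut 1 * itAut : MulAut (PSLg n F)) := by
    rintro _ ⟨s, rfl⟩
    refine mem_fixPts.mpr (graph_fix_of_rel ?_)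
    show ((P * s.1 * P').map (1 : F ≃+* F))ᵀ * (B⁻¹).1 * (P * s.1 * P') = _
    rw [show (P * s.1 * P').map (1 : F ≃+* F) = P * s.1 * P' from Matrix.ext fun i j => rfl]
    calc (P * s.1 * P')ᵀ * (B⁻¹).1 * (P * s.1 * P') = P'ᵀ * (s.1ᵀ * (Pᵀ * (B⁻¹).1 * P) * s.1) * P' := by
          simp only [Matrix.transpose_mul, Matrix.mul_assoc]
      _ = _ := by rw [hP, SymplecticGroup.mem_iff'.mp s.2, hPJ]
  refine ⟨θ.range, hle, ?_, ?_, fun y _ hy => ?_⟩
  · rintro k hk _ ⟨s, rfl⟩
    obtain ⟨a, rfl⟩ := QuotientGroup.mk_surjective k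
    obtain ⟨e, he0, he⟩ := graph_fix_rel (mem_fixPts.mp hk)
    rw [show a.1.map (1 : F ≃+* F) = a.1 from Matrix.ext fun i j => rfl] at he
    set T := P' * (a⁻¹ : SLg n F).1 * P with hT
    set S := P' * a.1 * P with hS
    have hST : S * T = 1 := by
      calc S * T = P' * (a.1 * ((P * P') * (a⁻¹ : SLg n F).1)) * P := by rw [hS, hT]; simp only [Matrix.mul_assoc]
        _ = 1 := by
          rw [hPP, Matrix.one_mul, ← Matrix.SpecialLinearGroup.coe_mul, mul_inv_cancel,
            Matrix.SpecialLinearGroup.coe_one, Matrix.mul_one, hPP']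
    have hSJ : Sᵀ * Matrix.J (Fin m) F * S = e • Matrix.J (Fin m) F := by
      calc Sᵀ * Matrix.J (Fin m) F * S = Pᵀ * (a.1ᵀ * (P'ᵀ * Matrix.J (Fin m) F * P') * a.1) * P := by
            rw [hS]; simp only [Matrix.transpose_mul, Matrix.mul_assoc]
        _ = _ := by rw [hPJ, he, Matrix.mul_smul, Matrix.smul_mul, hP]
    have hTJ : e • (Tᵀ * Matrix.J (Fin m) F * T) = Matrix.J (Fin m) F := by
      calc e • (Tᵀ * Matrix.J (Fin m) F * T) = Tᵀ * (Sᵀ * Matrix.J (Fin m) F * S) * T := by
            rw [hSJ, Matrix.mul_smul, Matrix.smul_mul]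
        _ = (S * T)ᵀ * Matrix.J (Fin m) F * (S * T) := by simp only [Matrix.transpose_mul, Matrix.mul_assoc]
        _ = _ := by rw [hST, Matrix.transpose_one, Matrix.one_mul, Matrix.mul_one]
    refine ⟨⟨S * s.1 * T, SymplecticGroup.mem_iff'.mpr ?_⟩, ?_⟩
    · calc (S * s.1 * T)ᵀ * Matrix.J (Fin m) F * (S * s.1 * T) =
            Tᵀ * (s.1ᵀ * (Sᵀ * Matrix.J (Fin m) F * S) * s.1) * T := by
            simp only [Matrix.transpose_mul, Matrix.mul_assoc]
        _ = _ := by
          rw [hSJ, Matrix.mul_smul, Matrix.smul_mul, SymplecticGroup.mem_iff'.mp s.2, Matrix.mul_smul,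
            Matrix.smul_mul, hTJ]
    · show (QuotientGroup.mk (θ₀ _) : PSLg n F) = QuotientGroup.mk a * QuotientGroup.mk (θ₀ s) * _
      rw [← QuotientGroup.mk_inv, ← QuotientGroup.mk_mul, ← QuotientGroup.mk_mul]
      refine congrArg _ (Subtype.ext ?_)
      rw [hθ₀, Matrix.SpecialLinearGroup.coe_mul, Matrix.SpecialLinearGroup.coe_mul, hθ₀]
      show P * (S * s.1 * T) * P' = _
      calc P * (S * s.1 * T) * P' = (P * P') * a.1 * (P * s.1 * P') * (a⁻¹ : SLg n F).1 * (P * P') := by
            rw [hS, hT]; simp only [Matrix.mul_assoc]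
        _ = _ := by rw [hPP, Matrix.one_mul, Matrix.mul_one]
  · intro M hM hcop
    haveI := hM
    haveI hN : (M.comap θ.rangeRestrict).Normal := Subgroup.Normal.comap ‹M.Normal› θ.rangeRestrict
    have h3 : 3 ≤ Fintype.card F := by
      have h1 := Fintype.one_lt_card (α := F)
      by_contra hlt
      obtain ⟨c, hc⟩ := CharP.exists F
      have h0 := FiniteField.cast_card_eq_zero F
      rw [show Fintype.card F = 2 by omega] at h0
      exact h2 (by exact_mod_cast h0)
    rcases normal_le_center_or_eq_top (m := m) (F := F) (by omega) (M.comap θ.rangeRestrict) with h | h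
    · rw [← Subgroup.map_comap_eq_self_of_surjective θ.rangeRestrict_surjective M]
      refine (Subgroup.map_eq_bot_iff _).mpr fun s hs => Subtype.ext ?_
      obtain ⟨b, -, hb⟩ := mem_center_iff.mp (h hs)
      refine psl_mk_eq_one (e := b) ?_
      have hs' : s.1 = b • (1 : Matrix (Fin m ⊕ Fin m) (Fin m ⊕ Fin m) F) :=
        Matrix.ext_iff_mulVec.mpr fun x => by
          rw [Matrix.smul_mulVec, Matrix.one_mulVec]; exact hb x
      rw [hθ₀, hs', Matrix.mul_smul, Matrix.mul_one, Matrix.smul_mul, hPP]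
    · exfalso
      let j : ↥(symplecticGroup (Fin m) F) := ⟨Matrix.J _ _, SymplecticGroup.J_mem _ _⟩
      have hj : θ.rangeRestrict j ∈ M := by
        have : j ∈ M.comap θ.rangeRestrict := by rw [h]; exact Subgroup.mem_top _
        exact this
      have ho : orderOf (θ.rangeRestrict j) = 2 := by
        refine orderOf_eq_prime ?_ fun h1 => ?_
        · rw [← map_pow]
          refine Subtype.ext (psl_mk_eq_one (e := (-1 : F)) ?_)
          rw [hθ₀, SubmonoidClass.coe_pow, pow_two]
          show P * (Matrix.J (Fin m) F * Matrix.J (Fin m) F) * P' = _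
          rw [Matrix.J_squared, Matrix.mul_neg, Matrix.mul_one, Matrix.neg_mul, hPP, neg_one_smul]
        · obtain ⟨b, hb⟩ := (psl_mk_one_iff _).mp (congrArg Subtype.val h1)
          have hJ : Matrix.J (Fin m) F = b • 1 := by
            calc Matrix.J (Fin m) F = P' * (P * Matrix.J (Fin m) F * P') * P := by
                  simp only [← Matrix.mul_assoc, hPP', Matrix.one_mul]
                  rw [Matrix.mul_assoc, hPP', Matrix.mul_one]
              _ = _ := by
                rw [show P * Matrix.J (Fin m) F * P' = b • 1 from hb, Matrix.mul_smul, Matrix.mul_one,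
                  Matrix.smul_mul, hPP']
          have := congrFun (congrFun hJ (Sum.inr ⟨0, by omega⟩)) (Sum.inl ⟨0, by omega⟩)
          simp [Matrix.J] at this
      have hdvd := Subgroup.orderOf_dvd_natCard M hj
      rw [ho] at hdvd
      exact absurd (Nat.eq_one_of_dvd_coprimes hcop hdvd dvd_rfl) (by norm_num)
  · refine cent_graph (by omega) B 1 _ hle (fun Z τ hZ => ?_) y hy
    have hlines : ∀ v : Fin n → F, ∃ a : F, (Z.1 *ᵥ fun i => τ (RingHom.id F (v i))) = a • fun i => RingHom.id F (v i) := by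
      intro v
      by_cases hv : v = 0
      · exact ⟨0, by rw [hv]; funext i; simp [Matrix.mulVec, dotProduct]⟩
      set u := P' *ᵥ v with hu
      set w := (Matrix.J (Fin m) F *ᵥ u) ᵥ* P' with hw
      have hPu : P *ᵥ u = v := by rw [hu, Matrix.mulVec_mulVec, hPP, Matrix.one_mulVec]
      have hu0 : u ≠ 0 := fun h0 => hv (by rw [← hPu, h0, Matrix.mulVec_zero])
      have hmat : (θ₀ (tv u 1)).1 = 1 + Matrix.vecMulVec v w := by
        rw [hθ₀]
        show P * (sympTransvection m u 1) * P' = _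
        rw [sympTransvection, Matrix.mul_add, Matrix.mul_one, Matrix.add_mul, hPP, one_smul, Matrix.mul_vecMulVec,
          Matrix.vecMulVec_mul, hPu]
      have hw0 : w ≠ 0 := by
        intro h0
        have h1 := congrArg (fun x => x ᵥ* P) h0
        simp only [hw, Matrix.vecMul_vecMul, hPP', Matrix.vecMul_one, Matrix.zero_vecMul] at h1
        obtain ⟨z, hz⟩ := exists_form_ne_zero hu0
        refine hz ?_
        rw [form_swap, sympForm, h1, dotProduct_zero, neg_zero]
      have hwv : w ⬝ᵥ v = 0 := by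
        rw [hw, ← Matrix.dotProduct_mulVec, ← hu, dotProduct_comm]
        exact form_self u
      have hN : Matrix.vecMulVec v w * Matrix.vecMulVec v w = 0 := by
        rw [Matrix.vecMulVec_mul_vecMulVec, hwv, zero_smul, Matrix.vecMulVec_zero]
      obtain ⟨lam, hl⟩ := semi_fix_rel (hZ _ ⟨tv u 1, rfl⟩)
      rw [hmat, Matrix.map_add τ (map_add τ), Matrix.map_one τ (map_zero τ) (map_one τ)] at hl
      have hc := comm_unipotent (Matrix.GeneralLinearGroup.det_ne_zero Z) hN
        (by rw [← Matrix.map_mul, hN, Matrix.map_zero τ (map_zero τ)]) hl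
      obtain ⟨i, hi⟩ : ∃ i, w i ≠ 0 := Function.ne_iff.mp hw0
      refine ⟨(w ᵥ* Z.1) i / τ (w i), funext fun r => ?_⟩
      have h1 := congrFun (congrFun hc r) i
      rw [Matrix.vecMulVec_mul] at h1
      simp only [Matrix.mul_apply, Matrix.map_apply, Matrix.vecMulVec_apply, map_mul, ← mul_assoc] at h1
      rw [← Finset.sum_mul] at h1
      simp only [Pi.smul_apply, smul_eq_mul, RingHom.id_apply, Matrix.mulVec, dotProduct]
      have hτw : τ (w i) ≠ 0 := (map_ne_zero τ).mpr hi
      field_simp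
      rw [h1]; ring
    obtain ⟨e, he, hτ⟩ := scalar_of_lines (by omega) (RingHom.id F) τ Z.1 (Matrix.GeneralLinearGroup.det_ne_zero Z) hlines
    exact semi_eq_one he hτ

end CfsgLib.LocalBalance
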