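import Mathlib
import Cfsg.Agent.Lib.LocalBalance.PSLGraph
import Cfsg.Agent.Lib.LocalBalance.PSLField
import Cfsg.Agent.Lib.AutPSL.Coset

/-!
Failure of local balance for automorphisms of `PSL_n(q)` that are not inner-diagonal.
-/

set_option autoImplicit false
set_option maxHeartbeats 800000

namespace CfsgLib.LocalBalance

open Matrix Cfsg
open CfsgLib.AutPSL (SLg PSLg diagAut fieldAut itAut conjSL itGL)

variable {n : ℕ} {F : Type*} [Field F]

/-- The semilinear automorphisms of `PSL_n`. -/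
def semiAutsPSL (n : ℕ) (F : Type*) [Field F] [Fintype F] : Subgroup (MulAut (PSLg n F)) where
  carrier := {β | ∃ (g : GL (Fin n) F) (σ : F ≃+* F), β = diagAut g * fieldAut σ}
  one_mem' := ⟨1, 1, by rw [map_one, map_one, one_mul]⟩
  mul_mem' := by
    rintro _ _ ⟨g, σ, rfl⟩ ⟨h, τ, rfl⟩
    exact ⟨g * Matrix.GeneralLinearGroup.map σ.toRingHom h, σ * τ, by
      rw [map_mul, map_mul, mul_assoc, ← mul_assoc (fieldAut σ), CfsgLib.AutPSL.fieldAut_diagAut]; group⟩
  inv_mem' := by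
    rintro _ ⟨g, σ, rfl⟩
    exact ⟨Matrix.GeneralLinearGroup.map (σ⁻¹ : F ≃+* F).toRingHom g⁻¹, σ⁻¹, by
      rw [← CfsgLib.AutPSL.fieldAut_diagAut, map_inv, map_inv, _root_.mul_inv_rev]⟩

theorem sq_it [Fintype F] (g : GL (Fin n) F) (τ : F ≃+* F) :
    (diagAut g * fieldAut τ * itAut * (diagAut g * fieldAut τ * itAut) : MulAut (PSLg n F)) =
      diagAut (g * Matrix.GeneralLinearGroup.map τ.toRingHom (itGL g)) * fieldAut (τ * τ) := by
  rw [show (diagAut g * fieldAut τ * itAut * (diagAut g * fieldAut τ * itAut) : MulAut (PSLg n F)) =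
      diagAut g * fieldAut τ * (itAut * diagAut g) * fieldAut τ * itAut by group, CfsgLib.AutPSL.itAut_diagAut,
    show (diagAut g * fieldAut τ * (diagAut (itGL g) * itAut) * fieldAut τ * itAut : MulAut (PSLg n F)) =
      diagAut g * (fieldAut τ * diagAut (itGL g)) * (itAut * fieldAut τ) * itAut by group,
    CfsgLib.AutPSL.fieldAut_diagAut, CfsgLib.AutPSL.itAut_fieldAut,
    show (diagAut g * (diagAut (Matrix.GeneralLinearGroup.map τ.toRingHom (itGL g)) * fieldAut τ) *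
      (fieldAut τ * itAut) * itAut : MulAut (PSLg n F)) =
      diagAut g * diagAut (Matrix.GeneralLinearGroup.map τ.toRingHom (itGL g)) * (fieldAut τ * fieldAut τ) *
        (itAut * itAut) by group, CfsgLib.AutPSL.itAut_mul_self, mul_one, ← map_mul, ← map_mul]

variable [Fintype F]

/-- S2686. -/
theorem psl_local_balance {r : ℕ} [Fact r.Prime] [CharP F r] (hn : 2 ≤ n)
    {G : Subgroup (MulAut (PSLg n F))} (hinn : ∀ k : PSLg n F, MulAut.conj k ∈ G)
    {p : ℕ} [Fact p.Prime] (hpr : p ≠ r) {x : MulAut (PSLg n F)} (hord : orderOf x = p)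
    (hnot : ¬ Cfsg.IsInnerDiagonalAutPSL x) :
    Cfsg.pPrimeCore p ↥(G ⊓ Subgroup.centralizer {x}) ≠ ⊥ ↔
      ((∃ γ φ : MulAut (PSLg n F), Cfsg.IsInnerDiagonalAutPSL γ ∧ Cfsg.IsFieldAutPSL φ ∧ x = φ.trans γ) ∧
        Nat.Coprime p (Nat.card ↥(fixPts x))) := by
  haveI : Finite (PSLg n F) := Quotient.finite _
  have hZ := psl_center (F := F) hn
  obtain ⟨g, τ, h | ⟨h3, h⟩⟩ := CfsgLib.AutPSL.aut_decomposition hn x
  · -- field case
    have hxp : (diagAut g * fieldAut τ : MulAut (PSLg n F)) ^ p = 1 := by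
      rw [← h, ← hord]; exact pow_orderOf_eq_one x
    have hτ1 : τ ≠ 1 := fun h1 => hnot (CfsgLib.AutPSL.isInnerDiagonalAutPSL_iff.mpr
      ⟨g, by rw [h, h1, map_one, mul_one]⟩)
    have hτp : orderOf τ = p := by
      refine orderOf_eq_prime ?_ hτ1
      obtain ⟨P, hP, -⟩ := CfsgLib.AutPSL.pow_semilinear g τ p
      rw [hP] at hxp
      exact (CfsgLib.AutPSL.semilinear_eq_one hn hxp).2
    obtain ⟨d, hd⟩ := CfsgLib.AutPSL.field_coset_conj hn hτp hxp
    rw [← h] at hd
    have hcl : ∃ γ φ : MulAut (PSLg n F),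
        Cfsg.IsInnerDiagonalAutPSL γ ∧ Cfsg.IsFieldAutPSL φ ∧ x = φ.trans γ :=
      ⟨diagAut g, fieldAut τ, CfsgLib.AutPSL.isInnerDiagonalAutPSL_iff.mpr ⟨g, rfl⟩,
        CfsgLib.AutPSL.isFieldAutPSL_iff.mpr ⟨τ, rfl⟩, h⟩
    have hdvd : ∀ k, k ∈ fixPts x ↔ (diagAut d)⁻¹ k ∈ fixPts (fieldAut τ : MulAut (PSLg n F)) := fun k => by
      rw [mem_fixPts, mem_fixPts, hd]
      show diagAut d (fieldAut τ ((diagAut d)⁻¹ k)) = k ↔ _
      rw [← (diagAut d).apply_eq_iff_eq (x := fieldAut τ ((diagAut d)⁻¹ k)) (y := (diagAut d)⁻¹ k),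
        MulAut.apply_inv_self]
    refine ⟨fun hne => ⟨hcl, ?_⟩, fun ⟨_, hcop⟩ => pPrimeCore_ne_bot hZ hinn ?_ hcop⟩
    · by_contra hc
      rw [(Fact.out : p.Prime).coprime_iff_not_dvd, not_not,
        Nat.card_congr ((diagAut d)⁻¹.toEquiv.subtypeEquiv hdvd)] at hc
      exact hne (hd ▸ ((witness_field τ hn (r := r) hpr hc).map (diagAut d)).pPrimeCore_eq_bot hZ hinn (hd ▸ hord))
    · intro hbot
      let i₀ : Fin n := ⟨0, by omega⟩
      let i₁ : Fin n := ⟨1, by omega⟩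
      have h01 : i₀ ≠ i₁ := by simp [i₀, i₁, Fin.ext_iff]
      let t : PSLg n F := QuotientGroup.mk (Matrix.SpecialLinearGroup.transvection h01 (1 : F))
      have ht : (fieldAut τ : MulAut (PSLg n F)) t = t := by
        rw [CfsgLib.AutPSL.fieldAut_mk]
        refine congrArg _ (Subtype.ext ?_)
        rw [CfsgLib.AutPSL.fieldSL_coe, Matrix.SpecialLinearGroup.transvection_coe, Matrix.map_add τ (map_add τ),
          Matrix.map_one τ (map_zero τ) (map_one τ), Matrix.map_single, map_one]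
      have h1 : diagAut d t ∈ fixPts x := by
        rw [hdvd, MulAut.inv_apply_self]; exact ht
      rw [hbot, Subgroup.mem_bot, MulEquiv.map_eq_one_iff] at h1
      obtain ⟨e, he⟩ := (psl_mk_one_iff _).mp h1
      have h4 := congrFun (congrFun he i₀) i₁
      rw [Matrix.SpecialLinearGroup.transvection_coe] at h4
      simp [h01] at h4
  · -- graph and graph-field case
    have hn3 : 3 ≤ n := h3
    have hnotsemi : x ∉ semiAutsPSL n F := by
      rintro ⟨g', τ', h'⟩
      rw [h] at h'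
      have hit : (itAut : MulAut (PSLg n F)) ∈ semiAutsPSL n F := by
        rw [show (itAut : MulAut (PSLg n F)) = (diagAut g * fieldAut τ)⁻¹ * (diagAut g' * fieldAut τ') by
          rw [← h']; group]
        exact mul_mem (inv_mem ⟨g, τ, rfl⟩) ⟨g', τ', rfl⟩
      obtain ⟨g'', τ'', h''⟩ := hit
      exact CfsgLib.AutPSL.itAut_ne_semilinear hn3 g'' τ'' h''
    have hx2 : x * x ∈ semiAutsPSL n F := by rw [h, sq_it]; exact ⟨_, _, rfl⟩
    have hp2 : p = 2 := by
      by_contra hp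
      obtain ⟨k, hk⟩ := (Fact.out : p.Prime).odd_of_ne_two hp
      have h1 := pow_orderOf_eq_one x
      rw [hord, hk, pow_succ, pow_mul, pow_two] at h1
      refine hnotsemi ?_
      rw [eq_inv_of_mul_eq_one_right h1]
      exact inv_mem (pow_mem hx2 k)
    subst hp2
    have h2 : (2 : F) ≠ 0 := fun h0 => hpr ((Nat.prime_dvd_prime_iff_eq Fact.out Nat.prime_two).mp
      ((CharP.cast_eq_zero_iff F r 2).mp (by exact_mod_cast h0))).symm
    have hττ : τ * τ = 1 := by
      have h1 : x ^ 2 = 1 := by rw [← hord]; exact pow_orderOf_eq_one x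
      rw [pow_two, h, sq_it] at h1
      exact (CfsgLib.AutPSL.semilinear_eq_one hn h1).2
    have hnf : ¬ ∃ γ φ : MulAut (PSLg n F),
        Cfsg.IsInnerDiagonalAutPSL γ ∧ Cfsg.IsFieldAutPSL φ ∧ x = φ.trans γ := by
      rintro ⟨γ, φ, hγ, hφ, hxe⟩
      obtain ⟨g', rfl⟩ := CfsgLib.AutPSL.isInnerDiagonalAutPSL_iff.mp hγ
      obtain ⟨τ', rfl⟩ := CfsgLib.AutPSL.isFieldAutPSL_iff.mp hφ
      exact hnotsemi ⟨g', τ', hxe⟩
    have hbot : Cfsg.pPrimeCore 2 ↥(G ⊓ Subgroup.centralizer {x}) = ⊥ := by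
      by_cases hτ : τ = 1
      · subst hτ
        have hxg : x = CfsgLib.AutPSL.graphAut g := by rw [h, map_one, mul_one]; rfl
        obtain ⟨B, hB, hsym⟩ := CfsgLib.AutPSL.graphAut_normal_form hn3
          (CfsgLib.AutPSL.isGraphAutClassPSL_iff.mpr ⟨hn3, g, hxg⟩) hord
        have hxB : x = diagAut B * fieldAut 1 * itAut := by rw [map_one, mul_one]; exact hB
        rcases hsym with hs | hs
        · have hs' : (B⁻¹).1ᵀ = (B⁻¹).1 := by
            have h1 : (B⁻¹).1ᵀ * B.1ᵀ = 1 := by rw [← Matrix.transpose_mul, Units.mul_inv, Matrix.transpose_one]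
            rw [hs] at h1
            calc (B⁻¹).1ᵀ = (B⁻¹).1ᵀ * B.1 * (B⁻¹).1 := by rw [Matrix.mul_assoc, Units.mul_inv, Matrix.mul_one]
              _ = _ := by rw [h1, Matrix.one_mul]
          let H := orthForm (B⁻¹).1 hs' (Matrix.GeneralLinearGroup.det_ne_zero _) h2
          have w := witness_refl hn3 H B 1 rfl hs'.symm
          exact hxB ▸ w.pPrimeCore_eq_bot hZ hinn (hxB ▸ hord)
        · obtain ⟨L, w⟩ := witness_symp hn3 h2 B hs
          exact hxB ▸ w.pPrimeCore_eq_bot hZ hinn (hxB ▸ hord)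
      · have hτ2 : orderOf τ = 2 := orderOf_eq_prime (by rw [pow_two, hττ]) hτ
        obtain ⟨d, hd⟩ := CfsgLib.AutPSL.graphField_coset_conj hn hτ2 (g := g) (by
          rw [← mul_assoc, ← h, ← hord]; exact pow_orderOf_eq_one x)
        rw [← mul_assoc, ← h] at hd
        let H := stdHermForm (n := n) τ hτ2 h2
        have w := witness_refl hn3 H 1 τ rfl (by
          show (1 : Matrix (Fin n) (Fin n) F) = _
          rw [inv_one, Units.val_one, Matrix.transpose_one])
        rw [map_one, one_mul] at w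
        exact hd ▸ (w.map (diagAut d)).pPrimeCore_eq_bot hZ hinn (hd ▸ hord)
    exact ⟨fun hne => absurd hbot hne, fun hr => absurd hr.1 hnf⟩

end CfsgLib.LocalBalance
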