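import Mathlib
import Cfsg.Agent.Lib.LocalBalance.PSUCent

/-!
Local balance at field automorphisms of odd prime order of `PSU_n(q)`.
-/

set_option autoImplicit false
set_option linter.unusedSectionVars false
set_option linter.style.haveILetI false
set_option maxHeartbeats 800000

namespace CfsgLib.LocalBalance

open Matrix Cfsg
open CfsgLib.Classical.Herm CfsgLib.Classical.Herm.HermSpace
open CfsgLib.AutPSU (SUg GUg sMat uMat su_ext gu_ext sMat_mul uMat_mul NormOne normOne_spec suGU suGU_coe simAut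
  simAut_mk fieldAut fieldAut_mk conjSU conjSU_coe fieldSU_coe baseGU baseGU_coe guCentralizer detN detN_coe
  uMat_inv_mul simAut_suGU)
open CfsgLib.AutPSL (fixedField mem_fixedField)

theorem sMat_pow {n : ℕ} {F : Type*} [Field F] {q : ℕ} (s : SUg n F q) (i : ℕ) : sMat (s ^ i) = sMat s ^ i := by
  induction i with
  | zero => simp only [pow_zero]; rfl
  | succ i ih => rw [pow_succ, sMat_mul, ih, pow_succ]

/-- A field automorphism fixing the fixed field of `σ` is a power of `σ`. -/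
theorem mem_zpowers_of_fix_all {F : Type*} [Field F] [Fintype F] (σ τ : F ≃+* F) (h : ∀ b, σ b = b → τ b = b) :
    τ ∈ Subgroup.zpowers σ := by
  haveI : Finite (F ≃+* F) := Finite.of_injective _ DFunLike.coe_injective
  let K := FixedPoints.subfield (↥(Subgroup.zpowers σ)) F
  let τ' : F ≃ₐ[K] F := AlgEquiv.ofRingEquiv (f := τ) fun b => h b.1 (b.2 ⟨σ, Subgroup.mem_zpowers σ⟩)
  obtain ⟨g, hg⟩ := FixedPoints.toAlgAut_surjective (↥(Subgroup.zpowers σ)) F τ'
  have : (g : F ≃+* F) = τ := RingEquiv.ext fun a => DFunLike.congr_fun hg a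
  rw [← this]; exact g.2

variable {n : ℕ} {F : Type*} [Field F] [Fintype F] {q : ℕ} {F₀ : Type*} [Field F₀] [Fintype F₀] {q₀ : ℕ}
  (hF : Fintype.card F = q ^ 2) (hF₀ : Fintype.card F₀ = q₀ ^ 2) (ι : F₀ →+* F) (hq : ∀ a, ι a ^ q = ι (a ^ q₀))
  (σ : F ≃+* F) (hι : ∀ a, σ (ι a) = ι a) (hι' : ∀ x, σ x = x → ∃ a, ι a = x)
  (hn : 3 ≤ n) (hs : ¬ (n = 3 ∧ q = 2))

/-- `SU` of the subfield inside `SU`. -/
noncomputable def baseSU : SUg n F₀ q₀ →* SUg n F q where
  toFun s := ⟨⟨(sMat s).map ι, by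
      show (ι.mapMatrix (sMat s)).det = 1
      rw [← RingHom.map_det, show (sMat s).det = 1 from s.1.2, map_one]⟩,
    (baseGU hF hF₀ ι hq (suGU s)).2⟩
  map_one' := su_ext (Matrix.map_one _ (map_zero ι) (map_one ι))
  map_mul' s t := su_ext (Matrix.map_mul (f := ι))

theorem baseSU_coe (s : SUg n F₀ q₀) : sMat (baseSU hF hF₀ ι hq s) = (sMat s).map ι := rfl

theorem suGU_baseSU (s : SUg n F₀ q₀) : suGU (baseSU hF hF₀ ι hq s) = baseGU hF hF₀ ι hq (suGU s) := gu_ext rfl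

/-- `SU` of the subfield inside `PSU`. -/
noncomputable def basePSU : SUg n F₀ q₀ →* Cfsg.PSU n F q :=
  (QuotientGroup.mk' (Subgroup.center (SUg n F q))).comp (baseSU hF hF₀ ι hq)

theorem basePSU_apply (s : SUg n F₀ q₀) :
    basePSU hF hF₀ ι hq s = (QuotientGroup.mk (baseSU hF hF₀ ι hq s) : Cfsg.PSU n F q) := rfl

include hn in
theorem basePSU_one_iff (s : SUg n F₀ q₀) : basePSU hF hF₀ ι hq s = 1 ↔ ∃ a : F₀, sMat s = a • 1 := by
  rw [basePSU_apply, psu_mk_one_iff hF hn, baseSU_coe]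
  constructor
  · rintro ⟨e, he⟩
    refine ⟨sMat s ⟨0, by omega⟩ ⟨0, by omega⟩, Matrix.ext fun i j => ι.injective ?_⟩
    have h0 := congrFun (congrFun he ⟨0, by omega⟩) ⟨0, by omega⟩
    have h1 := congrFun (congrFun he i) j
    rw [Matrix.map_apply] at h0 h1
    rw [h1]
    by_cases hij : i = j
    · subst hij; simp [h0]
    · simp [hij]
  · rintro ⟨a, ha⟩
    refine ⟨ι a, ?_⟩
    rw [ha]
    ext i j
    by_cases hij : i = j
    · subst hij; simp
    · simp [hij]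

include hn in
/-- The image is `PSU` of the subfield. -/
theorem basePSU_range_equiv : Nonempty (Cfsg.PSU n F₀ q₀ ≃* ↥(basePSU (n := n) hF hF₀ ι hq).range) := by
  have hker : (basePSU (n := n) hF hF₀ ι hq).ker = Subgroup.center (SUg n F₀ q₀) := by
    ext s
    rw [MonoidHom.mem_ker, basePSU_one_iff hF hF₀ ι hq hn, su_center_iff hF₀ hn]
  exact ⟨(QuotientGroup.quotientMulEquivOfEq hker.symm).trans (QuotientGroup.quotientKerEquivRange _)⟩

include hι in
theorem fix_basePSU (s : SUg n F₀ q₀) :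
    basePSU hF hF₀ ι hq s ∈ fixPts (fieldAut σ : MulAut (Cfsg.PSU n F q)) := by
  rw [mem_fixPts, basePSU_apply, fieldAut_mk]
  refine congrArg _ (su_ext ?_)
  rw [fieldSU_coe, baseSU_coe]
  ext i j
  exact hι _

include hn hs hι hι' in
theorem conj_fixed_psu {k : Cfsg.PSU n F q} (hk : k ∈ fixPts (fieldAut σ : MulAut (Cfsg.PSU n F q))) :
    ∃ B : GUg n F₀ q₀, MulAut.conj k = simAut (baseGU hF hF₀ ι hq B) := by
  obtain ⟨s, rfl⟩ := QuotientGroup.mk_surjective k
  have hmem : suGU s ∈ guCentralizer (n := n) (q := q) σ := by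
    show simAut (suGU s) ∈ Subgroup.centralizer {(fieldAut σ : MulAut (Cfsg.PSU n F q))}
    refine Subgroup.mem_centralizer_singleton_iff.mpr ?_
    rw [simAut_suGU]
    have h := mul_conj (fieldAut σ) (QuotientGroup.mk s : Cfsg.PSU n F q)
    rw [mem_fixPts.mp hk, mul_inv_eq_iff_eq_mul] at h
    exact h.symm
  rw [CfsgLib.AutPSU.guCentralizer_eq hF hF₀ ι hq σ hι hι' hn hs] at hmem
  obtain ⟨⟨u, B⟩, hB⟩ := hmem
  refine ⟨B, ?_⟩
  rw [← simAut_suGU, ← hB, CfsgLib.AutPSU.fixedHom_apply, map_mul, CfsgLib.AutPSU.simAut_scalarGU hF hn hs, one_mul]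

theorem sim_basePSU (B : GUg n F₀ q₀) (s : SUg n F₀ q₀) :
    simAut (baseGU hF hF₀ ι hq B) (basePSU hF hF₀ ι hq s) = basePSU hF hF₀ ι hq (conjSU B s) := by
  rw [basePSU_apply, basePSU_apply, simAut_mk]
  refine congrArg _ (su_ext ?_)
  rw [conjSU_coe, baseSU_coe, baseSU_coe, conjSU_coe, Matrix.map_mul, Matrix.map_mul, ← map_inv, baseGU_coe,
    baseGU_coe]

include hF₀ in
theorem exists_normOne_ne : ∃ ζ : ↥(NormOne F₀ q₀), ζ ≠ 1 := by
  have hk2 := two_le_of_card hF₀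
  have hcard : Nat.card ↥(NormOne F₀ q₀) = q₀ + 1 := card_normOne_units hF₀
  by_contra! hcon
  have : Subsingleton ↥(NormOne F₀ q₀) := ⟨fun a b => by rw [hcon a, hcon b]⟩
  rw [Nat.card_of_subsingleton (1 : ↥(NormOne F₀ q₀))] at hcard
  omega

include hn in
/-- Diagonal elements give non-trivial fixed points. -/
theorem exists_diag_image {p : ℕ} {ζ : ↥(NormOne F₀ q₀)} (hζ : ζ ≠ 1) (hζp : ζ ^ p = 1) :
    ∃ x ∈ (basePSU (n := n) hF hF₀ ι hq).range, x ≠ 1 ∧ x ^ p = 1 := by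
  let i : Fin n := ⟨0, by omega⟩
  let j : Fin n := ⟨1, by omega⟩
  let c : Fin n := ⟨2, by omega⟩
  have hij : i ≠ j := by simp [i, j, Fin.ext_iff]
  have hci : c ≠ i := by simp [i, c, Fin.ext_iff]
  have hcj : c ≠ j := by simp [j, c, Fin.ext_iff]
  obtain ⟨d, hd⟩ := exists_diag (K := F₀) (k := q₀) hij ζ
  refine ⟨_, ⟨d, rfl⟩, ?_, ?_⟩
  · intro h1
    obtain ⟨a, ha⟩ := (basePSU_one_iff hF hF₀ ι hq hn d).mp h1
    rw [hd] at ha
    have e1 := congrFun (congrFun ha i) i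
    have e2 := congrFun (congrFun ha c) c
    simp [hci, hcj] at e1 e2
    exact hζ (Subtype.ext (Units.ext (by rw [e1, ← e2]; rfl)))
  · rw [← map_pow]
    refine (basePSU_one_iff hF hF₀ ι hq hn _).mpr ⟨1, ?_⟩
    rw [sMat_pow, hd, Matrix.diagonal_pow, one_smul]
    rw [← Matrix.diagonal_one]
    refine congrArg Matrix.diagonal (funext fun a => ?_)
    have h1 : (ζ.1 : F₀) ^ p = 1 := by
      rw [← Units.val_pow_eq_pow_val, ← SubgroupClass.coe_pow, hζp]; rfl
    simp only [Pi.pow_apply]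
    split_ifs
    · exact h1
    · rw [Units.val_inv_eq_inv_val, inv_pow, h1, inv_one]
    · exact one_pow p

include hn hs hι hι' in
theorem prime_dvd_basePSU {p : ℕ} [Fact p.Prime]
    (hdvd : p ∣ Nat.card ↥(fixPts (fieldAut σ : MulAut (Cfsg.PSU n F q)))) :
    p ∣ Nat.card ↥(basePSU (n := n) hF hF₀ ι hq).range := by
  haveI : Finite (Cfsg.PSU n F q) := Quotient.finite _
  have hp : p.Prime := Fact.out
  have hcard : Nat.card ↥(NormOne F₀ q₀) = q₀ + 1 := card_normOne_units hF₀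
  by_cases hpm : p ∣ q₀ + 1
  · haveI : Finite ↥(NormOne F₀ q₀) := inferInstance
    obtain ⟨ζ, hζ⟩ := exists_prime_orderOf_dvd_card' (G := ↥(NormOne F₀ q₀)) p (hcard ▸ hpm)
    obtain ⟨x, hx, hx1, hxp⟩ := exists_diag_image (n := n) hF hF₀ ι hq hn
      (fun h => hp.ne_one (by rw [← hζ, h, orderOf_one])) (hζ ▸ pow_orderOf_eq_one ζ)
    rw [← orderOf_eq_prime hxp hx1]
    exact Subgroup.orderOf_dvd_natCard _ hx
  · obtain ⟨⟨k, hk⟩, hord⟩ := exists_prime_orderOf_dvd_card' p hdvd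
    rw [Subgroup.orderOf_mk] at hord
    obtain ⟨B, hB⟩ := conj_fixed_psu hF hF₀ ι hq σ hι hι' hn hs hk
    obtain ⟨t, ht⟩ := CfsgLib.AutPSU.exists_suGU hF₀ (g := B ^ (q₀ + 1)) (by
      rw [map_pow]; exact Subtype.ext (MonoidHom.mem_ker.mp (detN hF₀ B).2))
    have hmem : k ^ (q₀ + 1) ∈ (basePSU (n := n) hF hF₀ ι hq).range := by
      refine ⟨t, conj_injective (psu_center hF hn) ?_⟩
      rw [map_pow, hB, basePSU_apply, ← simAut_suGU, suGU_baseSU, ht, map_pow, map_pow]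
    have ho : orderOf (k ^ (q₀ + 1)) = p := by
      rw [Nat.Coprime.orderOf_pow (by rw [hord]; exact hp.coprime_iff_not_dvd.mpr hpm), hord]
    exact ho ▸ Subgroup.orderOf_dvd_natCard _ hmem

include hn hs hι hι' in
theorem witness_psu_field {p : ℕ} [Fact p.Prime] (hp2 : p ≠ 2)
    (hdvd : p ∣ Nat.card ↥(fixPts (fieldAut σ : MulAut (Cfsg.PSU n F q)))) :
    Witness p (fieldAut σ : MulAut (Cfsg.PSU n F q)) (basePSU (n := n) hF hF₀ ι hq).range := by
  refine ⟨?_, ?_, ?_, ?_⟩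
  · rintro _ ⟨s, rfl⟩; exact fix_basePSU hF hF₀ ι hq σ hι s
  · rintro k hk _ ⟨s, rfl⟩
    obtain ⟨B, hB⟩ := conj_fixed_psu hF hF₀ ι hq σ hι hι' hn hs hk
    exact ⟨conjSU B s, by rw [← sim_basePSU, ← hB, MulAut.conj_apply]⟩
  · intro M hM hcop
    obtain ⟨e⟩ := basePSU_range_equiv (n := n) hF hF₀ ι hq hn
    haveI : Finite (Cfsg.PSU n F₀ q₀) := Quotient.finite _
    have hd : p ∣ Nat.card (Cfsg.PSU n F₀ q₀) := by
      rw [Nat.card_congr e.toEquiv]; exact prime_dvd_basePSU hF hF₀ ι hq σ hι hι' hn hs hdvd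
    have h := psu_core hF₀ hn hp2 hd (M.map e.symm.toMonoidHom) (hM.map _ e.symm.surjective) (by
      rw [Subgroup.card_map_of_injective e.symm.injective]; exact hcop)
    exact (Subgroup.map_eq_bot_iff_of_injective _ e.symm.injective).mp h
  · intro y _ hy
    obtain ⟨g, τ, hyd⟩ := CfsgLib.AutPSU.aut_decomposition hF hn hs y
    obtain ⟨a, ha, hτ⟩ := su_semilinear_scalar hF₀ hn ι τ (uMat g) (Matrix.GeneralLinearGroup.det_ne_zero g.1)
      fun s => by
        have h1 := hy _ ⟨s, rfl⟩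
        rw [hyd, MulAut.mul_apply, basePSU_apply, fieldAut_mk, simAut_mk] at h1
        obtain ⟨e, he⟩ := psu_mk_eq hF hn h1.symm
        rw [conjSU_coe, fieldSU_coe, baseSU_coe] at he
        refine ⟨e, ?_⟩
        have h2 := congrArg (· * uMat g) he
        simp only [Matrix.mul_assoc, uMat_inv_mul, Matrix.mul_one, Matrix.smul_mul] at h2
        exact h2
    rw [hyd, (CfsgLib.AutPSU.simAut_eq_one_iff hF hn hs).mpr ⟨a, ha⟩, one_mul, ← MonoidHom.map_zpowers]
    refine Subgroup.mem_map_of_mem _ (mem_zpowers_of_fix_all σ τ fun b hb => ?_)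
    obtain ⟨x, rfl⟩ := hι' b hb
    exact hτ x

end CfsgLib.LocalBalance
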