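import Mathlib
import Cfsg.Agent.Lib.LocalBalance.PSUField
import Cfsg.Agent.Lib.LocalBalance.PSLGraph
import Cfsg.Agent.Lib.AutPSU.GraphClass

/-!
Local balance at involutory graph automorphisms of `PSU_n(q)`, `q` odd.
-/

set_option autoImplicit false
set_option linter.unusedSectionVars false
set_option linter.style.haveILetI false
set_option maxHeartbeats 800000

namespace CfsgLib.LocalBalance

open Matrix Cfsg
open CfsgLib.Classical.Herm CfsgLib.Classical.Herm.HermSpace
open CfsgLib.AutPSU (SUg GUg sMat uMat su_ext gu_ext sMat_mul uMat_mul suGU suGU_coe simAut simAut_mk fieldAut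
  fieldAut_mk conjSU_coe fieldSU_coe qEquiv cj cj_mul cj_one graphU Model uMat_mul_inv uMat_inv_mul simAut_suGU)

variable {n : ℕ} {F : Type*} [Field F] [Fintype F] {q : ℕ} (hF : Fintype.card F = q ^ 2) (hn : 3 ≤ n)
  (hs : ¬ (n = 3 ∧ q = 2)) {F₀ : Type*} [Field F₀] [Fintype F₀] (j : F₀ →+* F) (hj : ∀ a, qPow hF (j a) = j a)
  (hj' : ∀ x, qPow hF x = x → ∃ a, j a = x)

include hn hs hj hj' in
/-- A group of determinant one isometries of a model, large enough, witnesses a trivial core. -/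
theorem witness_model {g : GUg n F q} {B : GL (Fin n) F₀} (hM : Model hF j g (B : Matrix (Fin n) (Fin n) F₀))
    {G₀ : Type*} [Group G₀] [Finite G₀] (ρ : G₀ →* GL (Fin n) F₀)
    (hiso : ∀ x, (ρ x).1ᵀ * B.1 * (ρ x).1 = B.1 ∧ (ρ x).1.det = 1)
    (hconj : ∀ (R : GL (Fin n) F₀) (c : F₀), c ≠ 0 → R.1ᵀ * B.1 * R.1 = c • B.1 →
      ∀ x, ∃ y, ρ y = R * ρ x * R⁻¹)
    (scal : ∀ (G : Matrix (Fin n) (Fin n) F) (τ : F ≃+* F), G.det ≠ 0 →
      (∀ x, ∃ lam : F, G * ((ρ x).1.map j).map τ = lam • ((ρ x).1.map j * G)) →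
        ∃ a : F, G = a • 1 ∧ ∀ b, τ (j b) = j b)
    (core : ∀ θ : G₀ →* Cfsg.PSU n F q,
      (∀ x, θ x = 1 ↔ ∃ a : F₀, (ρ x).1 = a • (1 : Matrix (Fin n) (Fin n) F₀)) →
        ∀ M : Subgroup ↥θ.range, M.Normal → (Nat.card ↥M).Coprime 2 → M = ⊥) :
    ∃ L, Witness 2 (graphU hF g) L ∧ 2 ∣ Nat.card ↥L := by
  classical
  obtain ⟨K, K', s, t, hKK, hKK', hs0, ht0, hgK, hKB⟩ := hM
  have hcK : cj hF K * cj hF K' = 1 := by rw [← cj_mul, hKK, cj_one]
  have hcK' : cj hF K' * uMat g⁻¹ = s⁻¹ • K' := by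
    have h1 : uMat g = s • (K * cj hF K') := by
      rw [← Matrix.smul_mul, ← hgK, Matrix.mul_assoc, hcK, Matrix.mul_one]
    have h2 := uMat_mul_inv g
    rw [h1, Matrix.smul_mul, Matrix.mul_assoc] at h2
    have h3 := congrArg (fun A => K' * A) h2
    simp only [Matrix.mul_smul, ← Matrix.mul_assoc, hKK', Matrix.one_mul, Matrix.mul_one] at h3
    exact (eq_inv_smul_iff₀ hs0).mpr h3
  let mat : G₀ → Matrix (Fin n) (Fin n) F := fun x => K * (ρ x).1.map j * K'
  have hdet : ∀ x, (mat x).det = 1 := fun x => by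
    show (K * (ρ x).1.map j * K').det = 1
    rw [Matrix.det_conj_of_mul_eq_one hKK hKK', show (ρ x).1.map j = j.mapMatrix (ρ x).1 from rfl,
      ← RingHom.map_det, (hiso x).2, map_one]
  have hgram : ∀ x, (mat x)ᵀ * cj hF (mat x) = 1 := fun x => by
    show (K * (ρ x).1.map j * K')ᵀ * cj hF (K * (ρ x).1.map j * K') = 1
    rw [cj_mul, cj_mul, CfsgLib.AutPSU.cj_map hF j hj, Matrix.transpose_mul, Matrix.transpose_mul]
    calc K'ᵀ * (((ρ x).1.map j)ᵀ * Kᵀ) * (cj hF K * (ρ x).1.map j * cj hF K') =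
          K'ᵀ * (((ρ x).1.map j)ᵀ * (Kᵀ * cj hF K) * (ρ x).1.map j) * cj hF K' := by
          simp only [Matrix.mul_assoc]
      _ = K'ᵀ * (Kᵀ * cj hF K) * cj hF K' := by
          congr 2
          rw [hKB, ← Matrix.transpose_map, Matrix.mul_smul, Matrix.smul_mul, ← Matrix.map_mul, ← Matrix.map_mul,
            (hiso x).1]
      _ = _ := by
          rw [← Matrix.mul_assoc, ← Matrix.transpose_mul, hKK, Matrix.transpose_one, Matrix.one_mul, hcK]
  have hex : ∀ x, ∃ a : SUg n F q, sMat a = mat x := fun x => by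
    obtain ⟨u, hu⟩ := CfsgLib.AutPSU.exists_gu_of_gram hF (hgram x)
    refine ⟨⟨⟨mat x, hdet x⟩, ?_⟩, rfl⟩
    intro v w
    show Cfsg.hermForm n F q (mat x *ᵥ v) (mat x *ᵥ w) = _
    rw [← hu]; exact u.2 v w
  choose el hel using hex
  let θ₀ : G₀ →* SUg n F q := MonoidHom.mk' el fun x y => su_ext (by
    rw [sMat_mul, hel, hel, hel]
    show K * (ρ (x * y)).1.map j * K' = (K * (ρ x).1.map j * K') * (K * (ρ y).1.map j * K')
    rw [map_mul, Units.val_mul, Matrix.map_mul]
    calc K * ((ρ x).1.map j * (ρ y).1.map j) * K' = K * (ρ x).1.map j * ((K' * K) * (ρ y).1.map j) * K' := by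
          rw [hKK', Matrix.one_mul]; simp only [Matrix.mul_assoc]
      _ = _ := by simp only [Matrix.mul_assoc])
  let θ : G₀ →* Cfsg.PSU n F q := (QuotientGroup.mk' (Subgroup.center (SUg n F q))).comp θ₀
  have hθ₀ : ∀ x, sMat (θ₀ x) = K * (ρ x).1.map j * K' := hel
  have hθ : ∀ x, θ x = (QuotientGroup.mk (θ₀ x) : Cfsg.PSU n F q) := fun _ => rfl
  let i₀ : Fin n := ⟨0, by omega⟩
  have hone : ∀ x, θ x = 1 ↔ ∃ a : F₀, (ρ x).1 = a • (1 : Matrix (Fin n) (Fin n) F₀) := by
    intro x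
    rw [hθ, psu_mk_one_iff hF hn, hθ₀]
    constructor
    · rintro ⟨e, he⟩
      have h1 : (ρ x).1.map j = e • 1 := by
        have h2 := congrArg (fun A => K' * A * K) he
        simp only [← Matrix.mul_assoc, hKK', Matrix.one_mul] at h2
        rw [Matrix.mul_assoc, hKK', Matrix.mul_one] at h2
        rw [h2, Matrix.mul_smul, Matrix.mul_one, Matrix.smul_mul, hKK']
      refine ⟨(ρ x).1 i₀ i₀, Matrix.ext fun i l => j.injective ?_⟩
      have h2 := congrFun (congrFun h1 i₀) i₀
      have h3 := congrFun (congrFun h1 i) l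
      rw [Matrix.map_apply] at h2 h3
      rw [h3]
      by_cases hil : i = l
      · subst hil; simp [h2]
      · simp [hil]
    · rintro ⟨a, ha⟩
      refine ⟨j a, ?_⟩
      rw [ha, show (a • (1 : Matrix (Fin n) (Fin n) F₀)).map j = j a • (1 : Matrix (Fin n) (Fin n) F) from ?_,
        Matrix.mul_smul, Matrix.mul_one, Matrix.smul_mul, hKK]
      ext i l
      by_cases hil : i = l
      · subst hil; simp
      · simp [hil]
  have hle : θ.range ≤ fixPts (graphU hF g) := by
    rintro _ ⟨x, rfl⟩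
    rw [mem_fixPts, hθ, graphU, MulAut.mul_apply, fieldAut_mk, simAut_mk]
    refine congrArg _ (su_ext ?_)
    rw [conjSU_coe, fieldSU_coe, hθ₀]
    show uMat g * cj hF (K * (ρ x).1.map j * K') * uMat g⁻¹ = _
    rw [cj_mul, cj_mul, CfsgLib.AutPSU.cj_map hF j hj,
      show uMat g * (cj hF K * (ρ x).1.map j * cj hF K') * uMat g⁻¹ =
        (uMat g * cj hF K) * (ρ x).1.map j * (cj hF K' * uMat g⁻¹) by simp only [Matrix.mul_assoc],
      hgK, hcK', Matrix.mul_smul, Matrix.smul_mul, Matrix.smul_mul, smul_smul, inv_mul_cancel₀ hs0, one_smul]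
  haveI : Finite (Cfsg.PSU n F q) := Quotient.finite _
  refine ⟨θ.range, ⟨hle, ?_, core θ hone, ?_⟩, ?_⟩
  · rintro k hk _ ⟨x, rfl⟩
    obtain ⟨a, rfl⟩ := QuotientGroup.mk_surjective k
    have hmem : simAut (suGU a) ∈ Subgroup.centralizer {graphU hF g} := by
      refine Subgroup.mem_centralizer_singleton_iff.mpr ?_
      rw [simAut_suGU]
      have h := mul_conj (graphU hF g) (QuotientGroup.mk a : Cfsg.PSU n F q)
      rw [mem_fixPts.mp hk, mul_inv_eq_iff_eq_mul] at h
      exact h.symm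
    obtain ⟨R, ρ', -, hρ0, hR, c, hRB, hc⟩ :=
      CfsgLib.AutPSU.exists_rel_of_mem hF hn hs j hj hj' hKK hKK' hs0 ht0 hgK hKB hmem
    have hc0 : c ≠ 0 := fun h0 => by
      rw [h0, map_zero, mul_zero] at hc; exact zero_ne_one hc
    obtain ⟨y, hy⟩ := hconj R c hc0 hRB x
    rw [suGU_coe] at hR
    refine ⟨y, ?_⟩
    rw [hθ, hθ, ← QuotientGroup.mk_mul, ← QuotientGroup.mk_inv, ← QuotientGroup.mk_mul]
    refine congrArg _ (su_ext ?_)
    rw [sMat_mul, sMat_mul, hθ₀, hθ₀, hy, Units.val_mul, Units.val_mul, Matrix.map_mul, Matrix.map_mul]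
    have ha : sMat a * sMat a⁻¹ = 1 := by rw [← sMat_mul, mul_inv_cancel]; rfl
    have hRR : R.1.map j * (R⁻¹).1.map j = 1 := by
      rw [← Matrix.map_mul, Units.mul_inv, Matrix.map_one _ (map_zero j) (map_one j)]
    have hinv : K * (R.1.map j) * ((ρ x).1.map j * ((R⁻¹).1.map j * K')) * sMat a =
        sMat a * (K * (ρ x).1.map j * K') := by
      have hK' : K' * sMat a = ρ' • (R.1.map j * K') := by
        have h1 := congrArg (fun A => K' * A * K') hR
        simp only [Matrix.mul_smul, Matrix.smul_mul, ← Matrix.mul_assoc, hKK', Matrix.one_mul] at h1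
        rw [Matrix.mul_assoc _ K, hKK, Matrix.mul_one] at h1
        exact h1
      have haK : sMat a * K = ρ' • (K * R.1.map j) := hR
      calc K * (R.1.map j) * ((ρ x).1.map j * ((R⁻¹).1.map j * K')) * sMat a =
            K * R.1.map j * (ρ x).1.map j * ((R⁻¹).1.map j * (K' * sMat a)) := by simp only [Matrix.mul_assoc]
        _ = ρ' • (K * R.1.map j * (ρ x).1.map j * K') := by
            rw [hK', Matrix.mul_smul, ← Matrix.mul_assoc ((R⁻¹).1.map j), ← Matrix.map_mul, Units.inv_mul,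
              Matrix.map_one _ (map_zero j) (map_one j), Matrix.one_mul, Matrix.mul_smul]
        _ = _ := by
            rw [← Matrix.mul_assoc (sMat a), ← Matrix.mul_assoc (sMat a), haK, Matrix.smul_mul, Matrix.smul_mul]
    have h2 := congrArg (· * sMat a⁻¹) hinv
    simp only [Matrix.mul_assoc, ha, Matrix.mul_one] at h2 ⊢
    exact h2
  · intro y _ hy
    obtain ⟨h, τ, hyd⟩ := CfsgLib.AutPSU.aut_decomposition hF hn hs y
    set G := K' * uMat h * K.map τ with hG
    have hKτ : K.map τ * K'.map τ = 1 := by rw [← Matrix.map_mul, hKK, Matrix.map_one _ (map_zero τ) (map_one τ)]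
    have hdetG : G.det ≠ 0 := by
      rw [hG, Matrix.det_mul, Matrix.det_mul]
      refine mul_ne_zero (mul_ne_zero ?_ (Matrix.GeneralLinearGroup.det_ne_zero h.1)) ?_
      · exact left_ne_zero_of_mul_eq_one (by rw [← Matrix.det_mul, hKK', Matrix.det_one])
      · exact left_ne_zero_of_mul_eq_one (by rw [← Matrix.det_mul, hKτ, Matrix.det_one])
    obtain ⟨a, ha, hτ⟩ := scal G τ hdetG fun x => by
      have h1 := hy _ ⟨x, rfl⟩
      rw [hyd, MulAut.mul_apply, hθ, fieldAut_mk, simAut_mk] at h1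
      obtain ⟨e, he⟩ := psu_mk_eq hF hn h1.symm
      rw [conjSU_coe, fieldSU_coe, hθ₀] at he
      refine ⟨e, ?_⟩
      have h2 := congrArg (fun A => K' * A * (uMat h * K.map τ)) he
      simp only [Matrix.map_mul, Matrix.mul_smul, Matrix.smul_mul, Matrix.mul_assoc] at h2
      rw [← Matrix.mul_assoc (uMat h⁻¹), uMat_inv_mul, Matrix.one_mul,
        show K'.map τ * K.map τ = 1 by rw [← Matrix.map_mul, hKK', Matrix.map_one _ (map_zero τ) (map_one τ)],
        Matrix.mul_one, ← Matrix.mul_assoc K' K, hKK', Matrix.one_mul] at h2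
      rw [hG]
      simpa only [Matrix.mul_assoc] using h2
    have hh : uMat h = a • (K * K'.map τ) := by
      have h2 := congrArg (fun A => K * A * K'.map τ) (hG ▸ ha : K' * uMat h * K.map τ = a • 1)
      simp only [Matrix.mul_smul, Matrix.smul_mul, Matrix.mul_one, ← Matrix.mul_assoc, hKK, Matrix.one_mul] at h2
      rw [Matrix.mul_assoc, hKτ, Matrix.mul_one] at h2
      exact h2
    obtain ⟨i, hi⟩ := Subgroup.mem_zpowers_iff.mp (mem_zpowers_of_fix_all (qEquiv hF) τ fun b hb => by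
      obtain ⟨b', rfl⟩ := hj' b hb
      exact hτ b')
    have h2 : qEquiv hF ^ (2 : ℤ) = 1 := by
      rw [show (2 : ℤ) = ((2 : ℕ) : ℤ) from rfl, zpow_natCast, ← CfsgLib.AutPSU.orderOf_qEquiv hF, pow_orderOf_eq_one]
    rcases Int.even_or_odd' i with ⟨l, rfl | rfl⟩
    · rw [_root_.zpow_mul, h2, _root_.one_zpow] at hi
      subst hi
      rw [show K'.map (1 : F ≃+* F) = K' from Matrix.ext fun i j => rfl, hKK] at hh
      rw [hyd, map_one, mul_one, (CfsgLib.AutPSU.simAut_eq_one_iff hF hn hs).mpr ⟨a, hh⟩]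
      exact one_mem _
    · rw [_root_.zpow_add, _root_.zpow_mul, h2, _root_.one_zpow, one_mul, _root_.zpow_one] at hi
      subst hi
      have hg' : uMat g = s • (K * cj hF K') := by
        rw [← Matrix.smul_mul, ← hgK, Matrix.mul_assoc, hcK, Matrix.mul_one]
      have : (simAut h : MulAut (Cfsg.PSU n F q)) = simAut g :=
        (CfsgLib.AutPSU.simAut_eq_iff hF hn hs).mpr ⟨a / s, by
          rw [hg', smul_smul, div_mul_cancel₀ _ hs0]; exact hh⟩
      rw [hyd, this]
      exact Subgroup.mem_zpowers _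
  · by_contra hodd
    have htop := core θ hone ⊤ inferInstance (by
      rw [Subgroup.card_top]; exact (Nat.prime_two.coprime_iff_not_dvd.mpr hodd).symm)
    have hsc : ∀ x, ∃ b : F₀, (ρ x).1 = b • (1 : Matrix (Fin n) (Fin n) F₀) := fun x =>
      (hone x).mp (congrArg Subtype.val ((Subgroup.eq_bot_iff_forall _).mp htop ⟨θ x, x, rfl⟩ (Subgroup.mem_top _)))
    let i₁ : Fin n := ⟨1, by omega⟩
    have h01 : i₀ ≠ i₁ := by simp [i₀, i₁, Fin.ext_iff]
    obtain ⟨a, ha, -⟩ := scal (Matrix.transvection i₀ i₁ (1 : F)) (RingEquiv.refl F)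
      (by rw [Matrix.det_transvection_of_ne _ _ h01]; exact one_ne_zero) fun x => by
        obtain ⟨b, hb⟩ := hsc x
        refine ⟨1, ?_⟩
        rw [one_smul, show ((ρ x).1.map j).map (RingEquiv.refl F) = (ρ x).1.map j from Matrix.ext fun i l => rfl, hb,
          show (b • (1 : Matrix (Fin n) (Fin n) F₀)).map j = j b • (1 : Matrix (Fin n) (Fin n) F) from ?_,
          Matrix.mul_smul, Matrix.mul_one, Matrix.smul_mul, Matrix.one_mul]
        ext i l
        by_cases hil : i = l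
        · subst hil; simp
        · simp [hil]
    have := congrFun (congrFun ha i₀) i₁
    simp [Matrix.transvection, h01] at this

include hn hs hj hj' in
/-- The symmetric models. -/
theorem witness_sym {g : GUg n F q} {B : GL (Fin n) F₀} (hM : Model hF j g (B : Matrix (Fin n) (Fin n) F₀))
    (h2 : (2 : F₀) ≠ 0) (hB : B.1ᵀ = B.1) :
    ∃ L, Witness 2 (graphU hF g) L ∧ 2 ∣ Nat.card ↥L := by
  let H := orthForm B.1 hB (Matrix.GeneralLinearGroup.det_ne_zero B) h2
  have hid : ∀ A : Matrix (Fin n) (Fin n) F₀, A.map H.σ = A := fun A => Matrix.ext fun i l => rfl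
  refine witness_model hF hn hs j hj hj' hM H.isoSL.subtype ?_ ?_ ?_ ?_
  · intro x
    refine ⟨?_, ?_⟩
    · have h := H.mat_of_iso x.2.1
      rwa [hid] at h
    · have h := congrArg Units.val (MonoidHom.mem_ker.mp x.2.2)
      rwa [Matrix.GeneralLinearGroup.val_det_apply] at h
  · intro R c hc hR x
    refine ⟨⟨_, H.conj_mem_isoSL hc (H.form_scaled_of_mat (A := R.1) ?_) x.2⟩, rfl⟩
    rw [hid]; exact hR
  · intro G τ hG h
    exact H.semilinear_scalar j hn τ G hG fun v w hv hw => h ⟨_, H.refl_mul_mem hv hw⟩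
  · intro θ hθ M hM' hc
    exact H.core_refl hn θ hθ M hM' hc

open CfsgLib.Linear.Symp in
include hn hs hj hj' in
/-- The alternating models. -/
theorem witness_alt {g : GUg n F q} {B : GL (Fin n) F₀} (hM : Model hF j g (B : Matrix (Fin n) (Fin n) F₀))
    (h2 : (2 : F₀) ≠ 0) (hB : B.1ᵀ = -B.1) :
    ∃ L, Witness 2 (graphU hF g) L ∧ 2 ∣ Nat.card ↥L := by
  classical
  obtain ⟨m, hm, P, P', hPP, hPP', hP⟩ :=
    CfsgLib.AutPSL.congr_alternating (CfsgLib.AutPSL.diag_zero_of_skew h2 hB) hB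
      (Matrix.GeneralLinearGroup.det_ne_zero B)
  rw [Fintype.card_fin] at hm
  have hm2 : 2 ≤ m := by omega
  have hPJ : P'ᵀ * Matrix.J (Fin m) F₀ * P' = B.1 := by
    rw [← hP]
    calc P'ᵀ * (Pᵀ * B.1 * P) * P' = (P * P')ᵀ * B.1 * (P * P') := by
          simp only [Matrix.transpose_mul, Matrix.mul_assoc]
      _ = _ := by rw [hPP, Matrix.transpose_one, Matrix.one_mul, Matrix.mul_one]
  let ρ₀ : ↥(symplecticGroup (Fin m) F₀) →* Matrix (Fin n) (Fin n) F₀ :=
    { toFun := fun x => P * x.1 * P'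
      map_one' := by
        show P * (1 : Matrix _ _ F₀) * P' = 1
        rw [Matrix.mul_one, hPP]
      map_mul' := fun x y => by
        show P * (x.1 * y.1) * P' = (P * x.1 * P') * (P * y.1 * P')
        calc P * (x.1 * y.1) * P' = P * x.1 * ((P' * P) * y.1) * P' := by
              rw [hPP', Matrix.one_mul]; simp only [Matrix.mul_assoc]
          _ = _ := by simp only [Matrix.mul_assoc] }
  let ρ : ↥(symplecticGroup (Fin m) F₀) →* GL (Fin n) F₀ := ρ₀.toHomUnits
  have hρ : ∀ x, (ρ x).1 = P * x.1 * P' := fun _ => rfl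
  have hscalar : ∀ (x : ↥(symplecticGroup (Fin m) F₀)) (b : F₀),
      x.1 = b • 1 → (ρ x).1 = b • (1 : Matrix (Fin n) (Fin n) F₀) := fun x b h => by
    rw [hρ, h, Matrix.mul_smul, Matrix.mul_one, Matrix.smul_mul, hPP]
  refine witness_model hF hn hs j hj hj' hM ρ ?_ ?_ ?_ ?_
  · intro x
    refine ⟨?_, by rw [hρ, Matrix.det_conj_of_mul_eq_one hPP hPP', SymplecticGroup.det_eq_one x.2]⟩
    rw [hρ]
    calc (P * x.1 * P')ᵀ * B.1 * (P * x.1 * P') = P'ᵀ * (x.1ᵀ * (Pᵀ * B.1 * P) * x.1) * P' := by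
          simp only [Matrix.transpose_mul, Matrix.mul_assoc]
      _ = _ := by rw [hP, SymplecticGroup.mem_iff'.mp x.2, hPJ]
  · intro R c hc hR x
    set S := P' * R.1 * P with hS
    set T := P' * (R⁻¹).1 * P with hT
    have hST : S * T = 1 := by
      calc S * T = P' * (R.1 * ((P * P') * (R⁻¹).1)) * P := by rw [hS, hT]; simp only [Matrix.mul_assoc]
        _ = 1 := by rw [hPP, Matrix.one_mul, Units.mul_inv, Matrix.mul_one, hPP']
    have hSJ : Sᵀ * Matrix.J (Fin m) F₀ * S = c • Matrix.J (Fin m) F₀ := by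
      calc Sᵀ * Matrix.J (Fin m) F₀ * S = Pᵀ * (R.1ᵀ * (P'ᵀ * Matrix.J (Fin m) F₀ * P') * R.1) * P := by
            rw [hS]; simp only [Matrix.transpose_mul, Matrix.mul_assoc]
        _ = _ := by rw [hPJ, hR, Matrix.mul_smul, Matrix.smul_mul, hP]
    have hTJ : c • (Tᵀ * Matrix.J (Fin m) F₀ * T) = Matrix.J (Fin m) F₀ := by
      calc c • (Tᵀ * Matrix.J (Fin m) F₀ * T) = Tᵀ * (Sᵀ * Matrix.J (Fin m) F₀ * S) * T := by
            rw [hSJ, Matrix.mul_smul, Matrix.smul_mul]
        _ = (S * T)ᵀ * Matrix.J (Fin m) F₀ * (S * T) := by simp only [Matrix.transpose_mul, Matrix.mul_assoc]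
        _ = _ := by rw [hST, Matrix.transpose_one, Matrix.one_mul, Matrix.mul_one]
    refine ⟨⟨S * x.1 * T, SymplecticGroup.mem_iff'.mpr ?_⟩, Units.ext ?_⟩
    · calc (S * x.1 * T)ᵀ * Matrix.J (Fin m) F₀ * (S * x.1 * T) =
            Tᵀ * (x.1ᵀ * (Sᵀ * Matrix.J (Fin m) F₀ * S) * x.1) * T := by
            simp only [Matrix.transpose_mul, Matrix.mul_assoc]
        _ = _ := by
          rw [hSJ, Matrix.mul_smul, Matrix.smul_mul, SymplecticGroup.mem_iff'.mp x.2, Matrix.mul_smul,
            Matrix.smul_mul, hTJ]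
    · rw [hρ, Units.val_mul, Units.val_mul, hρ]
      calc P * (S * x.1 * T) * P' = (P * P') * R.1 * (P * x.1 * P') * (R⁻¹).1 * (P * P') := by
            rw [hS, hT]; simp only [Matrix.mul_assoc]
        _ = _ := by rw [hPP, Matrix.one_mul, Matrix.mul_one]
  · intro G τ hG h
    refine scalar_of_lines (by omega) j τ G hG fun v => ?_
    by_cases hv : v = 0
    · exact ⟨0, by rw [hv]; funext i; simp [Matrix.mulVec, dotProduct]⟩
    set u := P' *ᵥ v with hu
    set w := (Matrix.J (Fin m) F₀ *ᵥ u) ᵥ* P' with hw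
    have hPu : P *ᵥ u = v := by rw [hu, Matrix.mulVec_mulVec, hPP, Matrix.one_mulVec]
    have hu0 : u ≠ 0 := fun h0 => hv (by rw [← hPu, h0, Matrix.mulVec_zero])
    have hmat : (ρ (tv u 1)).1 = 1 + Matrix.vecMulVec v w := by
      rw [hρ]
      show P * (sympTransvection m u 1) * P' = _
      rw [sympTransvection, Matrix.mul_add, Matrix.mul_one, Matrix.add_mul, hPP, one_smul, Matrix.mul_vecMulVec,
        Matrix.vecMulVec_mul, hPu]
    have hw0 : w ≠ 0 := by
      intro h0
      have h1 := congrArg (fun x => x ᵥ* P) h0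
      simp only [hw, Matrix.vecMul_vecMul, hPP', Matrix.vecMul_one, Matrix.zero_vecMul] at h1
      obtain ⟨z, hz⟩ := exists_form_ne_zero hu0
      refine hz ?_
      rw [form_swap, sympForm, h1, dotProduct_zero, neg_zero]
    have hwv : w ⬝ᵥ v = 0 := by
      rw [hw, ← Matrix.dotProduct_mulVec, ← hu, dotProduct_comm]
      exact form_self u
    have hN : Matrix.vecMulVec v w * Matrix.vecMulVec v w = 0 := by
      rw [Matrix.vecMulVec_mul_vecMulVec, hwv, zero_smul, Matrix.vecMulVec_zero]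
    obtain ⟨lam, hl⟩ := h (tv u 1)
    rw [hmat, Matrix.map_add j (map_add j), Matrix.map_one j (map_zero j) (map_one j), Matrix.map_add τ (map_add τ),
      Matrix.map_one τ (map_zero τ) (map_one τ)] at hl
    have hNj : (Matrix.vecMulVec v w).map j * (Matrix.vecMulVec v w).map j = 0 := by
      rw [← Matrix.map_mul, hN, Matrix.map_zero j (map_zero j)]
    have hc := comm_unipotent hG hNj (by rw [← Matrix.map_mul, hNj, Matrix.map_zero τ (map_zero τ)]) hl
    obtain ⟨i, hi⟩ : ∃ i, w i ≠ 0 := Function.ne_iff.mp hw0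
    refine ⟨((fun k => j (w k)) ᵥ* G) i / τ (j (w i)), funext fun r => ?_⟩
    have h1 := congrFun (congrFun hc r) i
    simp only [Matrix.mul_apply, Matrix.map_apply, Matrix.vecMulVec_apply, map_mul, ← mul_assoc] at h1
    rw [← Finset.sum_mul] at h1
    simp only [mul_assoc] at h1
    rw [← Finset.mul_sum] at h1
    simp only [Pi.smul_apply, smul_eq_mul, Matrix.mulVec, dotProduct, Matrix.vecMul]
    have hτw : τ (j (w i)) ≠ 0 := (map_ne_zero τ).mpr ((map_ne_zero j).mpr hi)
    field_simp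
    rw [h1]; ring
  · intro θ hθ M hM' hcop
    haveI := hM'
    haveI hN : (M.comap θ.rangeRestrict).Normal := Subgroup.Normal.comap ‹M.Normal› θ.rangeRestrict
    have h3 : 3 ≤ Fintype.card F₀ := by
      have h1 := Fintype.one_lt_card (α := F₀)
      by_contra hlt
      have h0 := FiniteField.cast_card_eq_zero F₀
      rw [show Fintype.card F₀ = 2 by omega] at h0
      exact h2 (by exact_mod_cast h0)
    rcases normal_le_center_or_eq_top (m := m) (F := F₀) (by omega) (M.comap θ.rangeRestrict) with h | h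
    · rw [← Subgroup.map_comap_eq_self_of_surjective θ.rangeRestrict_surjective M]
      refine (Subgroup.map_eq_bot_iff _).mpr fun x hx => Subtype.ext ?_
      obtain ⟨b, -, hb⟩ := mem_center_iff.mp (h hx)
      exact (hθ x).mpr ⟨b, hscalar x b (Matrix.ext_iff_mulVec.mpr fun z => by
        rw [Matrix.smul_mulVec, Matrix.one_mulVec]; exact hb z)⟩
    · exfalso
      let e : ↥(symplecticGroup (Fin m) F₀) := ⟨Matrix.J _ _, SymplecticGroup.J_mem _ _⟩
      have he : θ.rangeRestrict e ∈ M := by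
        have : e ∈ M.comap θ.rangeRestrict := by rw [h]; exact Subgroup.mem_top _
        exact this
      have ho : orderOf (θ.rangeRestrict e) = 2 := by
        refine orderOf_eq_prime ?_ fun h1 => ?_
        · rw [← map_pow]
          refine Subtype.ext ((hθ _).mpr ⟨-1, hscalar _ _ ?_⟩)
          rw [SubmonoidClass.coe_pow, pow_two]
          show Matrix.J (Fin m) F₀ * Matrix.J (Fin m) F₀ = _
          rw [Matrix.J_squared, neg_one_smul]
        · obtain ⟨b, hb⟩ := (hθ e).mp (congrArg Subtype.val h1)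
          have hJ : Matrix.J (Fin m) F₀ = b • 1 := by
            calc Matrix.J (Fin m) F₀ = P' * (P * Matrix.J (Fin m) F₀ * P') * P := by
                  simp only [← Matrix.mul_assoc, hPP', Matrix.one_mul]
                  rw [Matrix.mul_assoc, hPP', Matrix.mul_one]
              _ = _ := by
                rw [show P * Matrix.J (Fin m) F₀ * P' = b • 1 from hb, Matrix.mul_smul, Matrix.mul_one,
                  Matrix.smul_mul, hPP']
          have := congrFun (congrFun hJ (Sum.inr ⟨0, by omega⟩)) (Sum.inl ⟨0, by omega⟩)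
          simp [Matrix.J] at this
      have hdvd := Subgroup.orderOf_dvd_natCard M he
      rw [ho] at hdvd
      exact absurd (Nat.eq_one_of_dvd_coprimes hcop hdvd dvd_rfl) (by norm_num)

end CfsgLib.LocalBalance
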