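import Mathlib
import Cfsg.Agent.Lib.LocalBalance.PSUField
import Cfsg.Agent.Lib.LocalBalance.PSUGraph

/-!
Failure of local balance for automorphisms of `PSU_n(q)` that are not inner-diagonal.
-/

set_option autoImplicit false
set_option linter.unusedSectionVars false
set_option linter.style.haveILetI false
set_option maxHeartbeats 800000

namespace CfsgLib.LocalBalance

open Matrix Cfsg
open CfsgLib.Classical.Herm
open CfsgLib.AutPSU (SUg GUg simAut fieldAut graphU qEquiv)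
open CfsgLib.AutPSL (fixedField mem_fixedField)

variable {n : ℕ} {F : Type*} [Field F] [Fintype F] {q : ℕ}

/-- The criterion with an arbitrary prime; the first conjunct of S2687 always holds. -/
theorem psu_local_balance {r : ℕ} [Fact r.Prime] [CharP F r] (hF : Fintype.card F = q ^ 2) (hn : 3 ≤ n)
    (hs : ¬ (n = 3 ∧ q = 2)) {A : Subgroup (MulAut (Cfsg.PSU n F q))}
    (hinn : ∀ k : Cfsg.PSU n F q, MulAut.conj k ∈ A) {p : ℕ} [Fact p.Prime] (hpr : p ≠ r)
    {x : MulAut (Cfsg.PSU n F q)} (hord : orderOf x = p) (hnot : ¬ Cfsg.IsInnerDiagonalAutPSU x) :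
    Cfsg.pPrimeCore p ↥(A ⊓ Subgroup.centralizer {x}) ≠ ⊥ ↔
      ((∃ γ φ : MulAut (Cfsg.PSU n F q), Cfsg.IsInnerDiagonalAutPSU γ ∧
          (∃ σ : F ≃+* F, Cfsg.IsFieldAutPSUOf σ φ) ∧ x = φ.trans γ) ∧
        Nat.Coprime p (Nat.card ↥(fixPts x))) := by
  classical
  haveI : Finite (Cfsg.PSU n F q) := Quotient.finite _
  have hp : p.Prime := Fact.out
  have hr : r.Prime := Fact.out
  have hZ := psu_center (K := F) hF hn
  obtain ⟨g, σ, hx⟩ := CfsgLib.AutPSU.aut_decomposition hF hn hs x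
  have hcl : ∃ γ φ : MulAut (Cfsg.PSU n F q), Cfsg.IsInnerDiagonalAutPSU γ ∧
      (∃ σ : F ≃+* F, Cfsg.IsFieldAutPSUOf σ φ) ∧ x = φ.trans γ :=
    ⟨simAut g, fieldAut σ, CfsgLib.AutPSU.isInnerDiagonalAutPSU_iff.mpr ⟨g, rfl⟩,
      ⟨σ, CfsgLib.AutPSU.isFieldAutPSUOf_iff.mpr rfl⟩, hx⟩
  have hσ1 : σ ≠ 1 := fun h1 => hnot (CfsgLib.AutPSU.isInnerDiagonalAutPSU_iff.mpr
    ⟨g, by rw [hx, h1, map_one, mul_one]⟩)
  have hxp : (simAut g * fieldAut σ : MulAut (Cfsg.PSU n F q)) ^ p = 1 := by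
    rw [← hx, ← hord]; exact pow_orderOf_eq_one x
  have hσp : orderOf σ = p := by
    refine orderOf_eq_prime ?_ hσ1
    obtain ⟨P, hP, -⟩ := CfsgLib.AutPSU.pow_semi hF g σ p
    rw [hP] at hxp
    exact (CfsgLib.AutPSU.semilinear_eq_one hF hn hs hxp).1
  have hFr : ∃ N, Fintype.card F = r ^ N := by
    obtain ⟨N, -, hN⟩ := FiniteField.card F r
    exact ⟨N, hN⟩
  rcases eq_or_ne p 2 with hp2 | hp2
  · -- graph automorphisms: the fixed points have even order and the core is trivial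
    subst hp2
    have h2 : (2 : F) ≠ 0 := fun h0 => hpr ((Nat.prime_dvd_prime_iff_eq hr Nat.prime_two).mp
      ((CharP.cast_eq_zero_iff F r 2).mp (by exact_mod_cast h0))).symm
    obtain rfl := CfsgLib.AutPSU.eq_qEquiv hF hσp
    have hgraph : Cfsg.IsGraphAutClassPSU x := by
      rw [hx]; exact CfsgLib.AutPSU.isGraph_graphU hF hn g
    letI : Fintype ↥(fixedField (qEquiv hF)) := Fintype.ofFinite _
    let j := (fixedField (qEquiv hF)).subtype
    have hj : ∀ a, qPow hF (j a) = j a := fun a => (mem_fixedField _).mp a.2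
    have hj' : ∀ y, qPow hF y = y → ∃ a, j a = y := fun y hy => ⟨⟨y, (mem_fixedField _).mpr hy⟩, rfl⟩
    obtain ⟨g', B, hxg, hM, hB⟩ := CfsgLib.AutPSU.exists_model_of_graph hF hn hs j hj' hgraph hord
    have h20 : (2 : ↥(fixedField (qEquiv hF))) ≠ 0 := fun h0 => h2 (by rw [← map_ofNat j 2, h0, map_zero])
    obtain ⟨L, w, hL⟩ : ∃ L, Witness 2 (graphU hF g') L ∧ 2 ∣ Nat.card ↥L := by
      rcases hB with hB | hB
      · exact witness_sym hF hn hs j hj hj' hM h20 hB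
      · exact witness_alt hF hn hs j hj hj' hM h20 hB
    rw [← hxg] at w
    refine ⟨fun hne => absurd (w.pPrimeCore_eq_bot hZ hinn hord) hne, fun ⟨_, hcop⟩ => absurd ?_ Nat.prime_two.ne_one⟩
    exact Nat.eq_one_of_dvd_coprimes hcop dvd_rfl (hL.trans (Subgroup.card_dvd_of_le w.le))
  · -- field automorphisms of odd order
    have hodd : Odd p := hp.odd_of_ne_two hp2
    obtain ⟨h', hh'⟩ := CfsgLib.AutPSU.field_coset_conj hF hn hs hσp hodd hxp
    rw [← hx] at hh'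
    obtain ⟨q₀, hq0⟩ : ∃ q₀, q = q₀ ^ p := by
      obtain ⟨N, hN⟩ := hFr
      obtain ⟨f, -, hf⟩ := (Nat.dvd_prime_pow hr).mp (show q ∣ r ^ N from hN ▸ hF ▸ dvd_pow_self q two_ne_zero)
      have hF2 : Fintype.card F = r ^ (2 * f) := by rw [hF, hf, ← pow_mul, mul_comm]
      have hdvd := (CfsgLib.AutPSL.fixedField_card σ hF2 hσp).1
      obtain ⟨e, he⟩ := ((Nat.coprime_primes hp Nat.prime_two).mpr hp2).dvd_of_dvd_mul_left hdvd
      exact ⟨r ^ e, by rw [hf, he, ← pow_mul, mul_comm]⟩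
    letI : Fintype ↥(fixedField σ) := Fintype.ofFinite _
    have hF₀ : Fintype.card ↥(fixedField σ) = q₀ ^ 2 := by
      rw [← Nat.card_eq_fintype_card, CfsgLib.AutPSU.card_fixed_field hF hσp hp.ne_zero hq0]
    let ι := (fixedField σ).subtype
    have hι : ∀ a, σ (ι a) = ι a := fun a => (mem_fixedField σ).mp a.2
    have hι' : ∀ y, σ y = y → ∃ a, ι a = y := fun y hy => ⟨⟨y, (mem_fixedField σ).mpr hy⟩, rfl⟩
    have hcompat := CfsgLib.AutPSU.base_compat hF₀ hq0 hodd ι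
    have hdvd : ∀ k, k ∈ fixPts x ↔ (simAut h')⁻¹ k ∈ fixPts (fieldAut σ : MulAut (Cfsg.PSU n F q)) := fun k => by
      rw [mem_fixPts, mem_fixPts, hh']
      show simAut h' (fieldAut σ ((simAut h')⁻¹ k)) = k ↔ _
      rw [← (simAut h').apply_eq_iff_eq (x := fieldAut σ ((simAut h')⁻¹ k)) (y := (simAut h')⁻¹ k),
        MulAut.apply_inv_self]
    refine ⟨fun hne => ⟨hcl, ?_⟩, fun ⟨_, hcop⟩ => pPrimeCore_ne_bot hZ hinn ?_ hcop⟩
    · by_contra hc
      rw [hp.coprime_iff_not_dvd, not_not, Nat.card_congr ((simAut h')⁻¹.toEquiv.subtypeEquiv hdvd)] at hc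
      exact hne (hh' ▸ ((witness_psu_field hF hF₀ ι hcompat σ hι hι' hn hs hp2 hc).map
        (simAut h')).pPrimeCore_eq_bot hZ hinn (hh' ▸ hord))
    · intro hbot
      obtain ⟨ζ, hζ⟩ := exists_normOne_ne hF₀
      obtain ⟨y, ⟨t, ht⟩, hy1, -⟩ := exists_diag_image (n := n) hF hF₀ ι hcompat hn hζ
        (p := q₀ + 1) (Subtype.ext (MonoidHom.mem_ker.mp ζ.2))
      have h1 : simAut h' y ∈ fixPts x := by
        rw [hdvd, MulAut.inv_apply_self, ← ht]
        exact fix_basePSU hF hF₀ ι hcompat σ hι t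
      rw [hbot, Subgroup.mem_bot, MulEquiv.map_eq_one_iff] at h1
      exact hy1 h1

end CfsgLib.LocalBalance
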